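import Groth.Agent.DescLib.Main
import Groth.Agent.SubDescLib.Fpqc
import Groth.Agent.ModPairLib.Coprod

/-!
# Ideal sheaves glue along open covers
-/

set_option autoImplicit false
set_option linter.style.haveILetI false
set_option backward.isDefEq.respectTransparency false
set_option backward.isDefEq.respectTransparency.types false

universe u

open CategoryTheory CategoryTheory.Limits AlgebraicGeometry TopologicalSpace

noncomputable section

namespace HilbPts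

variable {T : Scheme.{u}} (𝒰 : Scheme.OpenCover.{u} T)

theorem eq_of_cover {I J : T.IdealSheafData} (h : ∀ i, I.comap (𝒰.f i) = J.comap (𝒰.f i)) : I = J :=
  le_antisymm (ModPairLib.le_of_cover 𝒰 fun i => (h i).le) (ModPairLib.le_of_cover 𝒰 fun i => (h i).ge)

theorem fpqc_desc : DescLib.Fpqc (Sigma.desc 𝒰.f) := by
  haveI : Surjective (Sigma.desc 𝒰.f) := ⟨fun t => by
    obtain ⟨i, y, hy⟩ := 𝒰.exists_eq t
    exact ⟨Sigma.ι 𝒰.X i y, by rw [← Scheme.Hom.comp_apply, Sigma.ι_desc]; exact hy⟩⟩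
  haveI : Flat (Sigma.desc 𝒰.f) := IsZariskiLocalAtSource.of_openCover (P := @Flat) (sigmaOpenCover 𝒰.X) fun (i : 𝒰.I₀) => by
    change Flat (Sigma.ι 𝒰.X i ≫ Sigma.desc 𝒰.f)
    rw [Sigma.ι_desc]
    infer_instance
  let C : T.Cover (Scheme.precoverage @Flat) := (Sigma.desc 𝒰.f).cover (P := @Flat) inferInstance
  have hop : IsOpenMap (Sigma.desc 𝒰.f) := fun V hV => by
    have e : (Sigma.desc 𝒰.f) '' V = ⋃ i, (𝒰.f i) '' ((Sigma.ι 𝒰.X i) ⁻¹' V) := by
      ext t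
      simp only [Set.mem_image, Set.mem_iUnion, Set.mem_preimage]
      constructor
      · rintro ⟨z, hz, rfl⟩
        obtain ⟨⟨i, y⟩, rfl⟩ := (sigmaMk 𝒰.X).surjective z
        rw [sigmaMk_mk] at hz ⊢
        exact ⟨i, y, hz, by rw [← Scheme.Hom.comp_apply, Sigma.ι_desc]⟩
      · rintro ⟨i, y, hy, rfl⟩
        exact ⟨_, hy, by rw [← Scheme.Hom.comp_apply, Sigma.ι_desc]⟩
    rw [e]
    exact isOpen_iUnion fun i => (𝒰.f i).isOpenEmbedding.isOpenMap _ ((Sigma.ι 𝒰.X i).continuous.isOpen_preimage _ hV)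
  haveI : QuasiCompactCover C.1 := QuasiCompactCover.of_isOpenMap fun _ => hop
  refine DescLib.Fpqc.of_memOfArrows _ ⟨?_, ?_⟩
  · exact Scheme.presieve₀_mem_qcPrecoverage_iff.mpr (inferInstance : QuasiCompactCover C.1)
  · exact C.mem₀

theorem comap_eq_bot_iff {Z X : Scheme.{u}} (J : X.IdealSheafData) (x : Z ⟶ X) :
    J.comap x = ⊥ ↔ J ≤ x.ker := by
  rw [← le_bot_iff, ← Scheme.IdealSheafData.le_map_iff_comap_le, Scheme.IdealSheafData.map_bot]

/-- Ideal sheaves with equal restrictions to the overlaps glue. -/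
theorem exists_glue (J : ∀ i, (𝒰.X i).IdealSheafData)
    (h : ∀ i j, (J i).comap (pullback.fst (𝒰.f i) (𝒰.f j)) = (J j).comap (pullback.snd (𝒰.f i) (𝒰.f j))) :
    ∃ I : T.IdealSheafData, ∀ i, I.comap (𝒰.f i) = J i := by
  let g : (∐ 𝒰.X) ⟶ T := Sigma.desc 𝒰.f
  haveI : DescLib.Fpqc g := fpqc_desc 𝒰
  let J' := ModPairLib.sigmaIdeal 𝒰.X J
  have hJ : ∀ i, J'.comap (Sigma.ι 𝒰.X i) = J i := fun i => ModPairLib.comap_sigmaIdeal 𝒰.X J i
  have heq : ∀ {Z : Scheme.{u}} (x₀ x₁ : Z ⟶ ∐ 𝒰.X), x₀ ≫ g = x₁ ≫ g → J'.comap x₀ = J'.comap x₁ := by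
    intro Z x₀ x₁ hx
    let C := ((sigmaOpenCover 𝒰.X).pullback₁ x₀).bind fun a =>
      (sigmaOpenCover 𝒰.X).pullback₁ (((sigmaOpenCover 𝒰.X).pullback₁ x₀).f a ≫ x₁)
    refine eq_of_cover C fun c => ?_
    have hc₀ : ∃ (i : 𝒰.I₀) (v : C.X c ⟶ 𝒰.X i), C.f c ≫ x₀ = v ≫ Sigma.ι 𝒰.X i :=
      ⟨c.1, pullback.fst _ _ ≫ pullback.snd _ _, by
        change (pullback.fst _ _ ≫ pullback.fst _ _) ≫ x₀ = _
        rw [Category.assoc, pullback.condition]
        simp only [Category.assoc]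
        rfl⟩
    have hc₁ : ∃ (j : 𝒰.I₀) (v : C.X c ⟶ 𝒰.X j), C.f c ≫ x₁ = v ≫ Sigma.ι 𝒰.X j :=
      ⟨c.2, pullback.snd _ _, by
        change (pullback.fst _ _ ≫ pullback.fst _ _) ≫ x₁ = _
        rw [Category.assoc]
        exact pullback.condition⟩
    obtain ⟨i, v₀, h₀⟩ := hc₀
    obtain ⟨j, v₁, h₁⟩ := hc₁
    have hv : v₀ ≫ 𝒰.f i = v₁ ≫ 𝒰.f j := by
      have := congrArg (C.f c ≫ ·) hx
      simp only [← Category.assoc, h₀, h₁] at this
      simpa [g, Category.assoc] using this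
    rw [← Scheme.IdealSheafData.comap_comp, ← Scheme.IdealSheafData.comap_comp, h₀, h₁,
      Scheme.IdealSheafData.comap_comp, Scheme.IdealSheafData.comap_comp, hJ, hJ,
      ← pullback.lift_fst v₀ v₁ hv, Scheme.IdealSheafData.comap_comp, h,
      ← Scheme.IdealSheafData.comap_comp, pullback.lift_snd]
  have key : ∀ {Z : Scheme.{u}} (x₀ x₁ : Z ⟶ ∐ 𝒰.X), x₀ ≫ g = x₁ ≫ g → J' ≤ x₀.ker → J' ≤ x₁.ker := by
    intro Z x₀ x₁ hx h0
    rw [← comap_eq_bot_iff] at h0 ⊢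
    rwa [← heq x₀ x₁ hx]
  have toLe : ∀ {Z : Scheme.{u}} {x : Z ⟶ ∐ 𝒰.X}, Desc.Lifts (Over.mk J'.subschemeι) x → J' ≤ x.ker := by
    rintro Z x ⟨v, rfl⟩
    exact (Scheme.IdealSheafData.ker_subschemeι J').symm.le.trans (Scheme.Hom.le_ker_comp v _)
  have hsub : ∀ {Z : Scheme.{u}} {x : Z ⟶ ∐ 𝒰.X} (v w : Desc.Lifts (Over.mk J'.subschemeι) x), v = w :=
    fun v w => Subtype.ext ((cancel_mono J'.subschemeι).mp (v.2.trans w.2.symm))
  let toLift : ∀ {Z : Scheme.{u}} {x : Z ⟶ ∐ 𝒰.X}, J' ≤ x.ker → Desc.Lifts (Over.mk J'.subschemeι) x :=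
    fun {Z x} hx => ⟨IsClosedImmersion.lift J'.subschemeι x ((Scheme.IdealSheafData.ker_subschemeι J').le.trans hx),
      IsClosedImmersion.lift_fac _ _ _⟩
  let D : Desc.SchDD g :=
    { obj := Over.mk J'.subschemeι
      φ := fun Z x₀ x₁ hx =>
        { toFun := fun v => toLift (key x₀ x₁ hx (toLe v))
          invFun := fun v => toLift (key x₁ x₀ hx.symm (toLe v))
          left_inv := fun v => hsub _ _
          right_inv := fun v => hsub _ _ }
      φ_natural := fun Z Z' c x₀ x₁ hx hx' v v' hv => by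
        refine (cancel_mono J'.subschemeι).mp ?_
        exact (Subtype.prop (toLift (key _ _ hx' (toLe v')))).trans (((congrArg (c ≫ ·)
          (Subtype.prop (toLift (key x₀ x₁ hx (toLe v))))).symm).trans (Category.assoc _ _ _).symm)
      φ_self := fun Z x v => hsub _ _
      φ_comp := fun Z x₀ x₁ x₂ h₁ h₂ v => hsub _ _ }
  haveI : IsAffineHom D.obj.hom := (inferInstance : IsAffineHom J'.subschemeι)
  obtain ⟨U, ⟨e⟩⟩ := DescLib.effective_of_isAffineHom (p := g) D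
  let E : pullback g U.hom ⟶ J'.subscheme := e.hom.hom.left
  have hfwd : E ≫ J'.subschemeι = pullback.fst g U.hom := Over.w e.hom.hom
  have h1 : e.hom.hom.left ≫ e.inv.hom.left = 𝟙 _ := congrArg (fun t => t.hom.left) e.hom_inv_id
  have h2 : e.inv.hom.left ≫ e.hom.hom.left = 𝟙 _ := congrArg (fun t => t.hom.left) e.inv_hom_id
  haveI : IsIso E := ⟨e.inv.hom.left, h1, h2⟩
  haveI : IsClosedImmersion (pullback.fst g U.hom) := by
    rw [← hfwd]; infer_instance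
  haveI : IsClosedImmersion U.hom := by
    refine Groth.Agent.SubDesc.prop_of_fpqc @IsClosedImmersion g U.hom ?_
    rw [← pullbackSymmetry_hom_comp_fst]
    infer_instance
  refine ⟨U.hom.ker, fun i => ?_⟩
  have hI : U.hom.ker.comap g = J' := by
    rw [← Scheme.IdealSheafData.ker_fst_of_isClosedImmersion, ← hfwd, Scheme.Hom.ker_comp_of_isIso,
      Scheme.IdealSheafData.ker_subschemeι]
  rw [← hJ i, ← hI, ← Scheme.IdealSheafData.comap_comp, Sigma.ι_desc]

end HilbPts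

end
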