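import Groth.Prelude.Def_HilbD
import Groth.Agent.HilbPtsLib.Glue
import Mathlib.AlgebraicGeometry.IdealSheaf.Functorial
import Mathlib.AlgebraicGeometry.Sites.Representability

/-!
# The functor of finite locally free closed subschemes of degree `d`
-/

set_option autoImplicit false
set_option linter.style.haveILetI false
set_option backward.isDefEq.respectTransparency false
set_option backward.isDefEq.respectTransparency.types false

universe u

open CategoryTheory CategoryTheory.Limits AlgebraicGeometry TopologicalSpace Opposite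

noncomputable section

namespace HilbPts

variable {X S : Scheme.{u}} (f : X ⟶ S)

/-- The map of base changes of `f`. -/
def m {T T' : Scheme.{u}} {g : T ⟶ S} {g' : T' ⟶ S} (h : T' ⟶ T) (w : h ≫ g = g') :
    pullback f g' ⟶ pullback f g :=
  pullback.lift (pullback.fst f g') (pullback.snd f g' ≫ h)
    (by rw [Category.assoc, w]; exact pullback.condition)

@[reassoc (attr := simp)]
theorem m_fst {T T' : Scheme.{u}} {g : T ⟶ S} {g' : T' ⟶ S} (h : T' ⟶ T) (w : h ≫ g = g') :
    m f h w ≫ pullback.fst f g = pullback.fst f g' := pullback.lift_fst _ _ _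

@[reassoc (attr := simp)]
theorem m_snd {T T' : Scheme.{u}} {g : T ⟶ S} {g' : T' ⟶ S} (h : T' ⟶ T) (w : h ≫ g = g') :
    m f h w ≫ pullback.snd f g = pullback.snd f g' ≫ h := pullback.lift_snd _ _ _

theorem m_comp {T T' T'' : Scheme.{u}} {g : T ⟶ S} {g' : T' ⟶ S} {g'' : T'' ⟶ S} (h : T' ⟶ T)
    (w : h ≫ g = g') (h' : T'' ⟶ T') (w' : h' ≫ g' = g'') :
    m f h' w' ≫ m f h w = m f (h' ≫ h) (by rw [Category.assoc, w, w']) :=
  pullback.hom_ext (by simp) (by simp)

theorem m_id {T : Scheme.{u}} {g : T ⟶ S} (w : 𝟙 T ≫ g = g) : m f (𝟙 T) w = 𝟙 (pullback f g) :=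
  pullback.hom_ext (by simp) (by simp)

theorem isPullback_m {T T' : Scheme.{u}} {g : T ⟶ S} {g' : T' ⟶ S} (h : T' ⟶ T) (w : h ≫ g = g') :
    IsPullback (m f h w) (pullback.snd f g') (pullback.snd f g) h := by
  refine IsPullback.of_right ?_ (m_snd f h w) (IsPullback.of_hasPullback f g)
  rw [m_fst, w]
  exact IsPullback.of_hasPullback f g'

theorem isOpenImmersion_m {T T' : Scheme.{u}} {g : T ⟶ S} {g' : T' ⟶ S} (h : T' ⟶ T) (w : h ≫ g = g')
    [IsOpenImmersion h] : IsOpenImmersion (m f h w) :=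
  MorphismProperty.of_isPullback (P := @IsOpenImmersion) (isPullback_m f h w).flip ‹_›

theorem range_m {T T' : Scheme.{u}} {g : T ⟶ S} {g' : T' ⟶ S} (h : T' ⟶ T) (w : h ≫ g = g') :
    Set.range (m f h w) = pullback.snd f g ⁻¹' Set.range h := by
  refine Set.Subset.antisymm ?_ fun z hz => ?_
  · rintro _ ⟨z, rfl⟩
    exact ⟨pullback.snd f g' z, by rw [← Scheme.Hom.comp_apply, ← Scheme.Hom.comp_apply, m_snd]⟩
  · obtain ⟨y, hy⟩ := hz
    obtain ⟨q, hq, -⟩ := Scheme.Pullback.exists_preimage_pullback (f := pullback.snd f g) (g := h) z y hy.symm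
    exact ⟨(isPullback_m f h w).isoPullback.inv q,
      by rw [← Scheme.Hom.comp_apply, (isPullback_m f h w).isoPullback_inv_fst, hq]⟩

/-- The kernel of the base change of a closed subscheme. -/
theorem isPullback_comap {P Q : Scheme.{u}} (I : Q.IdealSheafData) (a : P ⟶ Q) :
    IsPullback ((I.comapIso a).hom ≫ pullback.snd a I.subschemeι) (I.comap a).subschemeι I.subschemeι a := by
  refine IsPullback.of_iso_pullback ⟨?_⟩ (I.comapIso a ≪≫ pullbackSymmetry _ _) ?_ ?_
  · rw [Category.assoc, ← pullback.condition, ← Category.assoc, Scheme.IdealSheafData.comapIso_hom_fst]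
  · simp
  · simp

theorem isPullback_comap_m {T T' : Scheme.{u}} {g : T ⟶ S} {g' : T' ⟶ S} (h : T' ⟶ T) (w : h ≫ g = g')
    (I : (pullback f g).IdealSheafData) :
    IsPullback ((I.comapIso (m f h w)).hom ≫ pullback.snd (m f h w) I.subschemeι)
      ((I.comap (m f h w)).subschemeι ≫ pullback.snd f g') (I.subschemeι ≫ pullback.snd f g) h :=
  (isPullback_comap I (m f h w)).paste_vert (isPullback_m f h w)

theorem isFinLocFreeOfDeg_of_isPullback {P Q R R' : Scheme.{u}} {d : ℕ} {a : P ⟶ Q} {b : P ⟶ R'}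
    {c : Q ⟶ R} {h : R' ⟶ R} (H : IsPullback a b c h) (hc : Mor2.IsFinLocFreeOfDeg d c) :
    Mor2.IsFinLocFreeOfDeg d b := by
  obtain ⟨⟨h1, h2, h3⟩, h4⟩ := hc
  refine ⟨⟨MorphismProperty.of_isPullback (P := @IsFinite) H h1,
    MorphismProperty.of_isPullback (P := @Flat) H h2,
    MorphismProperty.of_isPullback (P := @LocallyOfFinitePresentation) H h3⟩, fun y => ?_⟩
  rw [Scheme.Hom.finrank_of_isPullback _ _ _ _ H y]
  exact h4 _

variable (d : ℕ)

/-- A `T`-point: a morphism to the base and a closed subscheme finite locally free of degree `d`. -/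
structure HPt (T : Scheme.{u}) where
  /-- the map to the base -/
  g : T ⟶ S
  /-- the ideal sheaf -/
  I : (pullback f g).IdealSheafData
  prop : Mor2.IsFinLocFreeOfDeg d (I.subschemeι ≫ pullback.snd f g)

variable {f d}

theorem HPt.ext' {T : Scheme.{u}} {P Q : HPt f d T} (hg : P.g = Q.g)
    (hI : P.I = Q.I.comap (m f (𝟙 T) (by rw [Category.id_comp, hg]))) : P = Q := by
  obtain ⟨g, I, hp⟩ := P
  obtain ⟨g', I', hq⟩ := Q
  obtain rfl : g = g' := hg
  rw [m_id, Scheme.IdealSheafData.comap_id] at hI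
  cases hI
  rfl

theorem HPt.I_eq {T : Scheme.{u}} {P Q : HPt f d T} (h : P = Q) (w : 𝟙 T ≫ Q.g = P.g) :
    P.I = Q.I.comap (m f (𝟙 T) w) := by
  subst h
  rw [m_id, Scheme.IdealSheafData.comap_id]

/-- The base change of a point. -/
def HPt.map {T T' : Scheme.{u}} (h : T' ⟶ T) (P : HPt f d T) : HPt f d T' :=
  ⟨h ≫ P.g, P.I.comap (m f h rfl), isFinLocFreeOfDeg_of_isPullback (isPullback_comap_m f h rfl P.I) P.prop⟩

@[simp] theorem HPt.map_g {T T' : Scheme.{u}} (h : T' ⟶ T) (P : HPt f d T) : (P.map h).g = h ≫ P.g := rfl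

theorem HPt.map_id {T : Scheme.{u}} (P : HPt f d T) : P.map (𝟙 T) = P :=
  HPt.ext' (Category.id_comp _) rfl

theorem HPt.map_map {T T' T'' : Scheme.{u}} (h : T' ⟶ T) (h' : T'' ⟶ T') (P : HPt f d T) :
    (P.map h).map h' = P.map (h' ≫ h) := by
  refine HPt.ext' (Category.assoc _ _ _).symm ?_
  show (P.I.comap (m f h rfl)).comap (m f h' rfl) = (P.I.comap (m f (h' ≫ h) rfl)).comap _
  rw [← Scheme.IdealSheafData.comap_comp, ← Scheme.IdealSheafData.comap_comp, m_comp, m_comp]
  congr 1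

variable (f d)

/-- The Hilbert functor of points, on all schemes. -/
def hilbF : Scheme.{u}ᵒᵖ ⥤ Type u where
  obj T := HPt f d T.unop
  map h := TypeCat.ofHom (HPt.map h.unop)
  map_id T := ConcreteCategory.hom_ext _ _ fun P => P.map_id
  map_comp h h' := ConcreteCategory.hom_ext _ _ fun P => (P.map_map h.unop h'.unop).symm

variable {f d}

/-- The base change of an open cover. -/
abbrev coverM {T : Scheme.{u}} (𝒰 : Scheme.OpenCover.{u} T) (g : T ⟶ S) (g' : ∀ i, 𝒰.X i ⟶ S)
    (hg : ∀ i, 𝒰.f i ≫ g = g' i) : Scheme.OpenCover.{u} (pullback f g) where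
  I₀ := 𝒰.I₀
  X i := pullback f (g' i)
  f i := m f (𝒰.f i) (hg i)
  mem₀ := by
    rw [Scheme.presieve₀_mem_precoverage_iff]
    refine ⟨fun z => ?_, fun i => isOpenImmersion_m f (𝒰.f i) (hg i)⟩
    obtain ⟨i, y, hy⟩ := 𝒰.exists_eq (pullback.snd f g z)
    exact ⟨i, by rw [range_m]; exact ⟨y, hy⟩⟩

theorem HPt.eq_of_cover {T : Scheme.{u}} {P Q : HPt f d T} (𝒰 : Scheme.OpenCover.{u} T)
    (h : ∀ i, P.map (𝒰.f i) = Q.map (𝒰.f i)) : P = Q := by
  have hg : P.g = Q.g := 𝒰.hom_ext _ _ fun i => congrArg HPt.g (h i)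
  refine HPt.ext' hg ?_
  let C := coverM (f := f) 𝒰 P.g _ fun i => (rfl : 𝒰.f i ≫ P.g = _)
  refine HilbPts.eq_of_cover C fun i => ?_
  show P.I.comap (m f (𝒰.f i) rfl) = (Q.I.comap (m f (𝟙 T) _)).comap (m f (𝒰.f i) rfl)
  rw [show P.I.comap (m f (𝒰.f i) rfl) = (P.map (𝒰.f i)).I from rfl,
    HPt.I_eq (h i) (by simp [hg])]
  show (Q.I.comap (m f (𝒰.f i) rfl)).comap _ = _
  rw [← Scheme.IdealSheafData.comap_comp, ← Scheme.IdealSheafData.comap_comp, m_comp, m_comp]
  congr 2

set_option maxHeartbeats 1000000 in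
/-- Compatible points on an open cover glue. -/
theorem HPt.exists_glue {T : Scheme.{u}} (𝒰 : Scheme.OpenCover.{u} T) (P : ∀ i, HPt f d (𝒰.X i))
    (hP : ∀ i j, (P i).map (pullback.fst (𝒰.f i) (𝒰.f j)) = (P j).map (pullback.snd (𝒰.f i) (𝒰.f j))) :
    ∃ Q : HPt f d T, ∀ i, Q.map (𝒰.f i) = P i := by
  let g : T ⟶ S := 𝒰.glueMorphisms (fun i => (P i).g) fun i j => congrArg HPt.g (hP i j)
  have hg : ∀ i, 𝒰.f i ≫ g = (P i).g := fun i => Scheme.Cover.ι_glueMorphisms 𝒰 _ _ i
  let C := coverM (f := f) 𝒰 g _ hg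
  have hC : ∀ i j, ((P i).I).comap (pullback.fst (C.f i) (C.f j)) =
      ((P j).I).comap (pullback.snd (C.f i) (C.f j)) := fun i j => by
    change (P i).I.comap (pullback.fst (m f (𝒰.f i) (hg i)) (m f (𝒰.f j) (hg j))) =
      (P j).I.comap (pullback.snd (m f (𝒰.f i) (hg i)) (m f (𝒰.f j) (hg j)))
    let a := pullback.fst (m f (𝒰.f i) (hg i)) (m f (𝒰.f j) (hg j))
    let b := pullback.snd (m f (𝒰.f i) (hg i)) (m f (𝒰.f j) (hg j))
    have hab : a ≫ m f (𝒰.f i) (hg i) = b ≫ m f (𝒰.f j) (hg j) := pullback.condition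
    let q₁ := pullback.fst (𝒰.f i) (𝒰.f j)
    let q₂ := pullback.snd (𝒰.f i) (𝒰.f j)
    let c := pullback.lift (f := 𝒰.f i) (g := 𝒰.f j) (a ≫ pullback.snd f (P i).g) (b ≫ pullback.snd f (P j).g)
      (by simpa [Category.assoc] using congrArg (· ≫ pullback.snd f g) hab)
    let e := pullback.lift (f := f) (g := ((P i).map q₁).g) (a ≫ pullback.fst f (P i).g) c
      (by
        show (a ≫ pullback.fst f (P i).g) ≫ f = c ≫ q₁ ≫ (P i).g
        rw [← Category.assoc c, pullback.lift_fst, Category.assoc, Category.assoc, pullback.condition])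
    have ha : e ≫ m f q₁ rfl = a := by
      refine pullback.hom_ext ?_ ?_
      · rw [Category.assoc, m_fst, pullback.lift_fst]
      · rw [Category.assoc, m_snd, ← Category.assoc, pullback.lift_snd, pullback.lift_fst]
    have w : 𝟙 (pullback (𝒰.f i) (𝒰.f j)) ≫ ((P j).map q₂).g = ((P i).map q₁).g := by
      rw [Category.id_comp]; exact congrArg HPt.g (hP i j).symm
    have hb : e ≫ m f (𝟙 _) w ≫ m f q₂ rfl = b := by
      refine pullback.hom_ext ?_ ?_
      · simp only [Category.assoc, m_fst]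
        rw [pullback.lift_fst]
        simpa [Category.assoc] using congrArg (· ≫ pullback.fst f g) hab
      · simp only [Category.assoc, m_snd, m_snd_assoc, Category.id_comp]
        rw [← Category.assoc, pullback.lift_snd, pullback.lift_snd]
    change (P i).I.comap a = (P j).I.comap b
    rw [← ha, ← hb, Scheme.IdealSheafData.comap_comp, Scheme.IdealSheafData.comap_comp,
      Scheme.IdealSheafData.comap_comp]
    exact congrArg (·.comap e) (HPt.I_eq (hP i j) w)
  obtain ⟨I, hI⟩ := HilbPts.exists_glue C (fun i => (P i).I) hC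
  have hI' : ∀ i, I.comap (m f (𝒰.f i) (hg i)) = (P i).I := hI
  let π := I.subschemeι ≫ pullback.snd f g
  let π' := fun i => (I.comap (m f (𝒰.f i) (hg i))).subschemeι ≫ pullback.snd f (P i).g
  have hπ' : ∀ i, Mor2.IsFinLocFreeOfDeg d (π' i) := fun i => by
    show Mor2.IsFinLocFreeOfDeg d ((I.comap (m f (𝒰.f i) (hg i))).subschemeι ≫ pullback.snd f (P i).g)
    rw [hI' i]; exact (P i).prop
  have sq : ∀ i, IsPullback ((I.comapIso (m f (𝒰.f i) (hg i))).hom ≫ pullback.snd (m f (𝒰.f i) (hg i)) I.subschemeι)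
      (π' i) π (𝒰.f i) := fun i => isPullback_comap_m f (𝒰.f i) (hg i) I
  have hsnd : ∀ i, pullback.snd π (𝒰.f i) = (sq i).isoPullback.inv ≫ π' i := fun i =>
    ((sq i).isoPullback_inv_snd).symm
  have hπ : Mor2.IsFinLocFreeOfDeg d π := by
    haveI h1 : IsFinite π := (IsZariskiLocalAtTarget.iff_of_openCover (P := @IsFinite) 𝒰).2 fun i => by
      show IsFinite (pullback.snd π (𝒰.f i))
      haveI := (hπ' i).1.1
      rw [hsnd i]; infer_instance
    haveI h2 : Flat π := (IsZariskiLocalAtTarget.iff_of_openCover (P := @Flat) 𝒰).2 fun i => by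
      show Flat (pullback.snd π (𝒰.f i))
      haveI := (hπ' i).1.2.1
      rw [hsnd i]; infer_instance
    refine ⟨⟨h1, h2, (IsZariskiLocalAtTarget.iff_of_openCover (P := @LocallyOfFinitePresentation) 𝒰).2 fun i => ?_⟩,
      fun t => ?_⟩
    · show LocallyOfFinitePresentation (pullback.snd π (𝒰.f i))
      haveI := (hπ' i).1.2.2
      rw [hsnd i]; infer_instance
    · obtain ⟨i, y, rfl⟩ := 𝒰.exists_eq t
      rw [← Scheme.Hom.finrank_of_isPullback _ _ _ _ (sq i) y]
      exact (hπ' i).2 y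
  refine ⟨⟨g, I, hπ⟩, fun i => HPt.ext' (hg i) ?_⟩
  show I.comap (m f (𝒰.f i) rfl) = (P i).I.comap (m f (𝟙 _) _)
  rw [← hI' i, ← Scheme.IdealSheafData.comap_comp, m_comp]
  congr 2

variable (f d)

theorem isSheaf_hilbF : Presheaf.IsSheaf Scheme.zariskiTopology (hilbF f d) := by
  rw [isSheaf_iff_isSheaf_of_type, Precoverage.isSheaf_toGrothendieck_iff_of_isStableUnderBaseChange_of_small.{u}]
  intro T (𝒰 : T.OpenCover)
  refine (Presieve.isSheafFor_arrows_iff _ _).2 fun a₀ ha₀ => ?_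
  let a : ∀ i, HPt f d (𝒰.X i) := a₀
  obtain ⟨Q, hQ⟩ := HPt.exists_glue 𝒰 a fun i j => ha₀ i j _ _ _ pullback.condition
  exact ⟨Q, hQ, fun y hy => HPt.eq_of_cover 𝒰 fun i => (hy i).trans (hQ i).symm⟩

theorem xtMap_eq {T T' : Over S} (g : T' ⟶ T) : PicF.XTmap f g = m f g.left (Over.w g) := by
  refine pullback.hom_ext ?_ ?_ <;> simp [PicF.XTmap, m]

theorem pull_eq {T T' : Over S} (g : T' ⟶ T) (I : (PicF.XT f T).IdealSheafData) :
    HilbD.pull f g I = I.comap (m f g.left (Over.w g)) := by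
  rw [← xtMap_eq]
  show (pullback.snd I.subschemeι (PicF.XTmap f g)).ker = (pullback.fst (PicF.XTmap f g) I.subschemeι).ker
  rw [← pullbackSymmetry_hom_comp_fst, Scheme.Hom.ker_comp_of_isIso]

/-- A representing object of the functor gives a universal pair over the base. -/
theorem representable_of_representableBy {G : Scheme.{u}} (R : (hilbF f d).RepresentableBy G) :
    HilbD.Representable f d := by
  let ξ : HPt f d G := R.homEquiv (𝟙 G)
  have hR : ∀ {T : Scheme.{u}} (h : T ⟶ G), R.homEquiv h = ξ.map h := fun {T} h => by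
    have h1 := R.homEquiv_comp h (𝟙 G)
    rw [Category.comp_id] at h1
    exact h1
  refine ⟨Over.mk ξ.g, ⟨ξ.I, ξ.prop⟩, fun T Z' => ?_⟩
  let P : HPt f d T.left := ⟨T.hom, Z'.1, Z'.2⟩
  have hiff : ∀ g : T ⟶ Over.mk ξ.g, HilbD.pull f g ξ.I = Z'.1 ↔ ξ.map g.left = P := fun g => by
    rw [pull_eq]
    constructor
    · intro hg
      refine HPt.ext' (Over.w g) ?_
      show ξ.I.comap (m f g.left rfl) = Z'.1.comap _
      rw [← hg, ← Scheme.IdealSheafData.comap_comp, m_comp]
      congr 2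
    · intro hg
      refine Eq.trans ?_ (HPt.I_eq hg.symm (by rw [Category.id_comp]; exact Over.w g)).symm
      show ξ.I.comap _ = (ξ.I.comap (m f g.left rfl)).comap _
      rw [← Scheme.IdealSheafData.comap_comp, m_comp]
      congr 2
  obtain ⟨h, hh⟩ := R.homEquiv.surjective P
  rw [hR] at hh
  let g : T ⟶ Over.mk ξ.g := Over.homMk h (congrArg HPt.g hh)
  refine ⟨g, (hiff g).2 hh, fun g' hg' => Over.OverMorphism.ext (R.homEquiv.injective ?_)⟩
  rw [hR, hR]
  exact ((hiff g').1 hg').trans hh.symm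

end HilbPts

end
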