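import Groth.Agent.HilbPtsLib.Glue
import Groth.Agent.HilbPtsLib.Basic
import Groth.Agent.MiscFlat6.FpqcDesc

/-!
# fpqc descent of ideal sheaves and of finite locally free morphisms
-/

set_option autoImplicit false
set_option linter.style.haveILetI false
set_option backward.isDefEq.respectTransparency false
set_option backward.isDefEq.respectTransparency.types false

universe u

open CategoryTheory CategoryTheory.Limits AlgebraicGeometry TopologicalSpace

noncomputable section

namespace HilbPts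

set_option maxHeartbeats 1000000 in
/-- Ideal sheaves descend along fpqc morphisms. -/
theorem exists_desc {W T : Scheme.{u}} (g : W ⟶ T) [DescLib.Fpqc g] (J : W.IdealSheafData)
    (heq : ∀ {Z : Scheme.{u}} (x₀ x₁ : Z ⟶ W), x₀ ≫ g = x₁ ≫ g → J.comap x₀ = J.comap x₁) :
    ∃ I : T.IdealSheafData, I.comap g = J := by
  have key : ∀ {Z : Scheme.{u}} (x₀ x₁ : Z ⟶ W), x₀ ≫ g = x₁ ≫ g → J ≤ x₀.ker → J ≤ x₁.ker := by
    intro Z x₀ x₁ hx h0
    rw [← comap_eq_bot_iff] at h0 ⊢
    rwa [← heq x₀ x₁ hx]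
  have toLe : ∀ {Z : Scheme.{u}} {x : Z ⟶ W}, Desc.Lifts (Over.mk J.subschemeι) x → J ≤ x.ker := by
    rintro Z x ⟨v, rfl⟩
    exact (Scheme.IdealSheafData.ker_subschemeι J).symm.le.trans (Scheme.Hom.le_ker_comp v _)
  have hsub : ∀ {Z : Scheme.{u}} {x : Z ⟶ W} (v w : Desc.Lifts (Over.mk J.subschemeι) x), v = w :=
    fun v w => Subtype.ext ((cancel_mono J.subschemeι).mp (v.2.trans w.2.symm))
  let toLift : ∀ {Z : Scheme.{u}} {x : Z ⟶ W}, J ≤ x.ker → Desc.Lifts (Over.mk J.subschemeι) x :=
    fun {Z x} hx => ⟨IsClosedImmersion.lift J.subschemeι x ((Scheme.IdealSheafData.ker_subschemeι J).le.trans hx),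
      IsClosedImmersion.lift_fac _ _ _⟩
  let D : Desc.SchDD g :=
    { obj := Over.mk J.subschemeι
      φ := fun Z x₀ x₁ hx =>
        { toFun := fun v => toLift (key x₀ x₁ hx (toLe v))
          invFun := fun v => toLift (key x₁ x₀ hx.symm (toLe v))
          left_inv := fun v => hsub _ _
          right_inv := fun v => hsub _ _ }
      φ_natural := fun Z Z' c x₀ x₁ hx hx' v v' hv => by
        refine (cancel_mono J.subschemeι).mp ?_
        exact (Subtype.prop (toLift (key _ _ hx' (toLe v')))).trans (((congrArg (c ≫ ·)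
          (Subtype.prop (toLift (key x₀ x₁ hx (toLe v))))).symm).trans (Category.assoc _ _ _).symm)
      φ_self := fun Z x v => hsub _ _
      φ_comp := fun Z x₀ x₁ x₂ h₁ h₂ v => hsub _ _ }
  haveI : IsAffineHom D.obj.hom := (inferInstance : IsAffineHom J.subschemeι)
  obtain ⟨U, ⟨e⟩⟩ := DescLib.effective_of_isAffineHom (p := g) D
  let E : pullback g U.hom ⟶ J.subscheme := e.hom.hom.left
  have hfwd : E ≫ J.subschemeι = pullback.fst g U.hom := Over.w e.hom.hom
  have h1 : e.hom.hom.left ≫ e.inv.hom.left = 𝟙 _ := congrArg (fun t => t.hom.left) e.hom_inv_id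
  have h2 : e.inv.hom.left ≫ e.hom.hom.left = 𝟙 _ := congrArg (fun t => t.hom.left) e.inv_hom_id
  haveI : IsIso E := ⟨e.inv.hom.left, h1, h2⟩
  haveI : IsClosedImmersion (pullback.fst g U.hom) := by
    rw [← hfwd]; infer_instance
  haveI : IsClosedImmersion U.hom := by
    refine Groth.Agent.SubDesc.prop_of_fpqc @IsClosedImmersion g U.hom ?_
    rw [← pullbackSymmetry_hom_comp_fst]
    infer_instance
  refine ⟨U.hom.ker, ?_⟩
  rw [← Scheme.IdealSheafData.ker_fst_of_isClosedImmersion, ← hfwd, Scheme.Hom.ker_comp_of_isIso,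
    Scheme.IdealSheafData.ker_subschemeι]

/-- Ideal sheaves are determined by their pullback along an fpqc morphism. -/
theorem eq_bot_of_comap {W T : Scheme.{u}} (g : W ⟶ T) [DescLib.Fpqc g] (K : T.IdealSheafData)
    (h : K.comap g = ⊥) : K = ⊥ := by
  haveI : IsIso (K.comap g).subschemeι := by rw [h]; infer_instance
  haveI : IsIso K.subschemeι := by
    refine Groth.Agent.SubDesc.prop_of_fpqc (MorphismProperty.isomorphisms Scheme.{u}) g K.subschemeι ?_
    show IsIso _
    rw [← pullbackSymmetry_hom_comp_fst, ← Scheme.IdealSheafData.comapIso_inv_subschemeι]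
    infer_instance
  rw [← Scheme.IdealSheafData.ker_subschemeι K, Scheme.Hom.ker_eq_bot_of_isIso]

theorem le_of_comap_le {W T : Scheme.{u}} (g : W ⟶ T) [DescLib.Fpqc g] {I I' : T.IdealSheafData}
    (h : I.comap g ≤ I'.comap g) : I ≤ I' := by
  rw [← Scheme.IdealSheafData.ker_subschemeι I', ← comap_eq_bot_iff]
  refine eq_bot_of_comap (pullback.fst I'.subschemeι g) _ ?_
  rw [← Scheme.IdealSheafData.comap_comp, pullback.condition, Scheme.IdealSheafData.comap_comp,
    comap_eq_bot_iff]
  refine h.trans ?_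
  rw [← comap_eq_bot_iff, ← Scheme.IdealSheafData.comap_comp,
    ← pullback.condition, Scheme.IdealSheafData.comap_comp,
    (comap_eq_bot_iff I' _).2 (Scheme.IdealSheafData.ker_subschemeι I').ge, Scheme.IdealSheafData.comap_bot]

theorem eq_of_comap_eq {W T : Scheme.{u}} (g : W ⟶ T) [DescLib.Fpqc g] {I I' : T.IdealSheafData}
    (h : I.comap g = I'.comap g) : I = I' :=
  le_antisymm (le_of_comap_le g h.le) (le_of_comap_le g h.ge)

/-- Being finite locally free of degree `d` descends along quasi-compact flat surjections. -/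
theorem isFinLocFreeOfDeg_descend {P Q R R' : Scheme.{u}} {d : ℕ} {a : P ⟶ Q} {b : P ⟶ R'}
    {c : Q ⟶ R} {h : R' ⟶ R} [QuasiCompact h] [Flat h] [Surjective h] (H : IsPullback a b c h)
    (hb : Mor2.IsFinLocFreeOfDeg d b) : Mor2.IsFinLocFreeOfDeg d c := by
  obtain ⟨⟨h1, h2, h3⟩, h4⟩ := hb
  haveI := AlgSpLib.descendsAlong_isFinite.{u}
  have hq : (@Surjective ⊓ @Flat ⊓ @QuasiCompact : MorphismProperty Scheme.{u}) h :=
    ⟨⟨inferInstance, inferInstance⟩, inferInstance⟩
  haveI c1 : IsFinite c := MorphismProperty.of_isPullback_of_descendsAlong (P := @IsFinite) H.flip hq h1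
  haveI c2 : Flat c := MorphismProperty.of_isPullback_of_descendsAlong (P := @Flat) H.flip hq h2
  refine ⟨⟨MorphismProperty.of_isPullback_of_descendsAlong (P := @IsFinite) H.flip hq h1,
    MorphismProperty.of_isPullback_of_descendsAlong (P := @Flat) H.flip hq h2,
    MorphismProperty.of_isPullback_of_descendsAlong (P := @LocallyOfFinitePresentation) H.flip hq h3⟩, fun y => ?_⟩
  obtain ⟨y', rfl⟩ := h.surjective y
  rw [← Scheme.Hom.finrank_of_isPullback _ _ _ _ H y']
  exact h4 _

end HilbPts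

end
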