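import Mathlib.LinearAlgebra.Matrix.Adjugate
import Mathlib.LinearAlgebra.Matrix.ToLinearEquiv
import Mathlib.RingTheory.Ideal.Quotient.Operations
import Mathlib.RingTheory.Finiteness.Ideal
import Mathlib.LinearAlgebra.Basis.Defs
import Mathlib.LinearAlgebra.LinearIndependent.Lemmas
import Mathlib.RingTheory.Nilpotent.Lemmas
import Mathlib.Tactic.LinearCombination
import Mathlib.Tactic.Ring

/-!
# Invariants of a generically separated finite free algebra
-/

set_option autoImplicit false

namespace HilbPts.SC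

open Module

variable {A B : Type*} [CommRing A] [CommRing B] [Algebra A B] {ι : Type*} [Fintype ι]

/-- An ideal off which the homomorphisms are separated lies in the radical of their determinant. -/
theorem le_radical_det [DecidableEq ι] (bas : Basis ι A B) (σ : ι → (B →ₐ[A] B)) (I : Ideal B)
    (hsep : ∀ q : Ideal B, q.IsPrime → ¬ I ≤ q → ∀ i j, i ≠ j → ∃ b, σ i b - σ j b ∉ q) :
    I ≤ (Ideal.span {(Matrix.of fun i j => σ i (bas j)).det}).radical := by
  rw [Ideal.radical_eq_sInf]
  refine le_sInf fun q ⟨hq, hqp⟩ => ?_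
  by_contra hIq
  haveI := hqp
  let π := Ideal.Quotient.mk q
  let M := Matrix.of fun i j => σ i (bas j)
  have hdet : (π.mapMatrix M).det = 0 := by
    rw [← RingHom.map_det]
    exact Ideal.Quotient.eq_zero_iff_mem.2 ((Ideal.span_singleton_le_iff_mem _).1 hq)
  obtain ⟨v, hv0, hv⟩ := Matrix.exists_vecMul_eq_zero_iff.2 hdet
  let χ : ι → (B →* B ⧸ q) := fun i => (π.comp (σ i).toRingHom).toMonoidHom
  have hinj : Function.Injective χ := fun i j h => by
    by_contra hne
    obtain ⟨b, hb⟩ := hsep q hqp hIq i j hne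
    exact hb (Ideal.Quotient.eq.1 (DFunLike.congr_fun h b))
  have hli : LinearIndependent (B ⧸ q) fun i => (χ i : B → B ⧸ q) :=
    (linearIndependent_monoidHom B (B ⧸ q)).comp χ hinj
  refine hv0 (funext (Fintype.linearIndependent_iff.1 hli v (funext fun b => ?_)))
  rw [Finset.sum_apply, Pi.zero_apply, ← bas.sum_repr b]
  simp only [Pi.smul_apply, χ, RingHom.toMonoidHom_eq_coe, MonoidHom.coe_coe, RingHom.coe_comp,
    AlgHom.toRingHom_eq_coe, RingHom.coe_coe, Function.comp_apply, map_sum, map_smul, Finset.smul_sum]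
  rw [Finset.sum_comm]
  refine Finset.sum_eq_zero fun j _ => ?_
  have hj := congrFun hv j
  simp only [Matrix.vecMul, dotProduct, RingHom.mapMatrix_apply, Matrix.map_apply, M, Matrix.of_apply,
    Pi.zero_apply] at hj
  calc _ = π (algebraMap A B (bas.repr b j)) * ∑ i, v i * π (σ i (bas j)) := by
        rw [Finset.mul_sum]
        refine Finset.sum_congr rfl fun i _ => ?_
        rw [Algebra.smul_def (bas.repr b j), map_mul, smul_eq_mul]
        ring
    _ = 0 := by rw [hj, mul_zero]

/-- Invariants of a finite free algebra which is separated off a regular ideal are the base ring. -/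
theorem invariant_mem_range [Nonempty ι] (bas : Basis ι A B) (σ : ι → (B →ₐ[A] B)) (I : Ideal B) (hI : I.FG)
    (hreg : ∀ x : B, (∀ i ∈ I, i * x = 0) → x = 0)
    (hsep : ∀ q : Ideal B, q.IsPrime → ¬ I ≤ q → ∀ i j, i ≠ j → ∃ b, σ i b - σ j b ∉ q)
    (b : B) (hb : ∀ i, σ i b = b) : b ∈ Set.range (algebraMap A B) := by
  classical
  let M := Matrix.of fun i j => σ i (bas j)
  let c : ι → B := fun j => b * algebraMap A B (bas.repr 1 j) - algebraMap A B (bas.repr b j)
  have hMc : M.mulVec c = 0 := by
    funext i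
    have h1 : ∀ y : B, ∑ j, σ i (bas j) * algebraMap A B (bas.repr y j) = σ i y := fun y => by
      conv_rhs => rw [← bas.sum_repr y, map_sum]
      refine Finset.sum_congr rfl fun j _ => ?_
      rw [map_smul, Algebra.smul_def, mul_comm]
    simp only [Matrix.mulVec, dotProduct, M, Matrix.of_apply, c, Pi.zero_apply, mul_sub, Finset.sum_sub_distrib]
    have h2 : ∑ j, σ i (bas j) * (b * algebraMap A B (bas.repr 1 j)) = b * ∑ j, σ i (bas j) * algebraMap A B (bas.repr 1 j) := by
      rw [Finset.mul_sum]
      exact Finset.sum_congr rfl fun j _ => by ring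
    rw [h2, h1, h1, map_one, hb, mul_one, sub_self]
  have hdc : ∀ j, M.det * c j = 0 := fun j => by
    have h := congrArg M.adjugate.mulVec hMc
    rw [Matrix.mulVec_mulVec, Matrix.adjugate_mul, Matrix.smul_mulVec, Matrix.one_mulVec, Matrix.mulVec_zero] at h
    exact congrFun h j
  obtain ⟨k, hk⟩ := Ideal.exists_pow_le_of_le_radical_of_fg (le_radical_det bas σ I hsep) hI
  have hc : ∀ j, c j = 0 := fun j => by
    have key : ∀ m : ℕ, (∀ y ∈ I ^ m, y * c j = 0) → c j = 0 := by
      intro m
      induction m with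
      | zero => exact fun h => by simpa using h 1 (by simp)
      | succ m ih =>
        exact fun h => ih fun y hy => hreg _ fun i hi => by
          rw [← mul_assoc]
          exact h _ (by rw [pow_succ']; exact Ideal.mul_mem_mul hi hy)
    refine key k fun y hy => ?_
    obtain ⟨z, rfl⟩ := Ideal.mem_span_singleton.1 (hk hy)
    linear_combination z * hdc j
  obtain ⟨i₀⟩ := ‹Nonempty ι›
  have hu : ∑ j, bas.repr 1 j * bas.repr (bas i₀ * bas j) i₀ = 1 := by
    have h : bas.repr (bas i₀) i₀ = ∑ j, bas.repr 1 j * bas.repr (bas i₀ * bas j) i₀ := by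
      conv_lhs => rw [← mul_one (bas i₀), ← bas.sum_repr (1 : B), Finset.mul_sum]
      simp only [mul_smul_comm, map_sum, map_smul, Finsupp.coe_finsetSum, Finset.sum_apply, Finsupp.smul_apply, smul_eq_mul]
    rw [← h, bas.repr_self, Finsupp.single_eq_same]
  refine ⟨∑ j, bas.repr b j * bas.repr (bas i₀ * bas j) i₀, ?_⟩
  calc algebraMap A B (∑ j, bas.repr b j * bas.repr (bas i₀ * bas j) i₀)
      = ∑ j, (b * algebraMap A B (bas.repr 1 j)) * algebraMap A B (bas.repr (bas i₀ * bas j) i₀) := by
        rw [map_sum]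
        exact Finset.sum_congr rfl fun j _ => by rw [map_mul, ← sub_eq_zero.1 (hc j)]
    _ = b * algebraMap A B (∑ j, bas.repr 1 j * bas.repr (bas i₀ * bas j) i₀) := by
        rw [map_sum, Finset.mul_sum]
        exact Finset.sum_congr rfl fun j _ => by rw [map_mul (algebraMap A B), mul_assoc]
    _ = b := by rw [hu, map_one, mul_one]

end HilbPts.SC
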