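import Groth.Agent.HilbPtsLib.SymHilb
import Groth.Agent.HilbPtsLib.SymInv
import Groth.Agent.HilbPtsLib.Desc
import Groth.Agent.NormDescLib.FinLocFree
import Groth.Agent.ModPairLib.Colon
import Groth.Agent.QuotLib.Local
import Mathlib.Data.Fintype.Perm

/-!
# The Hilbert scheme of points of a smooth curve is the symmetric product
-/

set_option autoImplicit false
set_option linter.style.haveILetI false
set_option backward.isDefEq.respectTransparency false
set_option backward.isDefEq.respectTransparency.types false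

universe u

open CategoryTheory CategoryTheory.Limits AlgebraicGeometry TopologicalSpace SymProd Opposite

noncomputable section

namespace HilbPts.SC

/-- The ideal of an effective Cartier divisor on an affine scheme is regular. -/
theorem eq_zero_of_forall_mul {W : Scheme.{u}} [IsAffine W] {K : W.IdealSheafData}
    (hK : BlowUp.IsEffCartierIdeal K) (x : Γ(W, ⊤))
    (h : ∀ i ∈ K.ideal ⟨⊤, isAffineOpen_top W⟩, i * x = 0) : x = 0 := by
  choose U hxU t ht hU using hK
  refine W.sheaf.eq_of_locally_eq' (fun p => (U p).1) ⊤ (fun p => homOfLE le_top)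
    (fun p _ => Opens.mem_iSup.2 ⟨p, hxU p⟩) x 0 fun p => ?_
  let res := (W.presheaf.map (homOfLE (le_top : (U p).1 ≤ ⊤)).op).hom
  have hmap : (K.ideal ⟨⊤, isAffineOpen_top W⟩).map res = Ideal.span {t p} := by
    rw [← hU p]
    exact K.map_ideal (U := U p) (V := ⟨⊤, isAffineOpen_top W⟩) (le_top : (U p).1 ≤ ⊤)
  have hmem : t p ∈ (K.ideal ⟨⊤, isAffineOpen_top W⟩).map res := by
    rw [hmap]; exact Ideal.mem_span_singleton_self _
  have hzero : ∀ y ∈ (K.ideal ⟨⊤, isAffineOpen_top W⟩).map res, y * res x = 0 := by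
    intro y hy
    refine Submodule.span_induction ?_ (zero_mul _) (fun a b _ _ ha hb => by rw [add_mul, ha, hb, add_zero])
      (fun a b _ hb => by rw [smul_eq_mul, mul_assoc, hb, mul_zero]) hy
    rintro _ ⟨i, hi, rfl⟩
    rw [← map_mul, h i hi, map_zero]
  show res x = res 0
  rw [map_zero]
  exact (mem_nonZeroDivisors_iff_left.1 (ht p)) _ (hzero _ hmem)

theorem eq_zero_of_forall_mul_prod {B ι : Type*} [CommRing B] (t : Finset ι) (J : ι → Ideal B)
    (hJ : ∀ p ∈ t, ∀ x : B, (∀ i ∈ J p, i * x = 0) → x = 0) :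
    ∀ x : B, (∀ i ∈ ∏ p ∈ t, J p, i * x = 0) → x = 0 := by
  classical
  induction t using Finset.induction_on with
  | empty => intro x h; simpa using h 1 (by simp)
  | @insert a t ha ih =>
    intro x h
    refine hJ a (Finset.mem_insert_self a t) x fun i hi => ?_
    refine ih (fun p hp => hJ p (Finset.mem_insert_of_mem hp)) _ fun j hj => ?_
    rw [← mul_assoc, mul_comm j i]
    exact h _ (by rw [Finset.prod_insert ha]; exact Ideal.mul_mem_mul hi hj)

theorem fg_prod {B ι : Type*} [CommRing B] (t : Finset ι) (J : ι → Ideal B) (hJ : ∀ p ∈ t, (J p).FG) :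
    (∏ p ∈ t, J p).FG := by
  classical
  induction t using Finset.induction_on with
  | empty => rw [Finset.prod_empty, Ideal.one_eq_top]; exact ⟨{1}, by simp⟩
  | @insert a t ha ih =>
    rw [Finset.prod_insert ha]
    exact Submodule.FG.mul (hJ a (Finset.mem_insert_self a t)) (ih fun p hp => hJ p (Finset.mem_insert_of_mem hp))

theorem hasBasis_comp_bijective {A B B' : Type u} [CommRing A] [CommRing B] [CommRing B'] {i : A →+* B} {N : ℕ}
    (h : NormDescLib.HasBasis i N) (e : B →+* B') (he : Function.Bijective e) :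
    NormDescLib.HasBasis (e.comp i) N := by
  letI := i.toAlgebra
  obtain ⟨b⟩ := (h : Nonempty (Module.Basis (Fin N) A B))
  letI : Algebra A B' := (e.comp i).toAlgebra
  let l : B →ₐ[A] B' := { e with commutes' := fun a => rfl }
  exact ⟨b.map (AlgEquiv.ofBijective l he).toLinearEquiv⟩

theorem hasBasis_comp_bijective_right {A A' B : Type u} [CommRing A] [CommRing A'] [CommRing B] {i : A →+* B} {N : ℕ}
    (h : NormDescLib.HasBasis i N) (e : A' →+* A) (he : Function.Bijective e) :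
    NormDescLib.HasBasis (i.comp e) N := by
  letI := i.toAlgebra
  obtain ⟨b⟩ := (h : Nonempty (Module.Basis (Fin N) A B))
  letI : Algebra A' B := (i.comp e).toAlgebra
  let ee := (RingEquiv.ofBijective e he).symm
  exact ⟨b.mapCoeffs ee (fun c x => by
    show i (e (ee c)) * x = i c * x
    rw [show e (ee c) = c from (RingEquiv.ofBijective e he).apply_symm_apply c])⟩

theorem isoSpec_inv_appTop' (W : Scheme.{u}) [IsAffine W] :
    W.isoSpec.inv.appTop = (Scheme.ΓSpecIso Γ(W, ⊤)).inv := by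
  rw [← cancel_mono (Scheme.ΓSpecIso Γ(W, ⊤)).hom, Iso.inv_hom_id]
  conv_lhs => rw [← Scheme.toSpecΓ_appTop W]
  rw [← Scheme.Hom.comp_appTop]
  exact (congrArg Scheme.Hom.appTop W.isoSpec.hom_inv_id).trans Scheme.Hom.id_appTop

variable {X S : Scheme.{u}} (f : X ⟶ S)

theorem representable_of_isAF [IsSeparated f] (hAF : IsAF f) (e : ℕ) : HilbD.Representable f e := by
  classical
  refine HilbPts.representable fun s x hx => ?_
  obtain ⟨U, hU, hxU⟩ := hAF s (Finset.univ.image x) (fun y hy => by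
    obtain ⟨i, -, rfl⟩ := Finset.mem_image.1 hy
    exact hx i)
  exact ⟨U, hU, fun i => hxU _ (Finset.mem_image_of_mem x (Finset.mem_univ i))⟩

variable [IsSeparated f] [SmoothOfRelativeDimension 1 f]

set_option maxHeartbeats 1000000 in
/-- Invariant functions on an affine open of the fibre power which is free of rank `n!` over its quotient. -/
theorem invariant_local {n : ℕ} {W U : Scheme.{u}} [IsAffine W] (j : W ⟶ fibPow f n) [Flat j] (π : W ⟶ U)
    (α : Equiv.Perm (Fin n) → (W ⟶ W)) (hα : ∀ σ, α σ ≫ j = j ≫ permHom f n σ) (hπ : ∀ σ, α σ ≫ π = π)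
    (hb : NormDescLib.HasBasis π.appTop.hom n.factorial) :
    Function.Injective π.appTop.hom ∧
      ∀ s : Γ(W, ⊤), (∀ σ, (α σ).appTop.hom s = s) → s ∈ Set.range π.appTop.hom := by
  classical
  letI := π.appTop.hom.toAlgebra
  obtain ⟨b₀⟩ := (hb : Nonempty (Module.Basis (Fin n.factorial) Γ(U, ⊤) Γ(W, ⊤)))
  let e : Fin n.factorial ≃ Equiv.Perm (Fin n) :=
    Fintype.equivOfCardEq (by rw [Fintype.card_fin, Fintype.card_perm, Fintype.card_fin])
  let bas := b₀.reindex e
  refine ⟨?_, ?_⟩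
  · have i₀ : Fin n.factorial := ⟨0, n.factorial_pos⟩
    intro a a' h
    have h' : a • b₀ i₀ = a' • b₀ i₀ := by
      rw [Algebra.smul_def, Algebra.smul_def]
      exact congrArg (· * b₀ i₀) h
    simpa using congrArg (fun y => b₀.repr y i₀) h'
  intro s hs
  let σA : Equiv.Perm (Fin n) → (Γ(W, ⊤) →ₐ[Γ(U, ⊤)] Γ(W, ⊤)) := fun σ =>
    { (α σ).appTop.hom with
      commutes' := fun a => by
        show (α σ).appTop.hom (π.appTop.hom a) = π.appTop.hom a
        rw [← CommRingCat.comp_apply, ← Scheme.Hom.comp_appTop, hπ] }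
  let K : Fin n × Fin n → W.IdealSheafData := fun p => (diag f p.1 p.2).comap j
  let J : Fin n × Fin n → Ideal Γ(W, ⊤) := fun p => (K p).ideal ⟨⊤, isAffineOpen_top W⟩
  let t := (Finset.univ : Finset (Fin n × Fin n)).filter fun p => p.1 ≠ p.2
  have hK : ∀ p ∈ t, BlowUp.IsEffCartierIdeal (K p) := fun p hp =>
    BlowUpLib.isEffCartier_comap_of_flat j (isEffCartier_diag f (Finset.mem_filter.1 hp).2)
  refine invariant_mem_range bas σA (∏ p ∈ t, J p)
    (fg_prod t J fun p hp => ModPairLib.fg_of_isEffCartier (hK p hp) _)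
    (eq_zero_of_forall_mul_prod t J fun p hp x hx => eq_zero_of_forall_mul (hK p hp) x hx) ?_ s hs
  intro q hq hIq σ τ hστ
  by_contra hcon
  push Not at hcon
  haveI := hq
  let mk : Γ(W, ⊤) ⟶ CommRingCat.of (Γ(W, ⊤) ⧸ q) := CommRingCat.ofHom (Ideal.Quotient.mk q)
  let z : Spec (CommRingCat.of (Γ(W, ⊤) ⧸ q)) ⟶ W := Spec.map mk ≫ W.isoSpec.inv
  have hz : z.appTop = mk ≫ (Scheme.ΓSpecIso _).inv := by
    rw [Scheme.Hom.comp_appTop, isoSpec_inv_appTop', ← Scheme.ΓSpecIso_inv_naturality]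
  have hz0 : ∀ c, z.appTop.hom c = 0 → c ∈ q := fun c hc => by
    rw [hz, CommRingCat.comp_apply] at hc
    exact Ideal.Quotient.eq_zero_iff_mem.1
      ((map_eq_zero_iff _ (ConcreteCategory.bijective_of_isIso (Scheme.ΓSpecIso _).inv).1).1 hc)
  have hzeq : z ≫ α σ = z ≫ α τ := by
    refine AlgebraicGeometry.ext_of_isAffine ?_
    ext c
    rw [Scheme.Hom.comp_appTop z (α σ), Scheme.Hom.comp_appTop z (α τ), hz, CommRingCat.comp_apply, CommRingCat.comp_apply,
      CommRingCat.comp_apply, CommRingCat.comp_apply]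
    exact congrArg _ (Ideal.Quotient.eq.2 (hcon c))
  obtain ⟨i, hi⟩ : ∃ i, σ.symm i ≠ τ.symm i := by
    by_contra hall
    push Not at hall
    exact hστ (Equiv.symm_bijective.injective (Equiv.ext hall))
  have hpt : (z ≫ j) ≫ fp f (σ.symm i) = (z ≫ j) ≫ fp f (τ.symm i) := by
    have h1 := congrArg (fun w => w ≫ j ≫ fp f i) hzeq
    simp only [Category.assoc] at h1 ⊢
    rw [reassoc_of% (hα σ), reassoc_of% (hα τ), permHom_π, permHom_π] at h1
    exact h1
  have hbot : (K (σ.symm i, τ.symm i)).comap z = ⊥ := by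
    rw [← Scheme.IdealSheafData.comap_comp]
    exact comap_diag_eq_bot f _ _ _ hpt
  have hle : J (σ.symm i, τ.symm i) ≤ q := fun c hc => by
    have h1 : K (σ.symm i, τ.symm i) ≤ z.ker := (comap_eq_bot_iff _ _).1 hbot
    have h2 := h1 ⟨⊤, isAffineOpen_top W⟩ hc
    rw [Scheme.Hom.ker_apply] at h2
    exact hz0 c h2
  refine hIq (le_trans ?_ hle)
  refine Ideal.prod_le_inf.trans (Finset.inf_le ?_)
  simp [t, hi]

/-- The sum map is a quotient by the symmetric group. -/
theorem isQuot_classifier (hrep : ∀ e : ℕ, HilbD.Representable f e) {n : ℕ} {H : Over S}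
    {Z : HilbD.Obj f n H} (hZ : HilbD.IsUniversal f n H Z) (ρ : fibPow f n ⟶ H.left)
    (hρ : ρ ≫ H.hom = fb f n) (hI : Z.1.comap (m f ρ hρ) = sumId f n) :
    SGA1.IsQuot (permActU f n) ρ := by
  obtain ⟨⟨h1, h2, h3⟩, h4⟩ := classifier_deg f hrep n H Z hZ ρ hρ hI
  haveI := h1
  haveI := h2
  haveI := h3
  have hinv : ∀ g, (permActU f n g).hom ≫ ρ = ρ := fun g => by
    rw [permActU_hom]; exact perm_comp_classifier f hZ ρ hρ hI g.down
  choose D hD hyD hb using fun y => NormDescLib.exists_hasBasis ρ y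
  refine QuotLib.isQuot_of_cover hinv D (fun y => ⟨y, hyD y⟩) fun y => ?_
  haveI : IsAffine (D y).toScheme := hD y
  haveI : IsAffine (ρ ⁻¹ᵁ D y).toScheme := (hD y).preimage ρ
  haveI : Finite (ULift.{u} (Equiv.Perm (Fin n))) := inferInstance
  have hb' : NormDescLib.HasBasis (ρ ∣_ D y).appTop.hom n.factorial := by
    have key : ∀ V : H.left.Opens, V = D y → NormDescLib.HasBasis (ρ.app V).hom n.factorial := by
      rintro V rfl
      rw [← h4 y]
      exact hb y
    have := hasBasis_comp_bijective (key _ (D y).ι_image_top)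
      ((fibPow f n).presheaf.map (eqToHom (image_morphismRestrict_preimage ρ (D y) ⊤)).op).hom
      (ConcreteCategory.bijective_of_isIso _)
    rw [Scheme.Hom.appTop, morphismRestrict_app]
    exact this
  let α : Equiv.Perm (Fin n) → ((ρ ⁻¹ᵁ D y).toScheme ⟶ (ρ ⁻¹ᵁ D y).toScheme) := fun σ =>
    (QuotLib.restrictAct hinv (D y) ⟨σ⟩).hom
  have hα : ∀ σ, α σ ≫ (ρ ⁻¹ᵁ D y).ι = (ρ ⁻¹ᵁ D y).ι ≫ permHom f n σ := fun σ => by
    rw [QuotLib.restrictAct_ι, permActU_hom]
  have hπ : ∀ σ, α σ ≫ (ρ ∣_ D y) = ρ ∣_ D y := fun σ => by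
    rw [← cancel_mono (D y).ι, Category.assoc, morphismRestrict_ι, ← Category.assoc, hα, Category.assoc,
      perm_comp_classifier f hZ ρ hρ hI σ]
  obtain ⟨hinj, hsurj⟩ := invariant_local f (ρ ⁻¹ᵁ D y).ι (ρ ∣_ D y) α hα hπ hb'
  exact QuotLib.isQuot_of_affine (fun g => hπ g.down) hinj fun s hs => hsurj s fun σ => hs ⟨σ⟩

/-- A symmetric product of a smooth curve is the Hilbert scheme of points. -/
theorem exists_iso (hrep : ∀ e : ℕ, HilbD.Representable f e) {n : ℕ} {Y : Scheme.{u}}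
    {q : fibPow f n ⟶ Y} {g : Y ⟶ S} (hq : IsSymProd f n q g) {H : Over S} {Z : HilbD.Obj f n H}
    (hZ : HilbD.IsUniversal f n H Z) :
    ∃ (φ : Y ⟶ H.left) (hφ : φ ≫ H.hom = g), IsIso φ ∧
      Mor2.IsFinLocFreeOfDeg n.factorial q ∧
      Z.1.comap (m f (q ≫ φ) (show (q ≫ φ) ≫ H.hom = fb f n by rw [Category.assoc, hφ, hq.over])) = sumId f n := by
  obtain ⟨ρ, hρ, hI⟩ := exists_hom f hZ (sumId f n) (prop_sumId f n)
  have hQ := isQuot_classifier f hrep hZ ρ hρ hI
  obtain ⟨φ, hφ⟩ := QuotLib.exists_desc hq.isQuot ρ (fun g => by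
    rw [permActU_hom]; exact perm_comp_classifier f hZ ρ hρ hI g.down)
  obtain ⟨ψ, hψ⟩ := QuotLib.exists_desc hQ q hq.isQuot.inv
  have h1 : φ ≫ ψ = 𝟙 Y := QuotLib.hom_ext hq.isQuot (by rw [← Category.assoc, hφ, hψ, Category.comp_id])
  have h2 : ψ ≫ φ = 𝟙 H.left := QuotLib.hom_ext hQ (by rw [← Category.assoc, hψ, hφ, Category.comp_id])
  have hg : φ ≫ H.hom = g := QuotLib.hom_ext hq.isQuot (by rw [← Category.assoc, hφ, hρ, hq.over])
  haveI hiso : IsIso φ := ⟨ψ, h1, h2⟩
  refine ⟨φ, hg, hiso, ?_, ?_⟩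
  · refine isFinLocFreeOfDeg_of_isPullback (a := 𝟙 _) (h := φ) ?_ (classifier_deg f hrep n H Z hZ ρ hρ hI)
    exact IsPullback.of_horiz_isIso ⟨by rw [Category.id_comp, hφ]⟩
  · subst hφ
    exact hI

end HilbPts.SC

end
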