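import Groth.Agent.HilbPtsLib.SmoothCurve
import Groth.Agent.DivDescLib.Local
import Groth.Agent.SDivLib.FlatDiv
import Groth.Agent.ModPairLib.Colon
import Groth.Agent.BlowUpLib.Props
import Mathlib.AlgebraicGeometry.ZariskisMainTheorem

/-!
# Degree of a sum of divisors
-/

set_option autoImplicit false
set_option linter.style.haveILetI false
set_option backward.isDefEq.respectTransparency false
set_option backward.isDefEq.respectTransparency.types false

universe u

open CategoryTheory CategoryTheory.Limits AlgebraicGeometry TopologicalSpace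

noncomputable section

namespace HilbPts.SC

theorem eq_top_of_forall_notMem {C : Type u} [CommRing C] {J : Ideal C}
    (h : ∀ q : Ideal C, q.IsMaximal → ∃ u ∈ J, u ∉ q) : J = ⊤ := by
  by_contra hJ
  obtain ⟨q, hq, hJq⟩ := J.exists_le_maximal hJ
  obtain ⟨u, hu, hu'⟩ := h q hq
  exact hu' (hJq hu)

/-- In an Artinian ring, a locally principal ideal whose generators have annihilator `L` is principal, with
annihilator `L`. -/
theorem exists_gen_ann {C : Type u} [CommRing C] [IsArtinianRing C] (K L : Ideal C)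
    (h : ∀ q : Ideal C, q.IsMaximal → ∃ t ∈ K, (∀ x ∈ K, ∃ u ∉ q, u * x ∈ Ideal.span {t}) ∧
      (∀ c ∈ L, ∃ u ∉ q, u * (c * t) = 0) ∧ ∀ c, c * t = 0 → ∃ u ∉ q, u * c ∈ L) :
    ∃ t, K = Ideal.span {t} ∧ ∀ c, c * t = 0 ↔ c ∈ L := by
  classical
  haveI : Fintype (MaximalSpectrum C) := Fintype.ofFinite _
  choose t ht h1 h2 h3 using fun q : MaximalSpectrum C => h q.asIdeal q.isMaximal
  choose e he hidem hmem using fun q : MaximalSpectrum C =>
    IsArtinianRing.exists_not_mem_forall_mem_of_ne (R := C) q.asIdeal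
  have orth : ∀ p q : MaximalSpectrum C, p ≠ q → e p * e q = 0 := fun p q hpq => by
    have hn : IsNilpotent (e p * e q) := by
      refine nilpotent_iff_mem_prime.2 fun P hP => ?_
      by_cases hp : P = p.asIdeal
      · exact P.mul_mem_left _ (hmem q P hP fun hq => hpq (MaximalSpectrum.ext (hp.symm.trans hq)))
      · exact P.mul_mem_right _ (hmem p P hP hp)
    obtain ⟨n, hn⟩ := hn
    cases n with
    | zero => exact (mul_one _).symm.trans (by rw [pow_zero] at hn; rw [hn, mul_zero])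
    | succ n => rwa [((hidem p).mul (hidem q)).pow_succ_eq n] at hn
  let s := ∑ p, e p * t p
  have hs : ∀ q, e q * s = e q * t q := fun q => by
    rw [Finset.mul_sum, Finset.sum_eq_single q]
    · rw [← mul_assoc, (hidem q).eq]
    · intro p _ hp; rw [← mul_assoc, orth q p (Ne.symm hp), zero_mul]
    · exact fun hq => absurd (Finset.mem_univ q) hq
  refine ⟨s, le_antisymm (fun x hx => ?_) ?_, fun c => ⟨fun hc => ?_, fun hc => ?_⟩⟩
  · let J : Ideal C := Submodule.comap (LinearMap.mulRight C x) (Ideal.span {s})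
    have hJ : J = ⊤ := eq_top_of_forall_notMem fun q hq => by
      let qq : MaximalSpectrum C := ⟨q, hq⟩
      obtain ⟨u, hu, hux⟩ := h1 qq x hx
      obtain ⟨c, hc⟩ := Ideal.mem_span_singleton.1 hux
      refine ⟨e qq * u, ?_, hq.isPrime.mul_notMem (he qq) hu⟩
      show e qq * u * x ∈ Ideal.span {s}
      rw [mul_assoc, hc, ← mul_assoc, ← hs, mul_comm (e qq) s, mul_assoc]
      exact Ideal.mul_mem_right _ _ (Ideal.mem_span_singleton_self s)
    have h1' : (1 : C) ∈ J := hJ ▸ Submodule.mem_top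
    simpa [J] using h1'
  · rw [Ideal.span_singleton_le_iff_mem]
    exact Ideal.sum_mem _ fun p _ => K.mul_mem_left _ (ht p)
  · let J : Ideal C := Submodule.comap (LinearMap.mulRight C c) L
    have hJ : J = ⊤ := eq_top_of_forall_notMem fun q hq => by
      let qq : MaximalSpectrum C := ⟨q, hq⟩
      obtain ⟨u, hu, huL⟩ := h3 qq (c * e qq) (by
        rw [mul_assoc, ← hs, mul_left_comm, hc, mul_zero])
      refine ⟨u * e qq, ?_, hq.isPrime.mul_notMem hu (he qq)⟩
      show u * e qq * c ∈ L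
      rwa [mul_assoc, mul_comm (e qq)]
    have h1' : (1 : C) ∈ J := hJ ▸ Submodule.mem_top
    simpa [J] using h1'
  · let J : Ideal C := Submodule.comap (LinearMap.mulRight C (c * s)) (⊥ : Ideal C)
    have hJ : J = ⊤ := eq_top_of_forall_notMem fun q hq => by
      let qq : MaximalSpectrum C := ⟨q, hq⟩
      obtain ⟨u, hu, hu0⟩ := h2 qq c hc
      refine ⟨u * e qq, ?_, hq.isPrime.mul_notMem hu (he qq)⟩
      show u * e qq * (c * s) ∈ (⊥ : Ideal C)
      rw [Ideal.mem_bot, show u * e qq * (c * s) = u * c * (e qq * s) by ring, hs,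
        show u * c * (e qq * t qq) = e qq * (u * (c * t qq)) by ring, hu0, mul_zero]
    have h1' : (1 : C) ∈ J := hJ ▸ Submodule.mem_top
    simpa [J] using h1'

theorem finrank_add_of_gen_ann {k C : Type u} [Field k] [CommRing C] [Algebra k C] [Module.Finite k C]
    (K L : Ideal C) {t : C} (hK : K = Ideal.span {t}) (hL : ∀ c, c * t = 0 ↔ c ∈ L) :
    Module.finrank k C = Module.finrank k (C ⧸ K) + Module.finrank k (C ⧸ L) := by
  let φ : C →ₗ[k] C := LinearMap.mulRight k t
  have hr : LinearMap.range φ = K.restrictScalars k := by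
    ext x
    simp [φ, hK, Ideal.mem_span_singleton', LinearMap.mem_range]
  have hk : LinearMap.ker φ = L.restrictScalars k := by
    ext x
    simp [φ, hL]
  have e1 : Module.finrank k (C ⧸ L) = Module.finrank k (K.restrictScalars k) := by
    rw [← (Submodule.Quotient.restrictScalarsEquiv k L).finrank_eq, ← hk, ← hr]
    exact φ.quotKerEquivRange.finrank_eq
  have e2 : Module.finrank k (C ⧸ K) = Module.finrank k (C ⧸ K.restrictScalars k) :=
    (Submodule.Quotient.restrictScalarsEquiv k K).finrank_eq.symm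
  rw [e1, e2]
  exact (Submodule.finrank_quotient_add_finrank (K.restrictScalars k)).symm

theorem ker_stalkMap_subschemeι {X : Scheme.{u}} (I : X.IdealSheafData) (z : I.subscheme) :
    RingHom.ker (I.subschemeι.stalkMap z).hom = IntMult.stalkIdeal I (I.subschemeι z) := by
  obtain ⟨U, hU, hxU, -⟩ := exists_isAffineOpen_mem_and_subset (x := I.subschemeι z) (U := ⊤) trivial
  let V : I.subscheme.affineOpens := ⟨I.subschemeι ⁻¹ᵁ U, hU.preimage I.subschemeι⟩
  letI := X.presheaf.algebra_section_stalk (⟨_, hxU⟩ : U)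
  haveI : IsLocalization.AtPrime (X.presheaf.stalk (I.subschemeι z)) (hU.primeIdealOf ⟨_, hxU⟩).asIdeal :=
    hU.isLocalization_stalk ⟨_, hxU⟩
  letI := I.subscheme.presheaf.algebra_section_stalk (⟨z, hxU⟩ : V.1)
  haveI : IsLocalization.AtPrime (I.subscheme.presheaf.stalk z) (V.2.primeIdealOf ⟨z, hxU⟩).asIdeal :=
    V.2.isLocalization_stalk ⟨z, hxU⟩
  have hc : ∀ a : Γ(X, U), (I.subschemeι.stalkMap z).hom (algebraMap _ _ a) =
      algebraMap Γ(I.subscheme, V.1) (I.subscheme.presheaf.stalk z) ((I.subschemeι.app U).hom a) := fun a => by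
    exact Scheme.Hom.germ_stalkMap_apply I.subschemeι U z hxU a
  have hker : ∀ a, (I.subschemeι.app U).hom a = 0 ↔ a ∈ I.ideal ⟨U, hU⟩ := fun a => by
    rw [← RingHom.mem_ker, Scheme.IdealSheafData.ker_subschemeι_app I ⟨U, hU⟩]
  rw [SDivLib.stalkIdeal_eq I ⟨U, hU⟩ hxU]
  apply le_antisymm
  · intro w hw
    obtain ⟨a, s, rfl⟩ := IsLocalization.exists_mk'_eq (hU.primeIdealOf ⟨_, hxU⟩).asIdeal.primeCompl w
    have h0 : algebraMap Γ(I.subscheme, V.1) (I.subscheme.presheaf.stalk z) ((I.subschemeι.app U).hom a) = 0 := by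
      rw [← hc, ← IsLocalization.mk'_spec (X.presheaf.stalk (I.subschemeι z)) a s, map_mul, RingHom.mem_ker.1 hw,
        zero_mul]
    obtain ⟨⟨v, hv⟩, hva⟩ := (IsLocalization.map_eq_zero_iff (V.2.primeIdealOf ⟨z, hxU⟩).asIdeal.primeCompl _ _).1 h0
    obtain ⟨r, rfl⟩ := I.subschemeι_app_surjective ⟨U, hU⟩ v
    rw [← map_mul, hker] at hva
    have hru : IsUnit (algebraMap Γ(X, U) (X.presheaf.stalk (I.subschemeι z)) r) :=
      isUnit_of_map_unit (I.subschemeι.stalkMap z).hom _ (by
        rw [hc]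
        exact IsLocalization.map_units (I.subscheme.presheaf.stalk z)
          (⟨_, hv⟩ : (V.2.primeIdealOf ⟨z, hxU⟩).asIdeal.primeCompl))
    show _ ∈ Ideal.map (algebraMap Γ(X, U) (X.presheaf.stalk (I.subschemeι z))) (I.ideal ⟨U, hU⟩)
    rw [IsLocalization.mk'_eq_mul_mk'_one]
    refine Ideal.mul_mem_right _ _ ((Ideal.unit_mul_mem_iff_mem _ hru).1 ?_)
    rw [← map_mul]
    exact Ideal.mem_map_of_mem _ hva
  · refine Ideal.map_le_iff_le_comap.2 fun a ha => ?_
    show (I.subschemeι.stalkMap z).hom (algebraMap Γ(X, U) _ a) = 0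
    rw [hc, (hker a).2 ha, map_zero]

theorem finrank_eq_appTop {X : Scheme.{u}} {k : Type u} [Field k] (c : X ⟶ Spec (CommRingCat.of k)) [IsFinite c]
    (s : Spec (CommRingCat.of k)) :
    letI := ((Scheme.ΓSpecIso (CommRingCat.of k)).inv ≫ c.appTop).hom.toAlgebra
    Module.Finite k Γ(X, ⊤) ∧ c.finrank s = Module.finrank k Γ(X, ⊤) := by
  haveI : IsAffine X := isAffine_of_isAffineHom c
  let φ : CommRingCat.of k ⟶ Γ(X, ⊤) := (Scheme.ΓSpecIso (CommRingCat.of k)).inv ≫ c.appTop
  letI := φ.hom.toAlgebra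
  have hφ : X.isoSpec.hom ≫ Spec.map φ = c := by
    rw [Spec.map_comp, Scheme.isoSpec_hom_naturality_assoc, Scheme.isoSpec_Spec_hom, ← Spec.map_comp]
    simp
  have hφ' : Spec.map φ = X.isoSpec.inv ≫ c := by rw [← hφ, Iso.inv_hom_id_assoc]
  haveI : IsFinite (Spec.map φ) := hφ' ▸ inferInstance
  haveI hf : Module.Finite k Γ(X, ⊤) := (IsFinite.SpecMap_iff φ).1 ‹_›
  refine ⟨hf, ?_⟩
  rw [← Scheme.Hom.finrank_comp_left_of_isIso X.isoSpec.inv c, ← hφ']
  show (Spec.map (CommRingCat.ofHom (algebraMap k Γ(X, ⊤)))).finrank s = _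
  erw [Scheme.Hom.finrank_SpecMap_algebraMap]
  rw [Module.rankAtStalk_eq_finrank_of_free]
  rfl

theorem ker_lift_eq_comap {Y Z : Scheme.{u}} (ι : Z ⟶ Y) [IsClosedImmersion ι] (I : Y.IdealSheafData)
    (j : I.subscheme ⟶ Z) (hj : j ≫ ι = I.subschemeι) : j.ker = I.comap ι := by
  refine le_antisymm ?_ ?_
  · have hv : (I.comap ι).subschemeι = ((I.comapIso ι).hom ≫ pullback.snd ι I.subschemeι) ≫ j := by
      rw [← cancel_mono ι, Category.assoc, hj]
      exact (isPullback_comap I ι).w.symm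
    rw [← Scheme.IdealSheafData.ker_subschemeι (I.comap ι), hv]
    exact Scheme.Hom.le_ker_comp _ _
  · rw [← comap_eq_bot_iff, ← Scheme.IdealSheafData.comap_comp, hj, comap_eq_bot_iff,
      Scheme.IdealSheafData.ker_subschemeι]

/-- The degree of a sum of divisors on a curve over a field. -/
theorem finrank_mul {k : Type u} [Field k] {Y : Scheme.{u}} (g : Y ⟶ Spec (CommRingCat.of k))
    [SmoothOfRelativeDimension 1 g] (I J : Y.IdealSheafData)
    (hI : BlowUp.IsEffCartierIdeal I) (hJ : BlowUp.IsEffCartierIdeal J)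
    [IsFinite ((I * J).subschemeι ≫ g)] [IsFinite (I.subschemeι ≫ g)] [IsFinite (J.subschemeι ≫ g)]
    (s : Spec (CommRingCat.of k)) :
    ((I * J).subschemeι ≫ g).finrank s = (I.subschemeι ≫ g).finrank s + (J.subschemeι ≫ g).finrank s := by
  haveI : Smooth g := SmoothOfRelativeDimension.smooth 1 g
  haveI : IsLocallyNoetherian Y := LocallyOfFiniteType.isLocallyNoetherian g
  let ι := (I * J).subschemeι
  haveI : IsAffine (I * J).subscheme := isAffine_of_isAffineHom (ι ≫ g)
  have hleI : I * J ≤ I := fun U => by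
    rw [Scheme.IdealSheafData.ideal_mul, Pi.mul_apply]
    exact Ideal.mul_le_left
  have hleJ : I * J ≤ J := fun U => by
    rw [Scheme.IdealSheafData.ideal_mul, Pi.mul_apply]
    exact Ideal.mul_le_right
  let T : (I * J).subscheme.affineOpens := ⟨⊤, isAffineOpen_top _⟩
  let C := Γ((I * J).subscheme, ⊤)
  letI algC : Algebra k C := ((Scheme.ΓSpecIso (CommRingCat.of k)).inv ≫ (ι ≫ g).appTop).hom.toAlgebra
  obtain ⟨hfin, hC⟩ := finrank_eq_appTop (ι ≫ g) s
  haveI : Module.Finite k C := hfin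
  haveI : IsArtinianRing C := isArtinian_of_tower k inferInstance
  have hquot : ∀ (I₁ : Y.IdealSheafData) (_ : I * J ≤ I₁) [IsFinite (I₁.subschemeι ≫ g)],
      (I₁.subschemeι ≫ g).finrank s = Module.finrank k (C ⧸ (I₁.comap ι).ideal T) := by
    intro I₁ hle _
    let j := IsClosedImmersion.lift ι I₁.subschemeι (by
      rw [Scheme.IdealSheafData.ker_subschemeι, Scheme.IdealSheafData.ker_subschemeι]; exact hle)
    have hj : j ≫ ι = I₁.subschemeι := IsClosedImmersion.lift_fac _ _ _
    haveI : IsClosedImmersion (j ≫ ι) := by rw [hj]; infer_instance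
    haveI : IsClosedImmersion j := IsClosedImmersion.of_comp j ι
    haveI : IsAffine I₁.subscheme := isAffine_of_isAffineHom (I₁.subschemeι ≫ g)
    letI : Algebra k Γ(I₁.subscheme, ⊤) :=
      ((Scheme.ΓSpecIso (CommRingCat.of k)).inv ≫ (I₁.subschemeι ≫ g).appTop).hom.toAlgebra
    obtain ⟨-, h1⟩ := finrank_eq_appTop (I₁.subschemeι ≫ g) s
    let π : C →ₐ[k] Γ(I₁.subscheme, ⊤) :=
      { j.appTop.hom with
        commutes' := fun r => by
          show ((Scheme.ΓSpecIso (CommRingCat.of k)).inv ≫ (ι ≫ g).appTop ≫ j.appTop).hom r =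
            ((Scheme.ΓSpecIso (CommRingCat.of k)).inv ≫ (I₁.subschemeι ≫ g).appTop).hom r
          rw [← Scheme.Hom.comp_appTop, ← Category.assoc j, hj] }
    have hker : RingHom.ker π = (I₁.comap ι).ideal T := by
      rw [← ker_lift_eq_comap ι I₁ j hj]
      exact (Scheme.Hom.ker_apply j T).symm
    have hsurj : Function.Surjective π := j.app_surjective ⊤ (isAffineOpen_top _)
    rw [h1]
    exact ((Ideal.quotientEquivAlgOfEq k hker.symm).trans
      (Ideal.quotientKerAlgEquivOfSurjective hsurj)).toLinearEquiv.finrank_eq.symm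
  rw [hC, hquot I hleI, hquot J hleJ]
  obtain ⟨t, hK, hL⟩ := exists_gen_ann ((I.comap ι).ideal T) ((J.comap ι).ideal T) fun q hq => by
    haveI := hq.isPrime
    obtain ⟨z, hz, hzq⟩ := SDivLib.exists_point T q
    subst hzq
    letI := (I * J).subscheme.presheaf.algebra_section_stalk (⟨z, hz⟩ : T.1)
    let Q := (I * J).subscheme.presheaf.stalk z
    haveI : IsLocalization.AtPrime Q (SDivLib.prm T hz) := T.2.isLocalization_stalk ⟨z, hz⟩
    obtain ⟨a, ha, hIa⟩ := DivDescLib.exists_gen hI (ι z)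
    obtain ⟨b, hb, hJb⟩ := DivDescLib.exists_gen hJ (ι z)
    let φ := (ι.stalkMap z).hom
    have hφs : Function.Surjective φ := ι.stalkMap_surjective z
    have hφk : RingHom.ker φ = Ideal.span {a * b} := by
      rw [ker_stalkMap_subschemeι, SDivLib.stalkIdeal_mul, hIa, hJb, Ideal.span_singleton_mul_span_singleton]
    have hloc : ∀ (I₁ : Y.IdealSheafData) (c : Y.presheaf.stalk (ι z)), IntMult.stalkIdeal I₁ (ι z) = Ideal.span {c} →
        ((I₁.comap ι).ideal T).map (algebraMap C Q) = Ideal.span {φ c} := fun I₁ c hc => by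
      have := DivDescLib.stalkIdeal_comap (f := ι) I₁ z
      rw [SDivLib.stalkIdeal_eq _ T hz, hc, Ideal.map_span, Set.image_singleton] at this
      exact this
    have hKQ := hloc I a hIa
    have hLQ := hloc J b hJb
    obtain ⟨⟨⟨t, ht⟩, ⟨v, hv⟩⟩, htv⟩ := (IsLocalization.mem_map_algebraMap_iff (SDivLib.prm T hz).primeCompl Q).1
      (hKQ.ge (Ideal.mem_span_singleton_self (φ a)))
    have hvu : IsUnit (algebraMap C Q v) := IsLocalization.map_units Q (⟨v, hv⟩ : (SDivLib.prm T hz).primeCompl)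
    refine ⟨t, ht, fun x hx => ?_, fun c hc => ?_, fun c hc => ?_⟩
    · have hx' : algebraMap C Q x ∈ (Ideal.span {t}).map (algebraMap C Q) := by
        rw [Ideal.map_span, Set.image_singleton, ← htv, Ideal.span_singleton_mul_right_unit hvu, ← hKQ]
        exact Ideal.mem_map_of_mem _ hx
      obtain ⟨u, hu, hux⟩ := (IsLocalization.algebraMap_mem_map_algebraMap_iff
        (SDivLib.prm T hz).primeCompl Q _ x).1 hx'
      exact ⟨u, hu, hux⟩
    · obtain ⟨w, hw⟩ := Ideal.mem_span_singleton.1 (hLQ.le (Ideal.mem_map_of_mem _ hc))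
      have h0 : algebraMap C Q (c * t) = 0 := by
        have hab : φ a * φ b = 0 := by
          rw [← map_mul]; exact hφk.ge (Ideal.mem_span_singleton_self _)
        rw [map_mul, hw, ← htv, show φ b * w * (φ a * algebraMap C Q v) = φ a * φ b * (w * algebraMap C Q v) by ring,
          hab, zero_mul]
      obtain ⟨⟨u, hu⟩, hu0⟩ := (IsLocalization.map_eq_zero_iff (SDivLib.prm T hz).primeCompl Q _).1 h0
      exact ⟨u, hu, hu0⟩
    · obtain ⟨γ, hγ⟩ := hφs (algebraMap C Q c)
      have h0 : φ (γ * a) = 0 := by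
        rw [map_mul, hγ, ← hvu.mul_left_eq_zero, mul_assoc, htv, ← map_mul, hc, map_zero]
      obtain ⟨r, hr⟩ := Ideal.mem_span_singleton.1 (hφk.le h0)
      have hγb : γ = b * r := by
        have : (γ - b * r) * a = 0 := by rw [sub_mul, hr]; ring
        exact sub_eq_zero.1 ((mem_nonZeroDivisors_iff_right.1 ha) _ this)
      have hc' : algebraMap C Q c ∈ ((J.comap ι).ideal T).map (algebraMap C Q) := by
        rw [hLQ, ← hγ, hγb, map_mul]
        exact Ideal.mul_mem_right _ _ (Ideal.mem_span_singleton_self _)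
      obtain ⟨u, hu, hul⟩ := (IsLocalization.algebraMap_mem_map_algebraMap_iff
        (SDivLib.prm T hz).primeCompl Q _ c).1 hc'
      exact ⟨u, hu, hul⟩
  exact finrank_add_of_gen_ann _ _ hK hL

theorem comap_mul {Z Y : Scheme.{u}} (a : Z ⟶ Y) (I J : Y.IdealSheafData) :
    (I * J).comap a = I.comap a * J.comap a :=
  DivDescLib.eq_of_stalk fun x => by
    rw [DivDescLib.stalkIdeal_comap, SDivLib.stalkIdeal_mul, SDivLib.stalkIdeal_mul,
      DivDescLib.stalkIdeal_comap, DivDescLib.stalkIdeal_comap, Ideal.map_mul]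

theorem isSeparated_of_surjective {W Z S : Scheme.{u}} (π : W ⟶ Z) (g : Z ⟶ S) [IsFinite π] [Surjective π]
    [IsSeparated (π ≫ g)] : IsSeparated g := by
  refine ⟨IsClosedImmersion.of_isPreimmersion _ ?_⟩
  let P := pullback.map (π ≫ g) (π ≫ g) g g π π (𝟙 S) (by simp) (by simp)
  haveI : IsFinite P := MorphismProperty.pullback_map (P := @IsFinite) ‹IsFinite π› ‹IsFinite π› rfl rfl
  have hP : pullback.diagonal (π ≫ g) ≫ P = π ≫ pullback.diagonal g := by
    apply pullback.hom_ext <;> simp [P]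
  have hr : Set.range (pullback.diagonal g) = P '' Set.range (pullback.diagonal (π ≫ g)) := by
    rw [← Set.range_comp]
    ext y
    constructor
    · rintro ⟨z, rfl⟩
      obtain ⟨w, rfl⟩ := π.surjective z
      refine ⟨w, ?_⟩
      show P (pullback.diagonal (π ≫ g) w) = _
      rw [← Scheme.Hom.comp_apply, hP, Scheme.Hom.comp_apply]
    · rintro ⟨w, rfl⟩
      refine ⟨π w, ?_⟩
      show _ = P (pullback.diagonal (π ≫ g) w)
      rw [← Scheme.Hom.comp_apply, ← hP, Scheme.Hom.comp_apply]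
  rw [hr]
  exact P.isClosedMap _ (pullback.diagonal (π ≫ g)).isClosedEmbedding.isClosed_range

/-- The sum of two finite closed subschemes is proper. -/
theorem isProper_mul {X S : Scheme.{u}} (f : X ⟶ S) (I J : X.IdealSheafData)
    [IsFinite (I.subschemeι ≫ f)] [IsFinite (J.subschemeι ≫ f)]
    [LocallyOfFiniteType ((I * J).subschemeι ≫ f)] : IsProper ((I * J).subschemeι ≫ f) := by
  let ι := (I * J).subschemeι
  have hleI : I * J ≤ I := fun U => by
    rw [Scheme.IdealSheafData.ideal_mul, Pi.mul_apply]; exact Ideal.mul_le_left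
  have hleJ : I * J ≤ J := fun U => by
    rw [Scheme.IdealSheafData.ideal_mul, Pi.mul_apply]; exact Ideal.mul_le_right
  let jI := IsClosedImmersion.lift ι I.subschemeι (by
      rw [Scheme.IdealSheafData.ker_subschemeι, Scheme.IdealSheafData.ker_subschemeι]; exact hleI)
  let jJ := IsClosedImmersion.lift ι J.subschemeι (by
      rw [Scheme.IdealSheafData.ker_subschemeι, Scheme.IdealSheafData.ker_subschemeι]; exact hleJ)
  have hjI : jI ≫ ι = I.subschemeι := IsClosedImmersion.lift_fac _ _ _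
  have hjJ : jJ ≫ ι = J.subschemeι := IsClosedImmersion.lift_fac _ _ _
  haveI : IsClosedImmersion (jI ≫ ι) := by rw [hjI]; infer_instance
  haveI : IsClosedImmersion (jJ ≫ ι) := by rw [hjJ]; infer_instance
  haveI : IsClosedImmersion jI := IsClosedImmersion.of_comp jI ι
  haveI : IsClosedImmersion jJ := IsClosedImmersion.of_comp jJ ι
  let π := coprod.desc jI jJ
  haveI : Surjective π := ⟨fun z => by
    have hz : ι z ∈ (I * J).support := by
      rw [← SetLike.mem_coe, ← Scheme.IdealSheafData.range_subschemeι]; exact ⟨z, rfl⟩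
    rw [SDivLib.mem_support_iff_stalk, SDivLib.stalkIdeal_mul] at hz
    have : ι z ∈ I.support ∨ ι z ∈ J.support := by
      by_contra h
      simp only [not_or, SDivLib.mem_support_iff_stalk, not_not] at h
      exact hz (by rw [h.1, h.2, Ideal.top_mul])
    rcases this with h | h
    · rw [← SetLike.mem_coe, ← Scheme.IdealSheafData.range_subschemeι] at h
      obtain ⟨w, hw⟩ := h
      refine ⟨(coprod.inl : I.subscheme ⟶ _) w, ι.isClosedEmbedding.injective ?_⟩
      rw [← Scheme.Hom.comp_apply, ← Scheme.Hom.comp_apply, coprod.inl_desc_assoc, hjI, hw]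
    · rw [← SetLike.mem_coe, ← Scheme.IdealSheafData.range_subschemeι] at h
      obtain ⟨w, hw⟩ := h
      refine ⟨(coprod.inr : J.subscheme ⟶ _) w, ι.isClosedEmbedding.injective ?_⟩
      rw [← Scheme.Hom.comp_apply, ← Scheme.Hom.comp_apply, coprod.inr_desc_assoc, hjJ, hw]⟩
  have hπ : π ≫ ι ≫ f = coprod.desc (I.subschemeι ≫ f) (J.subschemeι ≫ f) := by
    rw [coprod.desc_comp, ← Category.assoc jI, hjI, ← Category.assoc jJ, hjJ]
  haveI : IsFinite (π ≫ ι ≫ f) := by rw [hπ]; infer_instance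
  haveI : UniversallyClosed (ι ≫ f) := UniversallyClosed.of_comp_surjective π _
  haveI : IsSeparated (ι ≫ f) := isSeparated_of_surjective π _
  exact IsProper.mk

variable {X S : Scheme.{u}} (f : X ⟶ S) [SmoothOfRelativeDimension 1 f]

theorem finrank_fibre_eq {d : ℕ} (I : X.IdealSheafData) (hI : Mor2.IsFinLocFreeOfDeg d (I.subschemeι ≫ f))
    {T : Scheme.{u}} (g : T ⟶ S) :
    Mor2.IsFinLocFreeOfDeg d ((I.comap (pullback.fst f g)).subschemeι ≫ pullback.snd f g) :=
  isFinLocFreeOfDeg_of_isPullback (isPullback_fibre f I g) hI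

/-- Sums of relative divisors. -/
theorem isFinLocFreeOfDeg_mul (I₁ I₂ : X.IdealSheafData) (d₁ d₂ : ℕ)
    (h₁ : Mor2.IsFinLocFreeOfDeg d₁ (I₁.subschemeι ≫ f)) (h₂ : Mor2.IsFinLocFreeOfDeg d₂ (I₂.subschemeι ≫ f)) :
    Mor2.IsFinLocFreeOfDeg (d₁ + d₂) ((I₁ * I₂).subschemeι ≫ f) := by
  haveI : Smooth f := SmoothOfRelativeDimension.smooth 1 f
  obtain ⟨hc₁, hf₁⟩ := effCartier_of_finLocFree f I₁ h₁.1
  obtain ⟨hc₂, hf₂⟩ := effCartier_of_finLocFree f I₂ h₂.1
  obtain ⟨hqf, hfl, hfp⟩ := (effCartier_iff f (I₁ * I₂)).1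
    ⟨SDivLib.isEffCartier_mul hc₁ hc₂, SDivLib.flat_mul f hc₁ hc₂ hf₁ hf₂⟩
  haveI := h₁.1.1
  haveI := h₂.1.1
  haveI : IsProper ((I₁ * I₂).subschemeι ≫ f) := isProper_mul f I₁ I₂
  haveI := hqf
  haveI hfin : IsFinite ((I₁ * I₂).subschemeι ≫ f) := IsFinite.of_isProper_of_locallyQuasiFinite _
  refine ⟨⟨hfin, hfl, hfp⟩, fun s => ?_⟩
  haveI := hfl
  haveI := smooth_fibre f s
  let x₀ : Spec (S.residueField s) := IsLocalRing.closedPoint (S.residueField s)
  have hs : S.fromSpecResidueField s x₀ = s := S.fromSpecResidueField_apply s x₀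
  have e : ∀ (K : X.IdealSheafData) [IsFinite (K.subschemeι ≫ f)] [Flat (K.subschemeι ≫ f)],
      ((K.comap (pullback.fst f (S.fromSpecResidueField s))).subschemeι ≫ f.fiberToSpecResidueField s).finrank x₀ = (K.subschemeι ≫ f).finrank s := by
    intro K _ _
    have h := Scheme.Hom.finrank_of_isPullback _ _ _ _ (isPullback_fibre f K (S.fromSpecResidueField s)) x₀
    rw [hs] at h
    exact h
  haveI := h₁.1.2.1
  haveI := h₂.1.2.1
  haveI hfs : IsFinite (((I₁ * I₂).comap (pullback.fst f (S.fromSpecResidueField s))).subschemeι ≫ f.fiberToSpecResidueField s) :=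
    MorphismProperty.of_isPullback (P := @IsFinite) (isPullback_fibre f _ (S.fromSpecResidueField s)) hfin
  haveI : IsFinite ((I₁.comap (pullback.fst f (S.fromSpecResidueField s)) * I₂.comap (pullback.fst f (S.fromSpecResidueField s))).subschemeι ≫ f.fiberToSpecResidueField s) := by
    rw [← comap_mul]; exact hfs
  haveI : IsFinite ((I₁.comap (pullback.fst f (S.fromSpecResidueField s))).subschemeι ≫ f.fiberToSpecResidueField s) :=
    MorphismProperty.of_isPullback (P := @IsFinite) (isPullback_fibre f I₁ (S.fromSpecResidueField s)) h₁.1.1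
  haveI : IsFinite ((I₂.comap (pullback.fst f (S.fromSpecResidueField s))).subschemeι ≫ f.fiberToSpecResidueField s) :=
    MorphismProperty.of_isPullback (P := @IsFinite) (isPullback_fibre f I₂ (S.fromSpecResidueField s)) h₂.1.1
  rw [← e, comap_mul, finrank_mul (f.fiberToSpecResidueField s) _ _
      (Groth.Agent.S1662.result f I₁ hc₁ (S.fromSpecResidueField s))
      (Groth.Agent.S1662.result f I₂ hc₂ (S.fromSpecResidueField s)) x₀, e, e, h₁.2 s, h₂.2 s]

/-- Differences of relative divisors. -/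
theorem exists_div (I₁ I₂ : X.IdealSheafData) (hle : I₂ ≤ I₁) (d₁ d₂ : ℕ)
    (h₁ : Mor2.IsFinLocFreeOfDeg d₁ (I₁.subschemeι ≫ f)) (h₂ : Mor2.IsFinLocFreeOfDeg d₂ (I₂.subschemeι ≫ f)) :
    ∃ I : X.IdealSheafData, Mor2.IsFinLocFreeOfDeg (d₂ - d₁) (I.subschemeι ≫ f) ∧ I₂ = I₁ * I := by
  haveI : Smooth f := SmoothOfRelativeDimension.smooth 1 f
  obtain ⟨hc₁, hf₁⟩ := effCartier_of_finLocFree f I₁ h₁.1
  obtain ⟨hc₂, hf₂⟩ := effCartier_of_finLocFree f I₂ h₂.1
  obtain ⟨D, hD⟩ := ModPairLib.exists_mul_eq hc₁ hle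
  have hcD : BlowUp.IsEffCartierIdeal D :=
    BlowUpLib.isEffCartier_of_mul (I := I₁) (by rw [mul_comm, hD]; exact hc₂)
  have hfD : Flat (D.subschemeι ≫ f) := SDivLib.flat_div f hcD hc₁ hf₁ (by rw [hD]; exact hf₂)
  obtain ⟨hqf, -, hfp⟩ := (effCartier_iff f D).1 ⟨hcD, hfD⟩
  have hleD : I₂ ≤ D := fun U => by
    rw [← hD, Scheme.IdealSheafData.ideal_mul, Pi.mul_apply]; exact Ideal.mul_le_left
  let j := IsClosedImmersion.lift I₂.subschemeι D.subschemeι (by
      rw [Scheme.IdealSheafData.ker_subschemeι, Scheme.IdealSheafData.ker_subschemeι]; exact hleD)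
  have hj : j ≫ I₂.subschemeι = D.subschemeι := IsClosedImmersion.lift_fac _ _ _
  haveI : IsClosedImmersion (j ≫ I₂.subschemeι) := by rw [hj]; infer_instance
  haveI : IsClosedImmersion j := IsClosedImmersion.of_comp j I₂.subschemeι
  haveI := h₂.1.1
  haveI hfin : IsFinite (D.subschemeι ≫ f) := by rw [← hj, Category.assoc]; infer_instance
  haveI := hfD
  refine ⟨D, ⟨⟨hfin, hfD, hfp⟩, fun s => ?_⟩, by rw [← hD, mul_comm]⟩
  have key : ∀ s : S, (D.subschemeι ≫ f).finrank s + d₁ = d₂ := fun s => by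
    haveI := smooth_fibre f s
    haveI := h₁.1.1
    haveI := h₁.1.2.1
    haveI := h₂.1.2.1
    let x₀ : Spec (S.residueField s) := IsLocalRing.closedPoint (S.residueField s)
    have hs : S.fromSpecResidueField s x₀ = s := S.fromSpecResidueField_apply s x₀
    have e : ∀ (K : X.IdealSheafData) [IsFinite (K.subschemeι ≫ f)] [Flat (K.subschemeι ≫ f)],
        ((K.comap (pullback.fst f (S.fromSpecResidueField s))).subschemeι ≫ f.fiberToSpecResidueField s).finrank x₀ = (K.subschemeι ≫ f).finrank s := by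
      intro K _ _
      have h := Scheme.Hom.finrank_of_isPullback _ _ _ _ (isPullback_fibre f K (S.fromSpecResidueField s)) x₀
      rw [hs] at h
      exact h
    haveI hfs : IsFinite ((I₂.comap (pullback.fst f (S.fromSpecResidueField s))).subschemeι ≫ f.fiberToSpecResidueField s) :=
      MorphismProperty.of_isPullback (P := @IsFinite) (isPullback_fibre f _ (S.fromSpecResidueField s)) h₂.1.1
    haveI : IsFinite ((D.comap (pullback.fst f (S.fromSpecResidueField s)) * I₁.comap (pullback.fst f (S.fromSpecResidueField s))).subschemeι ≫ f.fiberToSpecResidueField s) := by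
      rw [← comap_mul, hD]; exact hfs
    haveI : IsFinite ((I₁.comap (pullback.fst f (S.fromSpecResidueField s))).subschemeι ≫ f.fiberToSpecResidueField s) :=
      MorphismProperty.of_isPullback (P := @IsFinite) (isPullback_fibre f I₁ (S.fromSpecResidueField s)) h₁.1.1
    haveI : IsFinite ((D.comap (pullback.fst f (S.fromSpecResidueField s))).subschemeι ≫ f.fiberToSpecResidueField s) :=
      MorphismProperty.of_isPullback (P := @IsFinite) (isPullback_fibre f D (S.fromSpecResidueField s)) hfin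
    rw [← e D, ← h₁.2 s, ← e I₁, ← finrank_mul (f.fiberToSpecResidueField s) _ _
        (Groth.Agent.S1662.result f D hcD (S.fromSpecResidueField s))
        (Groth.Agent.S1662.result f I₁ hc₁ (S.fromSpecResidueField s)) x₀, ← comap_mul, hD, e I₂, h₂.2 s]
  have := key s
  omega

end HilbPts.SC

end
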