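import Groth.Agent.HilbPtsLib.Vanish
import Mathlib.AlgebraicGeometry.Morphisms.Separated

/-!
# Containment loci; separatedness; closed subschemes
-/

set_option autoImplicit false
set_option linter.style.haveILetI false
set_option linter.unusedSectionVars false
set_option backward.isDefEq.respectTransparency false
set_option backward.isDefEq.respectTransparency.types false

universe u

open CategoryTheory CategoryTheory.Limits AlgebraicGeometry

noncomputable section

namespace HilbPts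

variable {X S : Scheme.{u}} (f : X ⟶ S)

/-- The locus where one closed subscheme, finite locally free over the base, lies in another is closed. -/
theorem exists_containment {T : Scheme.{u}} {g : T ⟶ S} (I J : (pullback f g).IdealSheafData)
    (hI : Mor2.IsFinLocFree (I.subschemeι ≫ pullback.snd f g)) :
    ∃ K : T.IdealSheafData, ∀ {T' : Scheme.{u}} {g' : T' ⟶ S} (h : T' ⟶ T) (w : h ≫ g = g'),
      J.comap (m f h w) ≤ I.comap (m f h w) ↔ K.comap h = ⊥ := by
  obtain ⟨K, hK⟩ := exists_locus hI (J.comap I.subschemeι)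
  refine ⟨K, fun {T' g'} h w => Iff.trans ?_ (hK h)⟩
  have sq := isPullback_comap_m f h w I
  have e : sq.isoPullback.hom ≫ pullback.fst (I.subschemeι ≫ pullback.snd f g) h ≫ I.subschemeι =
      (I.comap (m f h w)).subschemeι ≫ m f h w := by
    rw [← Category.assoc, sq.isoPullback_hom_fst]
    exact (isPullback_comap I (m f h w)).w
  have h1 : J.comap (m f h w) ≤ I.comap (m f h w) ↔
      (J.comap (m f h w)).comap (I.comap (m f h w)).subschemeι = ⊥ := by
    rw [comap_eq_bot_iff, Scheme.IdealSheafData.ker_subschemeι]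
  rw [h1, Full, ← Scheme.IdealSheafData.comap_comp, ← Scheme.IdealSheafData.comap_comp, ← e,
    Scheme.IdealSheafData.comap_comp]
  constructor
  · intro H
    have := congrArg (·.comap sq.isoPullback.inv) H
    simp only [← Scheme.IdealSheafData.comap_comp, Scheme.IdealSheafData.comap_bot, Iso.inv_hom_id_assoc] at this
    exact this
  · intro H
    rw [H, Scheme.IdealSheafData.comap_bot]

theorem prop_pull {d : ℕ} {T T' : Over S} (u : T' ⟶ T) (Z : HilbD.Obj f d T) :
    Mor2.IsFinLocFreeOfDeg d ((HilbD.pull f u Z.1).subschemeι ≫ PicF.XTproj f T') := by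
  rw [pull_eq]
  exact isFinLocFreeOfDeg_of_isPullback (isPullback_comap_m f _ (Over.w u) Z.1) Z.2

/-- A universal pair lives on a scheme separated over the base. -/
theorem isSeparated_of_isUniversal (d : ℕ) (H : Over S) (Z : HilbD.Obj f d H) (hZ : HilbD.IsUniversal f d H Z) :
    IsSeparated H.hom := by
  let T : Over S := Over.mk (pullback.fst H.hom H.hom ≫ H.hom)
  let p₁ : T ⟶ H := Over.homMk (pullback.fst H.hom H.hom)
  let p₂ : T ⟶ H := Over.homMk (pullback.snd H.hom H.hom) pullback.condition.symm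
  obtain ⟨K₁, hK₁⟩ := exists_containment f (HilbD.pull f p₁ Z.1) (HilbD.pull f p₂ Z.1) (prop_pull f p₁ Z).1
  obtain ⟨K₂, hK₂⟩ := exists_containment f (HilbD.pull f p₂ Z.1) (HilbD.pull f p₁ Z.1) (prop_pull f p₂ Z).1
  have key : ∀ {W : Scheme.{u}} (h : W ⟶ pullback H.hom H.hom),
      (K₁ ⊔ K₂).comap h = ⊥ ↔ h ≫ pullback.fst H.hom H.hom = h ≫ pullback.snd H.hom H.hom := by
    intro W h
    rw [Scheme.IdealSheafData.comap_sup, sup_eq_bot_iff, ← hK₁ h rfl, ← hK₂ h rfl, ← le_antisymm_iff]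
    let T' : Over S := Over.mk (h ≫ T.hom)
    let v : T' ⟶ T := Over.homMk h
    have e : ∀ p : T ⟶ H, (HilbD.pull f p Z.1).comap (m f h (rfl : h ≫ T.hom = _)) = HilbD.pull f (v ≫ p) Z.1 := fun p => by
      rw [pull_eq, pull_eq, ← Scheme.IdealSheafData.comap_comp, m_comp]
      rfl
    rw [e, e]
    constructor
    · intro he
      have := (hZ T' ⟨_, prop_pull f (v ≫ p₁) Z⟩).unique rfl he
      exact congrArg CommaMorphism.left this
    · intro he
      have : v ≫ p₁ = v ≫ p₂ := Over.OverMorphism.ext he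
      rw [this]
  let Δ := pullback.diagonal H.hom
  have hι := (key (K₁ ⊔ K₂).subschemeι).1 ((comap_eq_bot_iff _ _).2 (K₁ ⊔ K₂).ker_subschemeι.ge)
  have hΔ : K₁ ⊔ K₂ ≤ Δ.ker := (comap_eq_bot_iff _ _).1 ((key Δ).2 (by simp [Δ]))
  let i := IsClosedImmersion.lift (K₁ ⊔ K₂).subschemeι Δ ((Scheme.IdealSheafData.ker_subschemeι _).le.trans hΔ)
  have hi : i ≫ (K₁ ⊔ K₂).subschemeι = Δ := IsClosedImmersion.lift_fac _ _ _
  let j := (K₁ ⊔ K₂).subschemeι ≫ pullback.fst H.hom H.hom
  have hj : j ≫ Δ = (K₁ ⊔ K₂).subschemeι := pullback.hom_ext (by simp [j, Δ]) (by simp [j, Δ, hι])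
  haveI : IsIso i := ⟨j, by rw [← cancel_mono Δ, Category.assoc, hj, hi, Category.id_comp],
    by rw [← cancel_mono (K₁ ⊔ K₂).subschemeι, Category.assoc, hi, hj, Category.id_comp]⟩
  refine ⟨?_⟩
  show IsClosedImmersion Δ
  rw [← hi]
  infer_instance

theorem prop_ker {Z P Q : Scheme.{u}} (c : Z ⟶ P) [IsClosedImmersion c] (q : P ⟶ Q) {d : ℕ} :
    Mor2.IsFinLocFreeOfDeg d (c.ker.subschemeι ≫ q) ↔ Mor2.IsFinLocFreeOfDeg d (c ≫ q) := by
  have e : c.toImage ≫ c.ker.subschemeι = c := c.toImage_imageι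
  haveI : IsIso c.toImage := inferInstance
  constructor
  · exact fun h => isFinLocFreeOfDeg_of_isPullback (a := c.toImage) (h := 𝟙 _)
      (IsPullback.of_horiz_isIso ⟨by rw [Category.comp_id, ← Category.assoc, e]⟩) h
  · exact fun h => isFinLocFreeOfDeg_of_isPullback (a := inv c.toImage) (h := 𝟙 _)
      (IsPullback.of_horiz_isIso ⟨by rw [Category.comp_id, IsIso.inv_comp_eq, ← Category.assoc, e]⟩) h

theorem eq_map_comap_of_le {P Q : Scheme.{u}} (e : P ⟶ Q) [IsClosedImmersion e] (A : Q.IdealSheafData)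
    (h : e.ker ≤ A) : (A.comap e).map e = A := by
  have hl := IsClosedImmersion.lift_fac e A.subschemeι (h.trans A.ker_subschemeι.ge)
  haveI : IsClosedImmersion (IsClosedImmersion.lift e A.subschemeι (h.trans A.ker_subschemeι.ge) ≫ e) := by
    rw [hl]; infer_instance
  have h1 := comap_ker_comp (IsClosedImmersion.lift e A.subschemeι (h.trans A.ker_subschemeι.ge)) e
  rw [hl] at h1
  rw [(congrArg (·.comap e) A.ker_subschemeι).symm.trans h1, Scheme.IdealSheafData.map_ker, hl,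
    Scheme.IdealSheafData.ker_subschemeι]

variable {Y : Scheme.{u}} (i : X ⟶ Y) [IsClosedImmersion i] (g : Y ⟶ S)

/-- The base change of the closed immersion. -/
def iT {T : Scheme.{u}} (t : T ⟶ S) : pullback (i ≫ g) t ⟶ pullback g t :=
  pullback.map (i ≫ g) t g t i (𝟙 _) (𝟙 S) (Category.comp_id _) (by simp)

theorem isPullback_iT {T : Scheme.{u}} (t : T ⟶ S) :
    IsPullback (iT i g t) (pullback.fst (i ≫ g) t) (pullback.fst g t) i := by
  have h : iT i g t ≫ pullback.snd g t = pullback.snd (i ≫ g) t := by simp [iT]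
  refine IsPullback.of_right ?_ (by simp [iT]) (IsPullback.of_hasPullback g t).flip
  rw [h]
  exact (IsPullback.of_hasPullback (i ≫ g) t).flip

instance {T : Scheme.{u}} (t : T ⟶ S) : IsClosedImmersion (iT i g t) :=
  MorphismProperty.of_isPullback (P := @IsClosedImmersion) (isPullback_iT i g t).flip ‹_›

theorem ker_iT {T : Scheme.{u}} (t : T ⟶ S) : (iT i g t).ker = i.ker.comap (pullback.fst g t) := by
  rw [← Scheme.IdealSheafData.ker_fst_of_isClosedImmersion, ← (isPullback_iT i g t).isoPullback_inv_fst,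
    Scheme.Hom.ker_comp_of_isIso]

theorem iT_m {T T' : Scheme.{u}} {t : T ⟶ S} {t' : T' ⟶ S} (h : T' ⟶ T) (w : h ≫ t = t') :
    m (i ≫ g) h w ≫ iT i g t = iT i g t' ≫ m g h w :=
  pullback.hom_ext (by simp [iT]) (by simp [iT])

theorem map_comap_iT {T T' : Scheme.{u}} {t : T ⟶ S} {t' : T' ⟶ S} (h : T' ⟶ T) (w : h ≫ t = t')
    (A : (pullback (i ≫ g) t).IdealSheafData) :
    (A.map (iT i g t)).comap (m g h w) = (A.comap (m (i ≫ g) h w)).map (iT i g t') := by
  have hle : (iT i g t').ker ≤ (A.map (iT i g t)).comap (m g h w) := by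
    rw [ker_iT, ← m_fst g h w, Scheme.IdealSheafData.comap_comp, ← ker_iT]
    exact Scheme.IdealSheafData.comap_mono _ ((Scheme.IdealSheafData.map_bot _).symm.le.trans
      (Scheme.IdealSheafData.map_mono _ bot_le))
  rw [← eq_map_comap_of_le (iT i g t') _ hle, ← Scheme.IdealSheafData.comap_comp, ← iT_m,
    Scheme.IdealSheafData.comap_comp, ModPairLib.comap_map_eq]

theorem push_eq (T : Over S) (A : (PicF.XT (i ≫ g) T).IdealSheafData) : HilbD.push i g T A = A.map (iT i g T.hom) := rfl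

theorem prop_push {d : ℕ} (T : Over S) (A : HilbD.Obj (i ≫ g) d T) :
    Mor2.IsFinLocFreeOfDeg d ((HilbD.push i g T A.1).subschemeι ≫ PicF.XTproj g T) := by
  refine (prop_ker (A.1.subschemeι ≫ iT i g T.hom) (pullback.snd g T.hom)).2 ?_
  have h : iT i g T.hom ≫ pullback.snd g T.hom = pullback.snd (i ≫ g) T.hom := by simp [iT]
  rw [Category.assoc, h]
  exact A.2

theorem pull_push {d : ℕ} {T T' : Over S} (u : T' ⟶ T) (A : HilbD.Obj (i ≫ g) d T) :
    HilbD.pull g u (HilbD.push i g T A.1) = HilbD.push i g T' (HilbD.pull (i ≫ g) u A.1) := by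
  rw [push_eq, push_eq, pull_eq, pull_eq, map_comap_iT]

theorem push_injective (T : Over S) {A B : (PicF.XT (i ≫ g) T).IdealSheafData}
    (h : HilbD.push i g T A = HilbD.push i g T B) : A = B := by
  rw [← ModPairLib.comap_map_eq A (iT i g T.hom), ← ModPairLib.comap_map_eq B (iT i g T.hom)]
  exact congrArg (·.comap (iT i g T.hom)) h

/-- The Hilbert scheme of points of a closed subscheme. -/
theorem exists_closed_universal {d : ℕ} (H : Over S) (Z : HilbD.Obj g d H) (hZ : HilbD.IsUniversal g d H Z) :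
    ∃ (H₀ : Over S) (Z₀ : HilbD.Obj (i ≫ g) d H₀) (m₀ : H₀ ⟶ H), IsClosedImmersion m₀.left ∧
      HilbD.pull g m₀ Z.1 = HilbD.push i g H₀ Z₀.1 ∧ HilbD.IsUniversal (i ≫ g) d H₀ Z₀ := by
  obtain ⟨K, hK⟩ := exists_containment g Z.1 (iT i g H.hom).ker Z.2.1
  have hcrit : ∀ {T : Over S} (u : T ⟶ H), (iT i g T.hom).ker ≤ HilbD.pull g u Z.1 ↔ K.comap u.left = ⊥ := fun {T} u => by
    rw [← hK u.left (Over.w u), pull_eq, ker_iT, ker_iT, ← Scheme.IdealSheafData.comap_comp, m_fst]
  let H₀ : Over S := Over.mk (K.subschemeι ≫ H.hom)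
  let m₀ : H₀ ⟶ H := Over.homMk K.subschemeι
  have hm₀ : (iT i g H₀.hom).ker ≤ HilbD.pull g m₀ Z.1 :=
    (hcrit m₀).2 ((comap_eq_bot_iff _ _).2 K.ker_subschemeι.ge)
  let A := (HilbD.pull g m₀ Z.1).comap (iT i g H₀.hom)
  have hA : HilbD.push i g H₀ A = HilbD.pull g m₀ Z.1 := eq_map_comap_of_le _ _ hm₀
  have hprop : Mor2.IsFinLocFreeOfDeg d (A.subschemeι ≫ pullback.snd (i ≫ g) H₀.hom) := by
    have h1 := prop_pull g m₀ Z
    rw [← hA] at h1
    have h2 := (prop_ker (A.subschemeι ≫ iT i g H₀.hom) (pullback.snd g H₀.hom)).1 h1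
    have h : iT i g H₀.hom ≫ pullback.snd g H₀.hom = pullback.snd (i ≫ g) H₀.hom := by simp [iT]
    rwa [Category.assoc, h] at h2
  refine ⟨H₀, ⟨A, hprop⟩, m₀, inferInstanceAs (IsClosedImmersion K.subschemeι), hA.symm, fun T W => ?_⟩
  obtain ⟨u, hu, huu⟩ := hZ T ⟨_, prop_push i g T W⟩
  have hK' : K.comap u.left = ⊥ := (hcrit u).1 (by
    rw [hu]
    show (iT i g T.hom).ker ≤ W.1.map (iT i g T.hom)
    exact (Scheme.IdealSheafData.map_bot _).symm.le.trans (Scheme.IdealSheafData.map_mono _ bot_le))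
  let v₀ := IsClosedImmersion.lift K.subschemeι u.left (K.ker_subschemeι.le.trans ((comap_eq_bot_iff _ _).1 hK'))
  have hv₀ : v₀ ≫ K.subschemeι = u.left := IsClosedImmersion.lift_fac _ _ _
  let v : T ⟶ H₀ := Over.homMk v₀ (by
    show v₀ ≫ K.subschemeι ≫ H.hom = T.hom
    rw [← Category.assoc, hv₀]
    exact Over.w u)
  have hcomp : ∀ v' : T ⟶ H₀, HilbD.pull g (v' ≫ m₀) Z.1 = HilbD.push i g T (HilbD.pull (i ≫ g) v' A) := fun v' => by
    rw [← pull_push i g v' ⟨A, hprop⟩, hA, pull_eq, pull_eq, pull_eq, ← Scheme.IdealSheafData.comap_comp, m_comp]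
    rfl
  refine ⟨v, push_injective i g T ?_, fun v' hv' => ?_⟩
  · rw [← hcomp, show v ≫ m₀ = u from Over.OverMorphism.ext hv₀]
    exact hu
  · have : v' ≫ m₀ = u := huu _ ((hcomp v').trans (congrArg (HilbD.push i g T) hv'))
    refine Over.OverMorphism.ext ((cancel_mono K.subschemeι).1 ?_)
    exact (congrArg CommaMorphism.left this).trans hv₀.symm

/-- The classifying map of a closed subscheme is a closed immersion. -/
theorem closed_comp {d : ℕ} (H : Over S) (Z : HilbD.Obj g d H) (hZ : HilbD.IsUniversal g d H Z)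
    (H' : Over S) (Z' : HilbD.Obj (i ≫ g) d H') (hZ' : HilbD.IsUniversal (i ≫ g) d H' Z') (μ : H' ⟶ H)
    (hμ : HilbD.pull g μ Z.1 = HilbD.push i g H' Z'.1) : IsClosedImmersion μ.left := by
  obtain ⟨H₀, Z₀, m₀, hm₀, hZm, hZ₀⟩ := exists_closed_universal i g H Z hZ
  obtain ⟨a, ha, -⟩ := hZ₀ H' Z'
  obtain ⟨b, hb, -⟩ := hZ' H₀ Z₀
  have hcomp : ∀ {A B C : Over S} (p : A ⟶ B) (q : B ⟶ C) (I : (PicF.XT (i ≫ g) C).IdealSheafData),
      HilbD.pull (i ≫ g) (p ≫ q) I = HilbD.pull (i ≫ g) p (HilbD.pull (i ≫ g) q I) := fun p q I => by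
    rw [pull_eq, pull_eq, pull_eq, ← Scheme.IdealSheafData.comap_comp, m_comp]
    rfl
  have hid : ∀ {A : Over S} (I : (PicF.XT (i ≫ g) A).IdealSheafData), HilbD.pull (i ≫ g) (𝟙 A) I = I := fun {A} I => by
    rw [pull_eq]
    exact (congrArg (I.comap ·) (m_id (i ≫ g) (g := A.hom) _)).trans (Scheme.IdealSheafData.comap_id _)
  have hab : a ≫ b = 𝟙 _ := (hZ' H' Z').unique (by rw [hcomp, hb, ha]) (hid _)
  have hba : b ≫ a = 𝟙 _ := (hZ₀ H₀ Z₀).unique (by rw [hcomp, ha, hb]) (hid _)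
  haveI : IsIso a.left := ⟨b.left, congrArg CommaMorphism.left hab, congrArg CommaMorphism.left hba⟩
  have hμa : μ = a ≫ m₀ := (hZ H' ⟨_, prop_pull g μ Z⟩).unique rfl (by
    show HilbD.pull g (a ≫ m₀) Z.1 = HilbD.pull g μ Z.1
    rw [hμ, ← ha, ← pull_push i g a Z₀, ← hZm, pull_eq, pull_eq, pull_eq, ← Scheme.IdealSheafData.comap_comp, m_comp]
    rfl)
  rw [hμa, Over.comp_left]
  infer_instance

end HilbPts

end
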