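import Groth.Agent.HilbPtsLib.Main
import Mathlib.AlgebraicGeometry.Morphisms.Affine

/-!
# The charts of an affine morphism over affine opens of the base
-/

set_option autoImplicit false
set_option linter.style.haveILetI false
set_option linter.unusedSectionVars false
set_option backward.isDefEq.respectTransparency false
set_option backward.isDefEq.respectTransparency.types false

universe u

open CategoryTheory CategoryTheory.Limits AlgebraicGeometry TensorProduct GrassLib

noncomputable section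

namespace HilbPts

variable {X S : Scheme.{u}} {f : X ⟶ S} [IsAffineHom f]

variable (f) in
/-- The chart of the whole preimage of an affine open. -/
abbrev fullCh (U : S.affineOpens) : Ch f := mkCh f U ⟨⟨f ⁻¹ᵁ U.1, U.2.preimage f⟩, le_rfl⟩

theorem supp_full (U : S.affineOpens) {T : Scheme.{u}} {g : T ⟶ S} (hg : Set.range g ⊆ (U.1 : Set S))
    (I : (pullback f g).IdealSheafData) : Supp (fullCh f U) I := by
  rintro _ ⟨z, rfl⟩
  refine (U.2.preimage f).range_fromSpec.ge ?_
  show f ((I.subschemeι ≫ pullback.fst f g) z) ∈ U.1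
  have e : (I.subschemeι ≫ pullback.fst f g) ≫ f = (I.subschemeι ≫ pullback.snd f g) ≫ g := by
    simp [pullback.condition]
  rw [← Scheme.Hom.comp_apply, e]
  exact hg ⟨_, rfl⟩

theorem range_gR (U : S.affineOpens) (R : Type u) [CommRing R] [Algebra (fullCh f U).A R] :
    Set.range (gR (fullCh f U) R) ⊆ (U.1 : Set S) := by
  rintro _ ⟨z, rfl⟩
  exact U.2.range_fromSpec.le ⟨Spec.map (CommRingCat.ofHom (algebraMap (fullCh f U).A R)) z, rfl⟩

variable {d : ℕ}

/-- A point over a field is in some chart over any affine open containing its image, with coordinates among given generators. -/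
theorem exists_inAt_full {T : Scheme.{u}} (P : HPt f d T) (t : T) (U : S.affineOpens) (ht : P.g t ∈ U.1)
    {ι : Type*} (y : ι → (fullCh f U).B) (hy : Submodule.span (fullCh f U).A (Set.range y) = ⊤) :
    ∃ j : Fin d → ι, InAt (fullCh f U) (fun k => y (j k)) P t := by
  classical
  let p := fullCh f U
  let K : Type u := T.residueField t
  let k : Spec (.of K) ⟶ T := T.fromSpecResidueField t
  have hk : ∀ z, k z = t := fun z => T.fromSpecResidueField_apply t z
  have hr : Set.range (k ≫ P.g) ⊆ Set.range p.iU := by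
    rintro _ ⟨z, rfl⟩
    refine U.2.range_fromSpec.ge ?_
    show P.g (k z) ∈ U.1
    rw [hk]
    exact ht
  let b := IsOpenImmersion.lift p.iU (k ≫ P.g) hr
  letI : Algebra p.A K := (Spec.preimage b).hom.toAlgebra
  have hg : (P.map k).g = gR p K := by
    show k ≫ P.g = Spec.map (Spec.preimage b) ≫ p.iU
    rw [Spec.map_preimage, IsOpenImmersion.lift_fac]
  obtain ⟨I, hI, hP⟩ := exists_comap p (P.map k) hg
  have hs : Supp p I := supp_full U (range_gR U K) I
  obtain ⟨J, hJ⟩ := exists_sid (I.comap (eR p K))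
  obtain ⟨f1, f2, f3⟩ := rank_of_supp p hI hs hJ
  let N := toGrass J f3
  have hspan : Submodule.span K (Set.range fun i => N.toSubmodule.mkQ (1 ⊗ₜ[p.A] y i)) = ⊤ := by
    rw [eq_top_iff]
    rintro q -
    obtain ⟨q, rfl⟩ := Submodule.mkQ_surjective _ q
    induction q using TensorProduct.induction_on with
    | zero => rw [map_zero]; exact zero_mem _
    | add a b ha hb => rw [map_add]; exact add_mem ha hb
    | tmul c b =>
      rw [show c ⊗ₜ[p.A] b = c • ((1 : K) ⊗ₜ[p.A] b) by rw [TensorProduct.smul_tmul', smul_eq_mul, mul_one], map_smul]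
      refine Submodule.smul_mem _ _ ?_
      have hb : b ∈ Submodule.span p.A (Set.range y) := by rw [hy]; trivial
      have key : Submodule.span p.A (Set.range y) ≤
          ((Submodule.span K (Set.range fun i => N.toSubmodule.mkQ (1 ⊗ₜ[p.A] y i))).restrictScalars p.A).comap
            ((N.toSubmodule.mkQ.restrictScalars p.A) ∘ₗ TensorProduct.mk p.A K p.B 1) :=
        Submodule.span_le.2 fun _ ⟨i, hi⟩ => Submodule.subset_span ⟨i, by rw [← hi]; rfl⟩
      exact key hb
  have hk' : Module.finrank K ((K ⊗[p.A] p.B) ⧸ N.toSubmodule) = d := by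
    have := N.rankAtStalk_eq ⟨⊥, Ideal.isPrime_bot⟩
    rwa [Module.rankAtStalk_eq_finrank_of_free] at this
  obtain ⟨v, hv, hv', -⟩ := Submodule.exists_fun_fin_finrank_span_eq K (Set.range fun i => N.toSubmodule.mkQ (1 ⊗ₜ[p.A] y i))
  have hd : Module.finrank K (Submodule.span K (Set.range fun i => N.toSubmodule.mkQ (1 ⊗ₜ[p.A] y i))) = d := by
    rw [hspan, finrank_top, hk']
  choose j hj using hv
  let x : Fin d → p.B := fun l => y (j (Fin.cast hd.symm l))
  have hx : IsIn x N := by
    rw [IsIn, ← LinearMap.range_eq_top, psi, Fintype.range_linearCombination, eq_top_iff]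
    refine (hv'.trans hspan).ge.trans ?_
    refine Submodule.span_mono ?_
    rintro _ ⟨i, rfl⟩
    exact ⟨Fin.cast hd i, by simp [x, hj]⟩
  rw [isIn_toGrass_iff] at hx
  refine ⟨fun l => j (Fin.cast hd.symm l), ?_⟩
  obtain ⟨φ, hφ⟩ := exists_ptsHom hx
  have key := inAt_of_field p x P (K := K) k (Spec.map (CommRingCat.ofHom φ.toRingHom))
    ((map_univPt p x φ).trans ((pt_congr p x hφ _ hx).trans ((eq_pt_of_supp p x hI hs hJ hx).symm.trans hP.symm)))
  rwa [hk] at key

theorem exists_generators [IsFinite f] (U : S.affineOpens) :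
    ∃ (n : ℕ) (y : Fin n → (fullCh f U).B), Submodule.span (fullCh f U).A (Set.range y) = ⊤ := by
  have h : RingHom.Finite (f.appLE U.1 (f ⁻¹ᵁ U.1) le_rfl).hom := by
    rw [← Scheme.Hom.app_eq_appLE]; exact f.finite_app U.1 U.2
  haveI : Module.Finite (fullCh f U).A (fullCh f U).B := h
  exact Module.Finite.exists_fin

/-- The morphism classifying a point. -/
theorem existsUnique_map {H : Over S} {Z : HilbD.Obj f d H} (hZ : HilbD.IsUniversal f d H Z) {T : Scheme.{u}}
    (P : HPt f d T) : ∃! h : T ⟶ H.left, (⟨H.hom, Z.1, Z.2⟩ : HPt f d H.left).map h = P := by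
  let T' : Over S := Over.mk P.g
  obtain ⟨u, hu, huu⟩ := hZ T' ⟨P.I, P.prop⟩
  have hiff : ∀ (v : T' ⟶ H), HilbD.pull f v Z.1 = P.I ↔ (⟨H.hom, Z.1, Z.2⟩ : HPt f d H.left).map v.left = P := fun v => by
    rw [pull_eq]
    constructor
    · intro hv
      refine HPt.ext' (Over.w v) ?_
      show Z.1.comap (m f v.left rfl) = P.I.comap _
      rw [← hv, ← Scheme.IdealSheafData.comap_comp, m_comp]
      congr 2
    · intro hv
      refine Eq.trans ?_ (HPt.I_eq hv.symm (by rw [Category.id_comp]; exact Over.w v)).symm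
      show Z.1.comap _ = (Z.1.comap (m f v.left rfl)).comap _
      rw [← Scheme.IdealSheafData.comap_comp, m_comp]
      congr 2
  refine ⟨u.left, (hiff u).1 hu, fun h hh => ?_⟩
  have hw : h ≫ H.hom = P.g := congrArg HPt.g hh
  exact congrArg CommaMorphism.left (huu (Over.homMk h hw) ((hiff _).2 hh))

/-- The locus of a chart in a universal pair is the chart. -/
theorem exists_locIso (p : Ch f) (x : Fin d → p.B) [IsSeparated f] {H : Over S} {Z : HilbD.Obj f d H}
    (hZ : HilbD.IsUniversal f d H Z) :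
    ∃ a : (locOpen p x (⟨H.hom, Z.1, Z.2⟩ : HPt f d H.left)).toScheme ⟶ Spec (.of (PtsRing p.A x)), IsIso a ∧
      (univPt p x).map a = (⟨H.hom, Z.1, Z.2⟩ : HPt f d H.left).map (locOpen p x (⟨H.hom, Z.1, Z.2⟩ : HPt f d H.left)).ι := by
  let ξ : HPt f d H.left := ⟨H.hom, Z.1, Z.2⟩
  let V := locOpen p x ξ
  obtain ⟨a, ha⟩ := exists_ch p x (ξ.map V.ι) fun z => (inAt_map_iff p x V.ι ξ z).2 z.2
  obtain ⟨b, hb, -⟩ := existsUnique_map hZ (univPt p x)
  have hbV : Set.range b ⊆ Set.range V.ι := by
    rw [Scheme.Opens.range_ι]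
    rintro _ ⟨z, rfl⟩
    refine (inAt_map_iff p x b ξ z).1 ?_
    rw [hb]
    exact ⟨_, 𝟙 _, inferInstance, 𝟙 _, ⟨z, rfl⟩, rfl⟩
  let b' := IsOpenImmersion.lift V.ι b hbV
  have hb' : b' ≫ V.ι = b := IsOpenImmersion.lift_fac _ _ _
  refine ⟨a, ⟨b', ?_, ?_⟩, ha⟩
  · rw [← cancel_mono V.ι, Category.assoc, hb', Category.id_comp]
    exact (existsUnique_map hZ (ξ.map V.ι)).unique (by rw [← HPt.map_map, hb, ha]) rfl
  · refine ch_ext p x ?_
    rw [← HPt.map_map, ha, HPt.map_map, hb', HPt.map_id]
    exact hb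

end HilbPts

end
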