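import Groth.Agent.HilbPtsLib.DnFlag
import Groth.Agent.HilbPtsLib.Full
import Groth.Agent.HilbPtsLib.Closed
import Groth.Agent.S0115

/-!
# Smoothness of the Hilbert schemes of points of a smooth relative curve
-/

set_option autoImplicit false
set_option linter.style.haveILetI false
set_option backward.isDefEq.respectTransparency false
set_option backward.isDefEq.respectTransparency.types false

universe u

open CategoryTheory CategoryTheory.Limits AlgebraicGeometry TopologicalSpace

noncomputable section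

namespace HilbPts.SC

variable {X S : Scheme.{u}} (f : X ⟶ S)

/-- The graph of a point. -/
def secF {T : Scheme.{u}} {g : T ⟶ S} (x : T ⟶ X) (w : x ≫ f = g) : T ⟶ pullback f g :=
  pullback.lift x (𝟙 T) (by rw [w, Category.id_comp])

@[reassoc (attr := simp)]
theorem secF_fst {T : Scheme.{u}} {g : T ⟶ S} (x : T ⟶ X) (w : x ≫ f = g) :
    secF f x w ≫ pullback.fst f g = x := pullback.lift_fst _ _ _

@[reassoc (attr := simp)]
theorem secF_snd {T : Scheme.{u}} {g : T ⟶ S} (x : T ⟶ X) (w : x ≫ f = g) :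
    secF f x w ≫ pullback.snd f g = 𝟙 T := pullback.lift_snd _ _ _

/-- The morphism classifying a point. -/
theorem existsUnique_map' {d : ℕ} {H : Over S} {Z : HilbD.Obj f d H} (hZ : HilbD.IsUniversal f d H Z) {T : Scheme.{u}}
    (P : HPt f d T) : ∃! h : T ⟶ H.left, (⟨H.hom, Z.1, Z.2⟩ : HPt f d H.left).map h = P := by
  let T' : Over S := Over.mk P.g
  obtain ⟨u, hu, huu⟩ := hZ T' ⟨P.I, P.prop⟩
  have hiff : ∀ (v : T' ⟶ H), HilbD.pull f v Z.1 = P.I ↔ (⟨H.hom, Z.1, Z.2⟩ : HPt f d H.left).map v.left = P := fun v => by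
    rw [pull_eq]
    constructor
    · intro hv
      refine HPt.ext' (Over.w v) ?_
      show Z.1.comap (m f v.left rfl) = P.I.comap _
      rw [← hv, ← Scheme.IdealSheafData.comap_comp, m_comp]
      congr 2
    · intro hv
      refine Eq.trans ?_ (HPt.I_eq hv.symm (by rw [Category.id_comp]; exact Over.w v)).symm
      show Z.1.comap _ = (Z.1.comap (m f v.left rfl)).comap _
      rw [← Scheme.IdealSheafData.comap_comp, m_comp]
      congr 2
  refine ⟨u.left, (hiff u).1 hu, fun h hh => ?_⟩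
  have hw : h ≫ H.hom = P.g := congrArg HPt.g hh
  exact congrArg CommaMorphism.left (huu (Over.homMk h hw) ((hiff _).2 hh))

variable [IsSeparated f]

instance isClosedImmersion_secF {T : Scheme.{u}} {g : T ⟶ S} (x : T ⟶ X) (w : x ≫ f = g) :
    IsClosedImmersion (secF f x w) := by
  haveI : IsClosedImmersion (secF f x w ≫ pullback.snd f g) := by rw [secF_snd]; infer_instance
  exact IsClosedImmersion.of_comp (secF f x w) (pullback.snd f g)

theorem prop_secF {T : Scheme.{u}} {g : T ⟶ S} (x : T ⟶ X) (w : x ≫ f = g) :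
    Mor2.IsFinLocFreeOfDeg 1 ((secF f x w).ker.subschemeι ≫ pullback.snd f g) := by
  refine (prop_ker (secF f x w) (pullback.snd f g)).2 ?_
  rw [secF_snd]
  exact ⟨⟨inferInstance, inferInstance, inferInstance⟩, fun y => by rw [Scheme.Hom.finrank_eq_one_of_isIso]; rfl⟩

theorem comap_secF {T T' : Scheme.{u}} {g : T ⟶ S} {g' : T' ⟶ S} (x : T ⟶ X) (w : x ≫ f = g)
    (a : T' ⟶ T) (wa : a ≫ g = g') :
    (secF f x w).ker.comap (m f a wa) = (secF f (a ≫ x) (by rw [Category.assoc, w, wa])).ker := by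
  let s' := secF f (a ≫ x) (show (a ≫ x) ≫ f = g' by rw [Category.assoc, w, wa])
  have hw : s' ≫ m f a wa = a ≫ secF f x w := pullback.hom_ext (by simp [s']) (by simp [s'])
  have H : IsPullback a s' (secF f x w) (m f a wa) := by
    refine IsPullback.of_bot ?_ hw.symm (isPullback_m f a wa)
    simp only [s', secF_snd]
    exact IsPullback.of_vert_isIso ⟨by simp⟩
  rw [← Scheme.IdealSheafData.ker_fst_of_isClosedImmersion]
  have e : H.flip.isoPullback.hom ≫ pullback.fst (m f a wa) (secF f x w) = s' := H.flip.isoPullback_hom_fst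
  exact ((congrArg Scheme.Hom.ker e).symm.trans (Scheme.Hom.ker_comp_of_isIso _ _)).symm

theorem prop_top {T : Scheme.{u}} (q : T ⟶ S) :
    Mor2.IsFinLocFreeOfDeg 0 ((⊤ : (pullback f q).IdealSheafData).subschemeι ≫ pullback.snd f q) := by
  let c := (⊤ : (pullback f q).IdealSheafData).subschemeι ≫ pullback.snd f q
  haveI hemp : IsEmpty (⊤ : (pullback f q).IdealSheafData).subscheme := ⟨fun z => by
    have : (⊤ : (pullback f q).IdealSheafData).subschemeι z ∈ (⊤ : (pullback f q).IdealSheafData).support := by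
      rw [← SetLike.mem_coe, ← Scheme.IdealSheafData.range_subschemeι]; exact ⟨z, rfl⟩
    rw [Scheme.IdealSheafData.support_top] at this
    exact this⟩
  haveI : IsOpenImmersion c := inferInstance
  haveI : IsClosedImmersion c := IsClosedImmersion.of_isPreimmersion c (by
    rw [Set.range_eq_empty]; exact isClosed_empty)
  refine ⟨⟨inferInstance, inferInstance, inferInstance⟩, fun y => ?_⟩
  have : (1 : ℕ) ≤ c.finrank y → False := fun h => by
    let x₀ : Spec (T.residueField y) := IsLocalRing.closedPoint (T.residueField y)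
    have h1 := Scheme.Hom.finrank_pullback_snd c (T.fromSpecResidueField y) x₀
    rw [T.fromSpecResidueField_apply y x₀] at h1
    rw [← h1] at h
    haveI : IsEmpty ↥(pullback c (T.fromSpecResidueField y)) := Function.isEmpty (pullback.fst c (T.fromSpecResidueField y))
    obtain ⟨-, h2⟩ := finrank_eq_appTop (k := T.residueField y) (pullback.snd c (T.fromSpecResidueField y)) x₀
    letI := ((Scheme.ΓSpecIso (CommRingCat.of (T.residueField y))).inv ≫ (pullback.snd c (T.fromSpecResidueField y)).appTop).hom.toAlgebra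
    rw [h2] at h
    haveI : Subsingleton Γ(pullback c (T.fromSpecResidueField y), ⊤) := by
      rw [show (⊤ : (pullback c (T.fromSpecResidueField y)).Opens) = ⊥ from Subsingleton.elim _ _]
      infer_instance
    letI := ((Scheme.ΓSpecIso (CommRingCat.of (T.residueField y))).inv ≫ (pullback.snd c (T.fromSpecResidueField y)).appTop).hom.toAlgebra
    rw [Module.finrank_zero_of_subsingleton] at h
    omega
  by_contra h0
  exact this (Nat.one_le_iff_ne_zero.2 h0)

variable [SmoothOfRelativeDimension 1 f]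

theorem smooth_snd {T : Scheme.{u}} (g : T ⟶ S) : SmoothOfRelativeDimension 1 (pullback.snd f g) :=
  haveI := smoothOfRelativeDimension_isStableUnderBaseChange.{u} 1
  MorphismProperty.pullback_snd (P := @SmoothOfRelativeDimension 1) _ _ ‹_›

theorem isIso_hom_zero (H : Over S) (Z : HilbD.Obj f 0 H) (hZ : HilbD.IsUniversal f 0 H Z) : IsIso H.hom := by
  let u₀ : HPt f 0 H.left := ⟨H.hom, Z.1, Z.2⟩
  let P₀ : HPt f 0 S := ⟨𝟙 S, ⊤, prop_top f _⟩
  obtain ⟨σ, hσ, -⟩ := existsUnique_map' f hZ P₀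
  have hσg : σ ≫ H.hom = 𝟙 S := congrArg HPt.g hσ
  have hI : ∀ P : HPt f 0 H.left, P.I = ⊤ := fun P => by
    haveI := smooth_snd f P.g
    exact eq_top_of_deg_zero (pullback.snd f P.g) P.I P.prop
  have hid : H.hom ≫ σ = 𝟙 H.left := by
    refine (existsUnique_map' f hZ u₀).unique ?_ (HPt.map_id _)
    have hg : (u₀.map (H.hom ≫ σ)).g = u₀.g := by
      show (H.hom ≫ σ) ≫ H.hom = H.hom
      rw [Category.assoc, hσg, Category.comp_id]
    refine HPt.ext' hg ?_
    rw [hI, hI, Scheme.IdealSheafData.comap_top]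
  exact ⟨σ, hid, hσg⟩

theorem smooth_hom_zero (H : Over S) (Z : HilbD.Obj f 0 H) (hZ : HilbD.IsUniversal f 0 H Z) : Smooth H.hom := by
  haveI := isIso_hom_zero f H Z hZ
  infer_instance

set_option maxHeartbeats 1000000 in
/-- Adding a point: `X ×_S Hilb^d ⟶ Hilb^(d+1)` is finite locally free of degree `d + 1`. -/
theorem exists_sum (d : ℕ) (H H' : Over S) (Z : HilbD.Obj f (d + 1) H) (hZ : HilbD.IsUniversal f (d + 1) H Z)
    (Z' : HilbD.Obj f d H') (hZ' : HilbD.IsUniversal f d H' Z') :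
    ∃ (k : pullback f H'.hom ⟶ H.left) (hk : k ≫ H.hom = pullback.snd f H'.hom ≫ H'.hom),
      Z.1.comap (m f k hk) = (secF f (g := pullback.snd f H'.hom ≫ H'.hom) (pullback.fst f H'.hom) pullback.condition).ker *
        Z'.1.comap (m f (pullback.snd f H'.hom) rfl) ∧
      Mor2.IsFinLocFreeOfDeg (d + 1) k := by
  haveI : Smooth f := SmoothOfRelativeDimension.smooth 1 f
  let u₁ : HPt f (d + 1) H.left := ⟨H.hom, Z.1, Z.2⟩
  let u₂ : HPt f d H'.left := ⟨H'.hom, Z'.1, Z'.2⟩
  let W := u₁.I.subscheme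
  let ι := u₁.I.subschemeι
  let q : W ⟶ H.left := ι ≫ pullback.snd f H.hom
  let g₁ : W ⟶ S := q ≫ H.hom
  let x₁ : W ⟶ X := ι ≫ pullback.fst f H.hom
  have w₁ : x₁ ≫ f = g₁ := by simp [x₁, g₁, q, Category.assoc, pullback.condition]
  let Q := pullback f H'.hom
  let x₂ : Q ⟶ X := pullback.fst f H'.hom
  let g₂ : Q ⟶ S := pullback.snd f H'.hom ≫ H'.hom
  have w₂ : x₂ ≫ f = g₂ := pullback.condition
  haveI := smooth_snd f g₁
  haveI := smooth_snd f g₂
  -- the tautological point on `W` lies on the divisor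
  let s₁ := secF f x₁ w₁
  have hs₁ : (u₁.map q).I ≤ s₁.ker := by
    rw [← comap_eq_bot_iff]
    show (u₁.I.comap (m f q rfl)).comap s₁ = ⊥
    rw [← Scheme.IdealSheafData.comap_comp, show s₁ ≫ m f q rfl = ι from
      pullback.hom_ext (by simp [s₁, x₁]) (by simp [s₁, q]), comap_eq_bot_iff,
      Scheme.IdealSheafData.ker_subschemeι]
  obtain ⟨D, hD, hDe⟩ := exists_div (pullback.snd f g₁) s₁.ker (u₁.map q).I hs₁ 1 (d + 1)
    (prop_secF f x₁ w₁) (u₁.map q).prop
  rw [Nat.add_sub_cancel] at hD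
  obtain ⟨h, hh, -⟩ := existsUnique_map' f hZ' (⟨g₁, D, hD⟩ : HPt f d W)
  have hhg : h ≫ H'.hom = g₁ := congrArg HPt.g hh
  have hhI : Z'.1.comap (m f h hhg) = D := by
    have := HPt.I_eq hh.symm (by rw [Category.id_comp]; exact hhg)
    refine Eq.trans ?_ this.symm
    show _ = (Z'.1.comap (m f h rfl)).comap _
    rw [← Scheme.IdealSheafData.comap_comp, m_comp]
    congr 2
  let α : W ⟶ Q := pullback.lift x₁ h (by rw [w₁, hhg])
  -- the sum on `Q`
  let s₂ := secF f x₂ w₂
  let B : (pullback f g₂).IdealSheafData := (u₂.map (pullback.snd f H'.hom)).I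
  have hB : Mor2.IsFinLocFreeOfDeg d (B.subschemeι ≫ pullback.snd f g₂) :=
    (u₂.map (pullback.snd f H'.hom)).prop
  have hsum : Mor2.IsFinLocFreeOfDeg (d + 1) ((s₂.ker * B).subschemeι ≫ pullback.snd f g₂) := by
    have := isFinLocFreeOfDeg_mul (pullback.snd f g₂) _ _ _ _ (prop_secF f x₂ w₂) hB
    rwa [Nat.add_comm] at this
  obtain ⟨k, hk, -⟩ := existsUnique_map' f hZ (⟨g₂, s₂.ker * B, hsum⟩ : HPt f (d + 1) Q)
  have hkg : k ≫ H.hom = g₂ := congrArg HPt.g hk
  have hkI : Z.1.comap (m f k hkg) = s₂.ker * B := by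
    have := HPt.I_eq hk.symm (by rw [Category.id_comp]; exact hkg)
    refine Eq.trans ?_ this.symm
    show _ = (Z.1.comap (m f k rfl)).comap _
    rw [← Scheme.IdealSheafData.comap_comp, m_comp]
    congr 2
  have hb : ι.ker ≤ (s₂ ≫ m f k hkg).ker := by
    rw [Scheme.IdealSheafData.ker_subschemeι, ← comap_eq_bot_iff]
    show Z.1.comap (s₂ ≫ m f k hkg) = ⊥
    rw [Scheme.IdealSheafData.comap_comp, hkI, comap_mul, (comap_eq_bot_iff s₂.ker s₂).2 le_rfl]
    exact le_bot_iff.1 (mul_le_left' _ _)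
  let β : Q ⟶ W := IsClosedImmersion.lift ι (s₂ ≫ m f k hkg) hb
  have hβ : β ≫ ι = s₂ ≫ m f k hkg := IsClosedImmersion.lift_fac _ _ _
  have hβx : β ≫ x₁ = x₂ := by
    show β ≫ ι ≫ _ = _
    rw [← Category.assoc, hβ]; simp [s₂]
  have hβq : β ≫ q = k := by
    show β ≫ ι ≫ _ = _
    rw [← Category.assoc, hβ]; simp [s₂]
  have hβg : β ≫ g₁ = g₂ := by
    show β ≫ q ≫ H.hom = _
    rw [← Category.assoc, hβq, hkg]
  have hαx : α ≫ x₂ = x₁ := pullback.lift_fst _ _ _
  have hαh : α ≫ pullback.snd f H'.hom = h := pullback.lift_snd _ _ _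
  have hαg : α ≫ g₂ = g₁ := by
    show α ≫ pullback.snd f H'.hom ≫ H'.hom = _
    rw [← Category.assoc, hαh, hhg]
  -- `α` followed by the sum gives back the divisor
  have hαk : α ≫ k = q := by
    refine (existsUnique_map' f hZ (u₁.map q)).unique ?_ rfl
    refine HPt.ext' (show (α ≫ k) ≫ H.hom = q ≫ H.hom by rw [Category.assoc, hkg, hαg]) ?_
    show Z.1.comap (m f (α ≫ k) rfl) = (u₁.map q).I.comap _
    rw [hDe, show s₁.ker = (secF f x₁ w₁).ker from rfl]
    have e1 : Z.1.comap (m f (α ≫ k) rfl) = (s₂.ker * B).comap (m f α (show α ≫ g₂ = (α ≫ k) ≫ H.hom by rw [Category.assoc, hkg])) := by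
      rw [← hkI, ← Scheme.IdealSheafData.comap_comp, m_comp]
    rw [e1, comap_mul, comap_mul]
    congr 1
    · rw [comap_secF, comap_secF]
      congr 2
    · show (Z'.1.comap (m f (pullback.snd f H'.hom) rfl)).comap _ = D.comap _
      rw [← hhI, ← Scheme.IdealSheafData.comap_comp, ← Scheme.IdealSheafData.comap_comp, m_comp, m_comp]
      congr 2
  have h1 : α ≫ β = 𝟙 W := by
    rw [← cancel_mono ι, Category.assoc, hβ, Category.id_comp]
    refine pullback.hom_ext ?_ ?_
    · show (α ≫ s₂ ≫ m f k hkg) ≫ pullback.fst f H.hom = x₁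
      simp only [s₂, Category.assoc, m_fst, secF_fst]; exact hαx
    · show (α ≫ s₂ ≫ m f k hkg) ≫ pullback.snd f H.hom = q
      simp only [s₂, Category.assoc, m_snd, secF_snd_assoc]; exact hαk
  have hβh : β ≫ h = pullback.snd f H'.hom := by
    refine (existsUnique_map' f hZ' (u₂.map (pullback.snd f H'.hom))).unique ?_ rfl
    have hgg : (β ≫ h) ≫ H'.hom = g₂ := by rw [Category.assoc, hhg, hβg]
    refine HPt.ext' hgg ?_
    show Z'.1.comap (m f (β ≫ h) rfl) = B.comap _
    have e2 : Z'.1.comap (m f (β ≫ h) hgg) = B := by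
      rw [← m_comp f h hhg β hβg, Scheme.IdealSheafData.comap_comp, hhI]
      refine cancel_left (pullback.snd f g₂) (prop_secF f x₂ w₂).1 ?_
      have e3 : (u₁.map q).I.comap (m f β hβg) = s₂.ker * B := by
        rw [← hkI]
        show (Z.1.comap (m f q rfl)).comap _ = _
        rw [← Scheme.IdealSheafData.comap_comp, m_comp]
        congr 2
      rw [hDe, comap_mul, comap_secF] at e3
      refine Eq.trans ?_ e3
      congr 3
      exact hβx.symm
    rw [← e2, ← Scheme.IdealSheafData.comap_comp, m_comp]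
    congr 2
  have h2 : β ≫ α = 𝟙 Q := by
    refine pullback.hom_ext ?_ ?_
    · rw [Category.assoc, Category.id_comp]; show β ≫ α ≫ x₂ = _; rw [hαx, hβx]
    · rw [Category.assoc, Category.id_comp, hαh, hβh]
  haveI : IsIso α := ⟨β, h1, h2⟩
  refine ⟨k, hkg, hkI, ?_⟩
  haveI : IsIso β := ⟨α, h2, h1⟩
  exact isFinLocFreeOfDeg_of_isPullback (a := β) (h := 𝟙 _) (IsPullback.of_horiz_isIso ⟨by rw [Category.comp_id, hβq]⟩)
    (u₁.prop : Mor2.IsFinLocFreeOfDeg (d + 1) q)

theorem smooth_hom_succ (d : ℕ) (H H' : Over S) (Z : HilbD.Obj f (d + 1) H) (hZ : HilbD.IsUniversal f (d + 1) H Z)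
    (Z' : HilbD.Obj f d H') (hZ' : HilbD.IsUniversal f d H' Z') [Smooth H'.hom] :
    Smooth H.hom ∧ (IsProper f → IsProper H'.hom → IsProper H.hom) := by
  haveI : Smooth f := SmoothOfRelativeDimension.smooth 1 f
  obtain ⟨k, hk, -, ⟨hfin, hfl, hfp⟩, hdeg⟩ := exists_sum f d H H' Z hZ Z' hZ'
  haveI := hfin
  haveI := hfl
  haveI := hfp
  haveI : Surjective k := (Scheme.Hom.one_le_finrank_iff_surjective k).1 fun y => by
    show 1 ≤ k.finrank y
    rw [hdeg]
    omega
  haveI : Smooth (k ≫ H.hom) := by rw [hk]; infer_instance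
  haveI hsm : Smooth H.hom := Groth.Agent.S0115.result k H.hom
  refine ⟨hsm, fun hpf hpH => ?_⟩
  haveI := hpf
  haveI := hpH
  haveI : IsProper (k ≫ H.hom) := by rw [hk]; infer_instance
  haveI : IsSeparated H.hom := isSeparated_of_isUniversal f (d + 1) H Z hZ
  haveI : UniversallyClosed H.hom := UniversallyClosed.of_comp_surjective k H.hom
  exact IsProper.mk

/-- The Hilbert schemes of points of a smooth separated relative curve are smooth. -/
theorem smooth_hom (hrep : ∀ e : ℕ, HilbD.Representable f e) :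
    ∀ (d : ℕ) (H : Over S) (Z : HilbD.Obj f d H), HilbD.IsUniversal f d H Z → Smooth H.hom := by
  intro d
  induction d with
  | zero => exact smooth_hom_zero f
  | succ d ih =>
    intro H Z hZ
    obtain ⟨H', Z', hZ'⟩ := hrep d
    haveI := ih H' Z' hZ'
    exact (smooth_hom_succ f d H H' Z hZ Z' hZ').1

/-- The Hilbert schemes of points of a smooth proper relative curve are proper. -/
theorem isProper_hom [IsProper f] (hrep : ∀ e : ℕ, HilbD.Representable f e) :
    ∀ (d : ℕ) (H : Over S) (Z : HilbD.Obj f d H), HilbD.IsUniversal f d H Z → IsProper H.hom := by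
  intro d
  induction d with
  | zero => intro H Z hZ; haveI := isIso_hom_zero f H Z hZ; infer_instance
  | succ d ih =>
    intro H Z hZ
    obtain ⟨H', Z', hZ'⟩ := hrep d
    haveI := smooth_hom f hrep d H' Z' hZ'
    exact (smooth_hom_succ f d H H' Z hZ Z' hZ').2 ‹_› (ih H' Z' hZ')

end HilbPts.SC

end
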