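import Groth.Agent.HilbPtsLib.Split
import Groth.Agent.BlowUpLib.Cartier
import Groth.Prelude.Def_SymProd
import Mathlib.Data.Fin.Tuple.Basic

/-!
# The sum map from a fibre power to the Hilbert scheme of points of a smooth curve
-/

set_option autoImplicit false
set_option linter.style.haveILetI false
set_option backward.isDefEq.respectTransparency false
set_option backward.isDefEq.respectTransparency.types false

universe u

open CategoryTheory CategoryTheory.Limits AlgebraicGeometry TopologicalSpace SymProd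

noncomputable section

namespace HilbPts.SC

section field

variable {k : Type u} [Field k]

theorem finrank_algebra_comp {B C : Type u} [CommRing B] [CommRing C] [Algebra k B] [Algebra k C] [Algebra B C]
    [IsScalarTower k B C] [Module.Finite k B] [Module.Finite B C] [Module.Flat B C] {d : ℕ}
    (hd : ∀ p : PrimeSpectrum B, Module.rankAtStalk C p = d) :
    Module.finrank k C = d * Module.finrank k B := by
  haveI : IsArtinianRing B := IsArtinianRing.of_finite k B
  rcases subsingleton_or_nontrivial B with h | h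
  · haveI : Subsingleton C := Module.subsingleton B C
    simp [Module.finrank_zero_of_subsingleton]
  haveI : Module.Free B C := Module.free_of_flat_of_finrank_eq B C d fun P => by
    haveI : P.asIdeal.IsMaximal := P.isMaximal
    letI := Ideal.Quotient.field P.asIdeal
    have e := Module.rankAtStalk_baseChange (R := B) (S := B ⧸ P.asIdeal) (M := C) ⟨⊥, Ideal.isPrime_bot⟩
    rw [Module.rankAtStalk_eq_finrank_of_free] at e
    exact e.trans (hd _)
  have e2 : Module.finrank B C = d := by
    have e := hd (Classical.arbitrary _)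
    rw [Module.rankAtStalk_eq_finrank_of_free] at e
    exact e
  rw [← e2, mul_comm, Module.finrank_mul_finrank]

/-- Ranks multiply for finite schemes over a field. -/
theorem finrank_comp_field {Z W : Scheme.{u}} (g : Z ⟶ W) (c : W ⟶ Spec (CommRingCat.of k)) [IsFinite c]
    [IsFinite g] [Flat g] {d : ℕ} (hd : ∀ w, g.finrank w = d) (s : ↥(Spec (CommRingCat.of k))) :
    (g ≫ c).finrank s = d * c.finrank s := by
  haveI : IsAffine W := isAffine_of_isAffineHom c
  haveI : IsAffine Z := isAffine_of_isAffineHom g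
  obtain ⟨hW, h1⟩ := finrank_eq_appTop c s
  obtain ⟨-, h2⟩ := finrank_eq_appTop (g ≫ c) s
  letI : Algebra k Γ(W, ⊤) := ((Scheme.ΓSpecIso (CommRingCat.of k)).inv ≫ c.appTop).hom.toAlgebra
  letI : Algebra k Γ(Z, ⊤) := ((Scheme.ΓSpecIso (CommRingCat.of k)).inv ≫ (g ≫ c).appTop).hom.toAlgebra
  letI : Algebra Γ(W, ⊤) Γ(Z, ⊤) := g.appTop.hom.toAlgebra
  haveI : IsScalarTower k Γ(W, ⊤) Γ(Z, ⊤) := IsScalarTower.of_algebraMap_eq fun r => by
    change (g ≫ c).appTop ((Scheme.ΓSpecIso (CommRingCat.of k)).inv r) =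
      g.appTop (c.appTop ((Scheme.ΓSpecIso (CommRingCat.of k)).inv r))
    rw [Scheme.Hom.comp_appTop, ConcreteCategory.comp_apply]
  haveI : Module.Finite k Γ(W, ⊤) := hW
  haveI : Module.Finite Γ(W, ⊤) Γ(Z, ⊤) := g.finite_appTop
  haveI : Module.Flat Γ(W, ⊤) Γ(Z, ⊤) := g.flat_appTop
  have key : ∀ p : PrimeSpectrum Γ(W, ⊤), Module.rankAtStalk Γ(Z, ⊤) p = d := fun p => by
    have hsq : IsPullback Z.isoSpec.hom g (Spec.map g.appTop) W.isoSpec.hom :=
      IsPullback.of_horiz_isIso ⟨Scheme.isoSpec_hom_naturality g⟩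
    haveI : IsFinite (Spec.map g.appTop) := (IsFinite.SpecMap_iff _).2 g.finite_appTop
    haveI : Flat (Spec.map g.appTop) := Flat.SpecMap_iff.2 g.flat_appTop
    obtain ⟨w, hw⟩ := W.isoSpec.hom.homeomorph.surjective p
    have h3 := Scheme.Hom.finrank_of_isPullback _ _ _ _ hsq w
    rw [hd, show W.isoSpec.hom w = p from hw] at h3
    rw [h3]
    exact (Scheme.Hom.finrank_SpecMap_algebraMap Γ(W, ⊤) Γ(Z, ⊤) p).symm
  rw [h1, h2]
  exact finrank_algebra_comp key

end field

/-- Degrees of finite locally free morphisms multiply. -/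
theorem isFinLocFreeOfDeg_comp {A B C : Scheme.{u}} {g : A ⟶ B} {h : B ⟶ C} {a b : ℕ}
    (hg : Mor2.IsFinLocFreeOfDeg a g) (hh : Mor2.IsFinLocFreeOfDeg b h) :
    Mor2.IsFinLocFreeOfDeg (a * b) (g ≫ h) := by
  obtain ⟨⟨hg1, hg2, hg3⟩, hg4⟩ := hg
  obtain ⟨⟨hh1, hh2, hh3⟩, hh4⟩ := hh
  haveI := hg1
  haveI := hg2
  haveI := hh1
  haveI := hh2
  haveI := hg3
  haveI := hh3
  refine ⟨⟨inferInstance, inferInstance, inferInstance⟩, fun y => ?_⟩
  let ψ := C.fromSpecResidueField y
  let x₀ : Spec (C.residueField y) := IsLocalRing.closedPoint (C.residueField y)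
  have H := (IsPullback.of_hasPullback g (pullback.fst h ψ)).flip
  have H' : IsPullback (pullback.fst g (pullback.fst h ψ))
      (pullback.snd g (pullback.fst h ψ) ≫ pullback.snd h ψ) (g ≫ h) ψ :=
    (IsPullback.of_hasPullback g (pullback.fst h ψ)).paste_vert (IsPullback.of_hasPullback h ψ)
  have e1 := Scheme.Hom.finrank_of_isPullback _ _ (g ≫ h) ψ H' x₀
  have e2 := Scheme.Hom.finrank_of_isPullback _ _ h ψ (IsPullback.of_hasPullback h ψ) x₀
  have e3 := finrank_comp_field (pullback.snd g (pullback.fst h ψ)) (pullback.snd h ψ) (d := a)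
    (fun w => by rw [Scheme.Hom.finrank_pullback_snd]; exact hg4 _) x₀
  rw [show ψ x₀ = y from C.fromSpecResidueField_apply y x₀] at e1 e2
  rw [← e1, e3, e2, hh4]

/-- The inverse image of the kernel of a closed immersion under an isomorphism. -/
theorem comap_ker_of_isPullback {P Q Q' : Scheme.{u}} {s : P ⟶ Q} {s' : P ⟶ Q'} [IsClosedImmersion s]
    (e : Q' ⟶ Q) [IsIso e] (h : s' ≫ e = s) : s.ker.comap e = s'.ker := by
  haveI : IsClosedImmersion s' := by
    rw [show s' = s ≫ inv e by rw [← h, Category.assoc, IsIso.hom_inv_id, Category.comp_id]]; infer_instance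
  have H : IsPullback (𝟙 P) s' s e := IsPullback.of_horiz_isIso ⟨by rw [Category.id_comp, h]⟩
  rw [← Scheme.IdealSheafData.ker_fst_of_isClosedImmersion]
  have he : H.flip.isoPullback.hom ≫ pullback.fst e s = s' := H.flip.isoPullback_hom_fst
  exact ((congrArg Scheme.Hom.ker he).symm.trans (Scheme.Hom.ker_comp_of_isIso _ _)).symm

variable {X S : Scheme.{u}} (f : X ⟶ S)

/-- Two maps to a fine moduli of points with the same pullback of the universal family are equal. -/
theorem hom_eq_of_comap_eq {d : ℕ} {H : Over S} {Z : HilbD.Obj f d H} (hZ : HilbD.IsUniversal f d H Z)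
    {T : Scheme.{u}} {g : T ⟶ S} (a b : T ⟶ H.left) (ha : a ≫ H.hom = g) (hb : b ≫ H.hom = g)
    (h : Z.1.comap (m f a ha) = Z.1.comap (m f b hb)) : a = b := by
  refine (existsUnique_map' f hZ ((⟨H.hom, Z.1, Z.2⟩ : HPt f d H.left).map b)).unique ?_ rfl
  subst ha
  refine HPt.ext' (show a ≫ H.hom = b ≫ H.hom from hb.symm) ?_
  show Z.1.comap (m f a rfl) = (Z.1.comap (m f b rfl)).comap _
  rw [← Scheme.IdealSheafData.comap_comp, m_comp, h]
  congr 2

theorem exists_hom {d : ℕ} {H : Over S} {Z : HilbD.Obj f d H} (hZ : HilbD.IsUniversal f d H Z)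
    {T : Scheme.{u}} {g : T ⟶ S} (I : (pullback f g).IdealSheafData)
    (hI : Mor2.IsFinLocFreeOfDeg d (I.subschemeι ≫ pullback.snd f g)) :
    ∃ (a : T ⟶ H.left) (ha : a ≫ H.hom = g), Z.1.comap (m f a ha) = I := by
  obtain ⟨k, hk, -⟩ := existsUnique_map' f hZ (⟨g, I, hI⟩ : HPt f d T)
  have hkg : k ≫ H.hom = g := congrArg HPt.g hk
  refine ⟨k, hkg, ?_⟩
  have := HPt.I_eq hk.symm (by rw [Category.id_comp]; exact hkg)
  refine Eq.trans ?_ this.symm
  show _ = (Z.1.comap (m f k rfl)).comap _
  rw [← Scheme.IdealSheafData.comap_comp, m_comp]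
  congr 2

/-- Structure map of the fibre power. -/
abbrev fb (n : ℕ) : fibPow f n ⟶ S := WidePullback.base (fun _ : Fin n => f)

/-- Projections of the fibre power. -/
abbrev fp {n : ℕ} (i : Fin n) : fibPow f n ⟶ X := WidePullback.π (fun _ : Fin n => f) i

theorem fp_comp {n : ℕ} (i : Fin n) : fp f i ≫ f = fb f n :=
  WidePullback.π_arrow (fun _ : Fin n => f) i

/-- The graph of the `i`-th projection. -/
def gr {n : ℕ} (i : Fin n) : fibPow f n ⟶ pullback f (fb f n) := secF f (fp f i) (fp_comp f i)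

/-- Forgetting the `j`-th factor. -/
def dropAt {n : ℕ} (j : Fin (n + 1)) : fibPow f (n + 1) ⟶ fibPow f n :=
  WidePullback.lift (fb f (n + 1)) (fun i => fp f (j.succAbove i)) (fun _ => fp_comp f _)

@[reassoc (attr := simp)]
theorem dropAt_fp {n : ℕ} (j : Fin (n + 1)) (i : Fin n) : dropAt f j ≫ fp f i = fp f (j.succAbove i) := by
  unfold dropAt; exact WidePullback.lift_π _ _ _ _ i

@[reassoc (attr := simp)]
theorem dropAt_fb {n : ℕ} (j : Fin (n + 1)) : dropAt f j ≫ fb f n = fb f (n + 1) := by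
  unfold dropAt; exact WidePullback.lift_base _ _ _ _

/-- Splitting off the `j`-th factor. -/
def splitAt {n : ℕ} (j : Fin (n + 1)) : fibPow f (n + 1) ⟶ pullback f (fb f n) :=
  pullback.lift (fp f j) (dropAt f j) (by rw [fp_comp, dropAt_fb])

instance isIso_splitAt {n : ℕ} (j : Fin (n + 1)) : IsIso (splitAt f j) := by
  let v : Fin (n + 1) → (pullback f (fb f n) ⟶ X) :=
    Fin.insertNth (α := fun _ => pullback f (fb f n) ⟶ X) j (pullback.fst f (fb f n))
      (fun i => pullback.snd f (fb f n) ≫ fp f i)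
  have hv : ∀ i, v i ≫ f = pullback.snd f (fb f n) ≫ fb f n := fun i => by
    induction i using Fin.succAboveCases j with
    | x => simp only [v, Fin.insertNth_apply_same]; exact pullback.condition
    | p i => simp only [v, Fin.insertNth_apply_succAbove, Category.assoc, fp_comp]
  let w : pullback f (fb f n) ⟶ fibPow f (n + 1) := WidePullback.lift (pullback.snd f (fb f n) ≫ fb f n) v hv
  have hw : ∀ i, w ≫ fp f i = v i := fun i => WidePullback.lift_π _ _ _ _ i
  have hwb : w ≫ fb f (n + 1) = pullback.snd f (fb f n) ≫ fb f n := WidePullback.lift_base _ _ _ _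
  refine ⟨w, WidePullback.hom_ext _ _ _ (fun i => ?_) ?_, pullback.hom_ext ?_ (WidePullback.hom_ext _ _ _ (fun i => ?_) ?_)⟩
  · rw [Category.id_comp, Category.assoc]
    show splitAt f j ≫ w ≫ fp f i = fp f i
    rw [hw]
    induction i using Fin.succAboveCases j with
    | x => simp [v, splitAt]
    | p i => simp [v, splitAt]
  · rw [Category.id_comp, Category.assoc]
    show splitAt f j ≫ w ≫ fb f (n + 1) = fb f (n + 1)
    rw [hwb]; simp [splitAt]
  · rw [Category.id_comp, Category.assoc, splitAt, pullback.lift_fst, hw]; simp [v]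
  · rw [Category.id_comp, Category.assoc, splitAt, Category.assoc, pullback.lift_snd_assoc]
    show w ≫ dropAt f j ≫ fp f i = pullback.snd f (fb f n) ≫ fp f i
    rw [dropAt_fp, hw]; simp [v]
  · rw [Category.id_comp, Category.assoc, splitAt, Category.assoc, pullback.lift_snd_assoc]
    show w ≫ dropAt f j ≫ fb f n = pullback.snd f (fb f n) ≫ fb f n
    rw [dropAt_fb, hwb]

variable [IsSeparated f]

instance {n : ℕ} (i : Fin n) : IsClosedImmersion (gr f i) := isClosedImmersion_secF f _ _

/-- The sum of the graphs of the projections. -/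
def sumId (n : ℕ) : (pullback f (fb f n)).IdealSheafData := ∏ i : Fin n, (gr f i).ker

/-- The locus where two projections agree. -/
def diag {n : ℕ} (i j : Fin n) : (fibPow f n).IdealSheafData := (gr f i).ker.comap (gr f j)

theorem comap_diag_eq_bot {n : ℕ} (i j : Fin n) {T : Scheme.{u}} (a : T ⟶ fibPow f n)
    (h : a ≫ fp f i = a ≫ fp f j) : (diag f i j).comap a = ⊥ := by
  have e : a ≫ gr f j = a ≫ gr f i :=
    pullback.hom_ext (by simp [gr, h]) (by simp [gr])
  rw [diag, ← Scheme.IdealSheafData.comap_comp, e, Scheme.IdealSheafData.comap_comp,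
    (comap_eq_bot_iff _ _).2 le_rfl, Scheme.IdealSheafData.comap_bot]

variable [SmoothOfRelativeDimension 1 f]

theorem prop_prod {T : Scheme.{u}} {g : T ⟶ S} {ι : Type*} (t : Finset ι) (x : ι → (T ⟶ X))
    (hx : ∀ i, x i ≫ f = g) :
    Mor2.IsFinLocFreeOfDeg t.card ((∏ i ∈ t, (secF f (x i) (hx i)).ker).subschemeι ≫ pullback.snd f g) := by
  classical
  induction t using Finset.induction_on with
  | empty => rw [Finset.prod_empty, Finset.card_empty, Scheme.IdealSheafData.one_eq_top]; exact prop_top f g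
  | @insert i t hi ih =>
    haveI := smooth_snd f g
    rw [Finset.prod_insert hi, Finset.card_insert_of_notMem hi, Nat.add_comm t.card 1]
    exact isFinLocFreeOfDeg_mul (pullback.snd f g) _ _ _ _ (prop_secF f _ _) ih

theorem prop_sumId (n : ℕ) : Mor2.IsFinLocFreeOfDeg n ((sumId f n).subschemeι ≫ pullback.snd f (fb f n)) := by
  have h := prop_prod f (Finset.univ : Finset (Fin n)) (fun i => fp f i) (fp_comp f)
  rwa [Finset.card_univ, Fintype.card_fin] at h

omit [SmoothOfRelativeDimension 1 f] in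
theorem comap_gr {n : ℕ} (i : Fin n) {T : Scheme.{u}} {g : T ⟶ S} (a : T ⟶ fibPow f n) (ha : a ≫ fb f n = g)
    (x : T ⟶ X) (hx : a ≫ fp f i = x) :
    (gr f i).ker.comap (m f a ha) = (secF f x (by rw [← hx, Category.assoc, fp_comp, ha])).ker := by
  subst hx
  exact comap_secF f (fp f i) (fp_comp f i) a ha

theorem isEffCartier_diag {n : ℕ} {i j : Fin n} (hij : i ≠ j) : BlowUp.IsEffCartierIdeal (diag f i j) := by
  obtain ⟨n, rfl⟩ : ∃ k, n = k + 1 := ⟨n - 1, by have := i.isLt; omega⟩
  obtain ⟨i', rfl⟩ := Fin.exists_succAbove_eq hij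
  haveI := smooth_snd f (fb f n)
  have h1 : BlowUp.IsEffCartierIdeal (gr f i').ker :=
    (effCartier_of_finLocFree (pullback.snd f (fb f n)) _ (prop_secF f _ (fp_comp f i')).1).1
  have h2 : diag f (j.succAbove i') j = (gr f i').ker.comap (splitAt f j) := by
    have e : gr f j ≫ m f (dropAt f j) (dropAt_fb f j) = splitAt f j :=
      pullback.hom_ext (by simp [gr, splitAt]) (by simp [gr, splitAt])
    rw [← e, Scheme.IdealSheafData.comap_comp, comap_gr f i' (dropAt f j) (dropAt_fb f j) _ (dropAt_fp f j i')]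
    rfl
  rw [h2]
  exact BlowUpLib.isEffCartier_comap_of_flat _ h1

omit [SmoothOfRelativeDimension 1 f] in
theorem comap_sumId_perm {n : ℕ} (σ : Equiv.Perm (Fin n)) :
    (sumId f n).comap (m f (permHom f n σ) (permHom_base f n σ)) = sumId f n := by
  rw [sumId, comap_prod]
  rw [Finset.prod_congr rfl fun i _ => comap_gr f i (permHom f n σ) (permHom_base f n σ) _ (permHom_π f n σ i)]
  exact Equiv.prod_comp σ.symm fun i => (gr f i).ker

/-- Classifiers of the sum of the projections are invariant. -/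
theorem perm_comp_classifier {n : ℕ} {H : Over S} {Z : HilbD.Obj f n H} (hZ : HilbD.IsUniversal f n H Z)
    (ρ : fibPow f n ⟶ H.left) (hρ : ρ ≫ H.hom = fb f n) (hI : Z.1.comap (m f ρ hρ) = sumId f n)
    (σ : Equiv.Perm (Fin n)) : permHom f n σ ≫ ρ = ρ := by
  refine hom_eq_of_comap_eq f hZ (g := fb f n) _ _ (by rw [Category.assoc, hρ, permHom_base]) hρ ?_
  rw [hI, ← m_comp f ρ hρ (permHom f n σ) (permHom_base f n σ), Scheme.IdealSheafData.comap_comp, hI,
    comap_sumId_perm]

/-- The sum map from the fibre power to the Hilbert scheme is finite locally free of degree `n!`. -/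
theorem classifier_deg (hrep : ∀ e : ℕ, HilbD.Representable f e) :
    ∀ (n : ℕ) (H : Over S) (Z : HilbD.Obj f n H), HilbD.IsUniversal f n H Z →
      ∀ (ρ : fibPow f n ⟶ H.left) (hρ : ρ ≫ H.hom = fb f n), Z.1.comap (m f ρ hρ) = sumId f n →
        Mor2.IsFinLocFreeOfDeg n.factorial ρ := by
  intro n
  induction n with
  | zero =>
    intro H Z hZ ρ hρ _
    haveI := isIso_hom_zero f H Z hZ
    haveI : IsIso (fb f 0) := by
      let v : S ⟶ fibPow f 0 := WidePullback.lift (𝟙 S) (fun i => i.elim0) (fun i => i.elim0)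
      exact ⟨v, WidePullback.hom_ext _ _ _ (fun i => i.elim0) (by simp [v]), WidePullback.lift_base _ _ _ _⟩
    haveI : IsIso ρ := by
      haveI : IsIso (ρ ≫ H.hom) := by rw [hρ]; infer_instance
      exact IsIso.of_isIso_comp_right ρ H.hom
    exact ⟨⟨inferInstance, inferInstance, inferInstance⟩, fun y => by
      rw [Scheme.Hom.finrank_eq_one_of_isIso]; rfl⟩
  | succ n ih =>
    intro H Z hZ ρ hρ hI
    obtain ⟨H', Z', hZ'⟩ := hrep n
    obtain ⟨ρ', hρ', hI'⟩ := exists_hom f hZ' (sumId f n) (prop_sumId f n)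
    obtain ⟨k, hk, hkI, hkdeg⟩ := exists_sum f n H H' Z hZ Z' hZ'
    let θ : fibPow f (n + 1) ⟶ pullback f H'.hom := splitAt f 0 ≫ m f ρ' hρ'
    have hpb : IsPullback θ (dropAt f 0) (pullback.snd f H'.hom) ρ' := by
      have h1 : IsPullback (splitAt f 0) (dropAt f 0) (pullback.snd f (fb f n)) (𝟙 (fibPow f n)) :=
        IsPullback.of_horiz_isIso ⟨by simp [splitAt]⟩
      have := h1.paste_horiz (isPullback_m f ρ' hρ')
      rwa [Category.id_comp] at this
    have hθ : θ ≫ (pullback.snd f H'.hom ≫ H'.hom) = fb f (n + 1) := by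
      rw [← Category.assoc, hpb.w, Category.assoc, hρ', dropAt_fb]
    have hθfst : θ ≫ pullback.fst f H'.hom = fp f 0 := by simp [θ, splitAt]
    have hθρ : θ ≫ k = ρ := by
      refine hom_eq_of_comap_eq f hZ (g := fb f (n + 1)) _ _ (by rw [Category.assoc, hk]; exact hθ) hρ ?_
      rw [hI, ← m_comp f k hk θ hθ, Scheme.IdealSheafData.comap_comp, hkI, comap_mul, comap_secF, sumId,
        Fin.prod_univ_succ]
      congr 1
      · congr 1
        exact pullback.hom_ext (by simp [gr, hθfst]) (by simp [gr])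
      · rw [← Scheme.IdealSheafData.comap_comp, m_comp]
        have e : θ ≫ pullback.snd f H'.hom = dropAt f 0 ≫ ρ' := hpb.w
        rw [show m f (θ ≫ pullback.snd f H'.hom) _ = m f (dropAt f 0) (dropAt_fb f 0) ≫ m f ρ' hρ' from
          pullback.hom_ext (by simp) (by simp [e]), Scheme.IdealSheafData.comap_comp, hI', sumId, comap_prod]
        refine Finset.prod_congr rfl fun i _ => ?_
        rw [comap_gr f i (dropAt f 0) (dropAt_fb f 0) _ (dropAt_fp f 0 i)]
        rw [gr]
        congr 2
    have hθdeg : Mor2.IsFinLocFreeOfDeg n.factorial θ :=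
      isFinLocFreeOfDeg_of_isPullback hpb.flip (ih H' Z' hZ' ρ' hρ' hI')
    have := isFinLocFreeOfDeg_comp hθdeg hkdeg
    rwa [hθρ, Nat.mul_comm, ← Nat.factorial_succ] at this

end HilbPts.SC

end
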