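import Groth.Agent.HilbPtsLib.ConnHilb

/-!
# Connectedness of Hilbert schemes of points of schemes that need not be proper
-/

set_option autoImplicit false
set_option linter.style.haveILetI false
set_option linter.unusedSectionVars false
set_option backward.isDefEq.respectTransparency false
set_option backward.isDefEq.respectTransparency.types false

universe u

open CategoryTheory CategoryTheory.Limits AlgebraicGeometry TopologicalSpace

noncomputable section

namespace HilbPts.Conn

section map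

variable {P Q B : Scheme.{u}} (j : P ⟶ Q) [IsClosedImmersion j]

theorem comap_map_of_isClosedImmersion (I : P.IdealSheafData) : (I.map j).comap j = I :=
  (comap_ker_comp I.subschemeι j).trans I.ker_subschemeι

theorem map_comap_of_ker_le {K : Q.IdealSheafData} (hK : j.ker ≤ K) : (K.comap j).map j = K := by
  let c := IsClosedImmersion.lift j K.subschemeι (by rw [Scheme.IdealSheafData.ker_subschemeι]; exact hK)
  have hc : c ≫ j = K.subschemeι := IsClosedImmersion.lift_fac _ _ _
  haveI : IsClosedImmersion (c ≫ j) := by rw [hc]; infer_instance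
  have : K = (c ≫ j).ker := by rw [hc, Scheme.IdealSheafData.ker_subschemeι]
  rw [this, comap_ker_comp c j, Scheme.IdealSheafData.map_ker]

theorem ker_le_map (I : P.IdealSheafData) : j.ker ≤ I.map j := by
  rw [← Scheme.IdealSheafData.map_bot]
  exact Scheme.IdealSheafData.map_mono _ bot_le

theorem deg_map_iff {a : P ⟶ B} {b : Q ⟶ B} (hj : j ≫ b = a) (I : P.IdealSheafData) {d : ℕ} :
    Mor2.IsFinLocFreeOfDeg d ((I.map j).subschemeι ≫ b) ↔ Mor2.IsFinLocFreeOfDeg d (I.subschemeι ≫ a) := by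
  let c : I.subscheme ⟶ (I.map j).subscheme := (I.subschemeι ≫ j).toImage
  haveI : IsIso c := inferInstanceAs (IsIso (I.subschemeι ≫ j).toImage)
  have hc : c ≫ (I.map j).subschemeι ≫ b = I.subschemeι ≫ a := by
    rw [← Category.assoc, show c ≫ (I.map j).subschemeι = I.subschemeι ≫ j from
      Scheme.Hom.toImage_imageι _, Category.assoc, hj]
  exact ⟨fun h => isFinLocFreeOfDeg_of_isPullback (IsPullback.of_horiz_isIso
      (show CommSq c (I.subschemeι ≫ a) ((I.map j).subschemeι ≫ b) (𝟙 B) from ⟨by rw [hc, Category.comp_id]⟩)) h,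
    fun h => isFinLocFreeOfDeg_of_isPullback (IsPullback.of_horiz_isIso
      (show CommSq (inv c) ((I.map j).subschemeι ≫ b) (I.subschemeι ≫ a) (𝟙 B) from
        ⟨by rw [IsIso.inv_comp_eq, Category.comp_id, hc]⟩)) h⟩

end map

variable {k : Type u} [Field k] {X : Scheme.{u}} {f : X ⟶ Spec (CommRingCat.of k)}

section incl

variable {B T : Scheme.{u}} {gB : B ⟶ Spec (CommRingCat.of k)} (J : (pullback f gB).IdealSheafData) (τ : T ⟶ B)

/-- The base change of a closed subscheme, inside the base change of the ambient scheme. -/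
def incl : pullback (J.subschemeι ≫ pullback.snd f gB) τ ⟶ pullback f (τ ≫ gB) :=
  pullback.lift (pullback.fst _ τ ≫ J.subschemeι ≫ pullback.fst f gB) (pullback.snd _ τ) (by
    rw [Category.assoc, Category.assoc, pullback.condition, ← pullback.condition_assoc, Category.assoc])

@[reassoc (attr := simp)]
theorem incl_fst : incl J τ ≫ pullback.fst f (τ ≫ gB) = pullback.fst _ τ ≫ J.subschemeι ≫ pullback.fst f gB :=
  pullback.lift_fst _ _ _

@[reassoc (attr := simp)]
theorem incl_snd : incl J τ ≫ pullback.snd f (τ ≫ gB) = pullback.snd _ τ :=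
  pullback.lift_snd _ _ _

theorem incl_m : pullback.fst _ τ ≫ J.subschemeι = incl J τ ≫ m f τ rfl :=
  pullback.hom_ext (by simp) (by simp [pullback.condition])

theorem isPullback_incl :
    IsPullback (pullback.fst (J.subschemeι ≫ pullback.snd f gB) τ) (incl J τ) J.subschemeι (m f τ rfl) :=
  IsPullback.of_bot (h₁₁ := pullback.fst _ τ) (by rw [incl_snd]; exact IsPullback.of_hasPullback _ _) (incl_m J τ)
    (isPullback_m f τ rfl)

instance isClosedImmersion_incl : IsClosedImmersion (incl J τ) :=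
  MorphismProperty.of_isPullback (P := @IsClosedImmersion) (isPullback_incl J τ) inferInstance

theorem ker_incl : (incl J τ).ker = J.comap (m f τ rfl) := by
  have h := (isPullback_incl J τ).flip
  rw [← h.isoPullback_hom_fst, Scheme.Hom.ker_comp_of_isIso, Scheme.IdealSheafData.ker_fst_of_isClosedImmersion,
    Scheme.IdealSheafData.ker_subschemeι]

end incl

theorem isAF_of_isAF (hAF : SymProd.IsAF f) {B : Scheme.{u}} (gB : B ⟶ Spec (CommRingCat.of k)) {W : Scheme.{u}}
    (c : W ⟶ pullback f gB) [IsClosedImmersion c] : SymProd.IsAF (c ≫ pullback.snd f gB) := fun b t ht => by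
  classical
  obtain ⟨U, hU, hbU, -⟩ := exists_isAffineOpen_mem_and_subset (X := B) (x := b) (U := ⊤) trivial
  obtain ⟨V, hV, hVt⟩ := hAF (IsLocalRing.closedPoint k) (t.image fun w => pullback.fst f gB (c w))
    (fun x _ => Subsingleton.elim _ _)
  haveI : IsAffine V.toScheme := hV
  haveI : IsAffine U.toScheme := hU
  let ι := pullback.map (V.ι ≫ f) (U.ι ≫ gB) f gB V.ι U.ι (𝟙 _) (Category.comp_id _) (Category.comp_id _)
  refine ⟨c ⁻¹ᵁ ι.opensRange, (isAffineOpen_opensRange ι).preimage c, fun w hw => ?_⟩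
  show c w ∈ Set.range ι
  rw [Scheme.Pullback.range_map, Scheme.Opens.range_ι, Scheme.Opens.range_ι]
  refine ⟨hVt _ (Finset.mem_image_of_mem _ hw), ?_⟩
  show pullback.snd f gB (c w) ∈ U
  rw [← Scheme.Hom.comp_apply, ht w hw]
  exact hbU

theorem isProper_of_mul {B : Scheme.{u}} {gB : B ⟶ Spec (CommRingCat.of k)} [IsSeparated f] [LocallyOfFiniteType f]
    (x : B ⟶ X) (hx : x ≫ f = gB) {I' : (pullback f gB).IdealSheafData}
    (hI' : IsFinite (I'.subschemeι ≫ pullback.snd f gB)) :
    IsProper (((SC.secF f x hx).ker * I').subschemeι ≫ pullback.snd f gB) := by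
  let s := SC.secF f x hx
  haveI := hI'
  haveI : IsFinite (s.ker.subschemeι ≫ pullback.snd f gB) := by
    have h : inv s.toImage = s.ker.subschemeι ≫ pullback.snd f gB := by
      refine IsIso.inv_eq_of_hom_inv_id ?_
      rw [show s.toImage ≫ s.ker.subschemeι ≫ pullback.snd f gB = s ≫ pullback.snd f gB from
        Scheme.Hom.toImage_imageι_assoc _ _]
      exact SC.secF_snd f x hx
    rw [← h]
    infer_instance
  have h1 : s.ker * I' ≤ s.ker := fun U => by
    rw [Scheme.IdealSheafData.ideal_mul]; exact Ideal.mul_le_left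
  have h2 : s.ker * I' ≤ I' := fun U => by
    rw [Scheme.IdealSheafData.ideal_mul]; exact Ideal.mul_le_right
  let d := coprod.desc (Scheme.IdealSheafData.inclusion h1) (Scheme.IdealSheafData.inclusion h2)
  have e : d ≫ (s.ker * I').subschemeι ≫ pullback.snd f gB =
      coprod.desc (s.ker.subschemeι ≫ pullback.snd f gB) (I'.subschemeι ≫ pullback.snd f gB) := by
    refine coprod.hom_ext ?_ ?_ <;> simp [d]
  haveI : Surjective d := ⟨fun w => by
    have hw : (s.ker * I').subschemeι w ∈ (s.ker * I').support := by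
      rw [← SetLike.mem_coe, ← Scheme.IdealSheafData.range_subschemeι]; exact ⟨w, rfl⟩
    rw [Scheme.IdealSheafData.support_mul, ← SetLike.mem_coe, Closeds.coe_sup] at hw
    rcases hw with hw | hw <;> rw [← Scheme.IdealSheafData.range_subschemeι] at hw <;> obtain ⟨v, hv⟩ := hw
    · refine ⟨coprod.inl (C := Scheme) v, (s.ker * I').subschemeι.isClosedEmbedding.injective ?_⟩
      rw [← hv, ← Scheme.Hom.comp_apply, ← Scheme.Hom.comp_apply,
        show coprod.inl ≫ d ≫ (s.ker * I').subschemeι = s.ker.subschemeι by simp [d]]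
    · refine ⟨coprod.inr (C := Scheme) v, (s.ker * I').subschemeι.isClosedEmbedding.injective ?_⟩
      rw [← hv, ← Scheme.Hom.comp_apply, ← Scheme.Hom.comp_apply,
        show coprod.inr ≫ d ≫ (s.ker * I').subschemeι = I'.subschemeι by simp [d]]⟩
  haveI : UniversallyClosed (d ≫ (s.ker * I').subschemeι ≫ pullback.snd f gB) := by
    rw [e]; infer_instance
  haveI := UniversallyClosed.of_comp_surjective d ((s.ker * I').subschemeι ≫ pullback.snd f gB)
  exact { }

variable [IsAlgClosed k] [IsSeparated f] [LocallyOfFiniteType f] {d : ℕ}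
  {H : Over (Spec (CommRingCat.of k))} {Z : HilbD.Obj f d H}

set_option maxHeartbeats 2000000 in
/-- Incidence loci of points inside a family of subschemes proper over the base have closed image. -/
theorem isClosed_image_of_le (hAF : SymProd.IsAF f) (hZ : HilbD.IsUniversal f d H Z) [LocallyOfFiniteType H.hom]
    {B : Scheme.{u}} {gB : B ⟶ Spec (CommRingCat.of k)} [LocallyOfFiniteType gB] (J : (pullback f gB).IdealSheafData)
    [IsProper (J.subschemeι ≫ pullback.snd f gB)] {C : Set ↥(pullback gB H.hom)} (hC : IsClosed C)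
    (hle : ∀ h : Spec (CommRingCat.of k) ⟶ pullback gB H.hom, h (IsLocalRing.closedPoint k) ∈ C →
      ∀ (hh : h ≫ pullback.fst gB H.hom ≫ gB = 𝟙 _),
      J.comap (m f (h ≫ pullback.fst gB H.hom) rfl) ≤ Z.1.comap (m f (h ≫ pullback.snd gB H.hom)
        (by rw [Category.assoc, Category.assoc, ← pullback.condition]))) :
    IsClosed (pullback.fst gB H.hom '' C) := by
  let ρ := J.subschemeι ≫ pullback.snd f gB
  haveI : IsProper ρ := ‹_›
  have hAFρ : SymProd.IsAF ρ := isAF_of_isAF hAF gB J.subschemeι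
  obtain ⟨HT, ZT, hZT⟩ := SC.representable_of_isAF ρ hAFρ d
  haveI : IsProper HT.hom := SC.isProper_hom_of_isAF hAFρ hZT
  obtain ⟨a, ha, haI⟩ := SC.exists_hom f hZ (ZT.1.map (incl J HT.hom))
    ((deg_map_iff (incl J HT.hom) (incl_snd J HT.hom) ZT.1).2 ZT.2)
  let φ : HT.left ⟶ pullback gB H.hom := pullback.lift HT.hom a ha.symm
  let e : pullback gB H.hom ⟶ Spec (CommRingCat.of k) := pullback.fst gB H.hom ≫ gB
  haveI : JacobsonSpace ↥(pullback gB H.hom) := LocallyOfFiniteType.jacobsonSpace e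
  have hcl : C ∩ closedPoints _ ⊆ φ '' (φ ⁻¹' C) := by
    rintro z ⟨hzC, hz⟩
    let h := pointOfClosedPoint e z hz
    have hp : h (IsLocalRing.closedPoint k) = z := pointOfClosedPoint_apply e z hz _
    let b := h ≫ pullback.fst gB H.hom
    have hb : b ≫ gB = 𝟙 _ := by rw [Category.assoc]; exact pointOfClosedPoint_comp e z hz
    have w : (h ≫ pullback.snd gB H.hom) ≫ H.hom = b ≫ gB := by
      rw [Category.assoc, Category.assoc, ← pullback.condition]
    let K := Z.1.comap (m f (h ≫ pullback.snd gB H.hom) w)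
    have hJK : (incl J b).ker ≤ K := by
      rw [ker_incl]
      exact hle h (by rw [hp]; exact hzC) (by rw [← hb, Category.assoc])
    have hK : Mor2.IsFinLocFreeOfDeg d (K.subschemeι ≫ pullback.snd f (b ≫ gB)) :=
      isFinLocFreeOfDeg_of_isPullback (isPullback_comap_m f _ w Z.1) Z.2
    obtain ⟨t, ht, htI⟩ := SC.exists_hom ρ hZT (K.comap (incl J b))
      ((deg_map_iff (incl J b) (incl_snd J b) _).1 (by rw [map_comap_of_ker_le (incl J b) hJK]; exact hK))
    have ht' : t ≫ HT.hom ≫ gB = b ≫ gB := by rw [← Category.assoc, ht]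
    have hta : t ≫ a = h ≫ pullback.snd gB H.hom := by
      refine SC.hom_eq_of_comap_eq f hZ _ _ (by rw [Category.assoc, ha]; exact ht') w ?_
      rw [← m_comp f a ha t ht', Scheme.IdealSheafData.comap_comp, haI]
      have h1 : (incl J b).ker ≤ (ZT.1.map (incl J HT.hom)).comap (m f t ht') := by
        refine le_trans ?_ (Scheme.IdealSheafData.comap_mono _ (ker_le_map _ _))
        rw [ker_incl, ker_incl]
        dsimp only
        rw [← Scheme.IdealSheafData.comap_comp, m_comp]
        exact le_of_eq (by congr 2; exact ht.symm)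
      have nat : incl J b ≫ m f t ht' = m ρ t ht ≫ incl J HT.hom := by
        refine pullback.hom_ext ?_ ?_ <;> simp [ρ]
      refine ((map_comap_of_ker_le _ h1).symm.trans ?_).trans (map_comap_of_ker_le (incl J b) hJK)
      rw [← Scheme.IdealSheafData.comap_comp, nat, Scheme.IdealSheafData.comap_comp,
        comap_map_of_isClosedImmersion, htI]
    have hφ : t ≫ φ = h := pullback.hom_ext (by simp [φ, ht, b]) (by simp [φ, hta])
    have hz' : φ (t (IsLocalRing.closedPoint k)) = z := by rw [← Scheme.Hom.comp_apply, hφ, hp]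
    exact ⟨t (IsLocalRing.closedPoint k), (hz'.symm ▸ hzC : φ (t (IsLocalRing.closedPoint k)) ∈ C), hz'⟩
  have hS : IsClosed (HT.hom '' (φ ⁻¹' C)) := HT.hom.isClosedMap _ (hC.preimage φ.continuous)
  have hq : HT.hom '' (φ ⁻¹' C) = pullback.fst gB H.hom '' (φ '' (φ ⁻¹' C)) := by
    rw [Set.image_image]
    exact Set.image_congr fun s _ => by rw [← Scheme.Hom.comp_apply, pullback.lift_fst]
  have : pullback.fst gB H.hom '' C = HT.hom '' (φ ⁻¹' C) := by
    refine le_antisymm ?_ (hq ▸ Set.image_mono (Set.image_preimage_subset _ _))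
    calc pullback.fst gB H.hom '' C = pullback.fst gB H.hom '' closure (C ∩ closedPoints _) := by
          rw [JacobsonSpace.closure_inter_closedPoints hC]
      _ ⊆ closure (pullback.fst gB H.hom '' (C ∩ closedPoints _)) :=
          image_closure_subset_closure_image (pullback.fst gB H.hom).continuous
      _ ⊆ _ := closure_minimal (hq ▸ Set.image_mono hcl) hS
  rw [this]
  exact hS

variable {n : ℕ}

set_option maxHeartbeats 2000000 in
/-- The Hilbert scheme of `n + 1` points is connected when that of `n` points is. -/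
theorem connectedSpace_succ_open [ConnectedSpace X] (hAF : SymProd.IsAF f) (hne : Hne f n)
    {H H' : Over (Spec (CommRingCat.of k))} {Z : HilbD.Obj f (n + 1) H} (hZ : HilbD.IsUniversal f (n + 1) H Z)
    {Z' : HilbD.Obj f n H'} (hZ' : HilbD.IsUniversal f n H' Z') [ConnectedSpace H'.left] :
    ConnectedSpace H.left := by
  haveI := SC.locallyOfFiniteType_hom hAF hZ
  haveI := SC.locallyOfFiniteType_hom hAF hZ'
  haveI : GeometricallyConnected f := SweepSix.GeomConn.gc_of_isAlgClosed f
  haveI : UniversallyOpen f := Groth.Agent.GrpField.universallyOpen_field f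
  haveI : ConnectedSpace ↥(pullback f H'.hom) := inferInstance
  let gB : pullback f H'.hom ⟶ Spec (CommRingCat.of k) := pullback.snd f H'.hom ≫ H'.hom
  let e : pullback gB H.hom ⟶ Spec (CommRingCat.of k) := pullback.snd gB H.hom ≫ H.hom
  let q : pullback gB H.hom ⟶ pullback f H'.hom := pullback.fst gB H.hom
  let π : pullback gB H.hom ⟶ H.left := pullback.snd gB H.hom
  have hq : q ≫ pullback.snd f H'.hom ≫ H'.hom = e := pullback.condition
  let u' : pullback gB H.hom ⟶ H'.left := q ≫ pullback.snd f H'.hom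
  have hu' : u' ≫ H'.hom = e := by rw [← hq]; simp [u']
  let x : pullback gB H.hom ⟶ X := q ≫ pullback.fst f H'.hom
  have hx : x ≫ f = e := by rw [← hq]; simp [x, pullback.condition]
  let I : (pullback f e).IdealSheafData := Z.1.comap (m f π rfl)
  let I' : (pullback f e).IdealSheafData := Z'.1.comap (m f u' hu')
  have hI : Mor2.IsFinLocFreeOfDeg (n + 1) (I.subschemeι ≫ pullback.snd f e) :=
    isFinLocFreeOfDeg_of_isPullback (isPullback_comap_m f π rfl Z.1) Z.2
  have hI' : Mor2.IsFinLocFreeOfDeg n (I'.subschemeι ≫ pullback.snd f e) :=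
    isFinLocFreeOfDeg_of_isPullback (isPullback_comap_m f u' hu' Z'.1) Z'.2
  obtain ⟨K₁, hK₁⟩ := exists_containment f I' I hI'.1
  obtain ⟨K₂, hK₂⟩ := exists_containment f I ((SC.secF f x hx).ker * I') hI.1
  let C : Set ↥(pullback gB H.hom) := (K₁.support : Set _) ∩ (K₂.support : Set _)
  have hC : IsClosed C := K₁.support.isClosed.inter K₂.support.isClosed
  have hpt : ∀ (h : Spec (CommRingCat.of k) ⟶ pullback gB H.hom) (hh : h ≫ e = 𝟙 _)
      (y : Spec (CommRingCat.of k) ⟶ X) (hy : y ≫ f = 𝟙 _) (a : Spec (CommRingCat.of k) ⟶ H.left)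
      (ha : a ≫ H.hom = 𝟙 _) (a' : Spec (CommRingCat.of k) ⟶ H'.left) (ha' : a' ≫ H'.hom = 𝟙 _),
      h ≫ π = a → h ≫ x = y → h ≫ u' = a' →
      (h (IsLocalRing.closedPoint k) ∈ C ↔ Z.1.comap (m f a ha) ≤ Z'.1.comap (m f a' ha') ∧
        (SC.secF f y hy).ker * Z'.1.comap (m f a' ha') ≤ Z.1.comap (m f a ha)) := by
    rintro h hh y hy a ha a' ha' rfl rfl rfl
    show _ ∈ (K₁.support : Set ↥(pullback gB H.hom)) ∧ _ ∈ (K₂.support : Set ↥(pullback gB H.hom)) ↔ _
    rw [SetLike.mem_coe, SetLike.mem_coe, ← comap_eq_bot_iff_mem, ← comap_eq_bot_iff_mem, ← hK₁ h hh, ← hK₂ h hh,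
      SC.comap_mul, SC.comap_secF f x hx h hh]
    simp only [I, I', ← Scheme.IdealSheafData.comap_comp, m_comp]
  haveI : JacobsonSpace ↥(pullback f H'.hom) := LocallyOfFiniteType.jacobsonSpace gB
  haveI : JacobsonSpace ↥(pullback gB H.hom) := LocallyOfFiniteType.jacobsonSpace e
  haveI : JacobsonSpace ↥H.left := LocallyOfFiniteType.jacobsonSpace H.hom
  have habove : ∀ b : ↥(pullback f H'.hom), IsClosed {b} → ∃ z ∈ C, q z = b := fun b hb => by
    let hbk := pointOfClosedPoint gB b hb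
    have hbk' : hbk ≫ gB = 𝟙 _ := pointOfClosedPoint_comp gB b hb
    have hy : (hbk ≫ pullback.fst f H'.hom) ≫ f = 𝟙 _ := by
      rw [Category.assoc, pullback.condition]; exact hbk'
    have ha' : (hbk ≫ pullback.snd f H'.hom) ≫ H'.hom = 𝟙 _ := by rw [Category.assoc]; exact hbk'
    obtain ⟨I₀, hI₀, l0, m0⟩ := exists_above hAF hne rfl _ hy
      (isFinLocFreeOfDeg_of_isPullback (isPullback_comap_m f _ ha' Z'.1) Z'.2)
    obtain ⟨a, ha, haI⟩ := SC.exists_hom f hZ I₀ hI₀
    let h := pullback.lift (f := gB) (g := H.hom) hbk a (hbk'.trans ha.symm)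
    have hh : h ≫ e = 𝟙 _ := by simp [h, e, ha]
    refine ⟨h (IsLocalRing.closedPoint k), (hpt h hh _ hy a ha _ ha' (pullback.lift_snd _ _ _)
      (by simp [h, x, q]) (by simp [h, u', q])).2 ⟨by rw [haI]; exact l0, by rw [haI]; exact m0⟩, ?_⟩
    rw [← Scheme.Hom.comp_apply, pullback.lift_fst]
    exact pointOfClosedPoint_apply gB b hb _
  have hbelow : ∀ z : H.left, IsClosed {z} → ∃ w ∈ C, π w = z := fun z hz => by
    let a := pointOfClosedPoint H.hom z hz
    have ha : a ≫ H.hom = 𝟙 _ := pointOfClosedPoint_comp H.hom z hz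
    obtain ⟨y, hy, I₀, hI₀, l0, m0⟩ := exists_below hAF rfl
      (isFinLocFreeOfDeg_of_isPullback (isPullback_comap_m f a ha Z.1) Z.2)
    obtain ⟨a', ha', haI⟩ := SC.exists_hom f hZ' I₀ hI₀
    let hb := pullback.lift (f := f) (g := H'.hom) y a' (hy.trans ha'.symm)
    have hb' : hb ≫ gB = 𝟙 _ := by simp [hb, gB, ha']
    let h := pullback.lift (f := gB) (g := H.hom) hb a (hb'.trans ha.symm)
    have hh : h ≫ e = 𝟙 _ := by simp [h, e, ha]
    refine ⟨h (IsLocalRing.closedPoint k), (hpt h hh y hy a ha a' ha' (pullback.lift_snd _ _ _)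
      (by simp [h, hb, x, q]) (by simp [h, hb, u', q])).2 ⟨by rw [haI]; exact l0, by rw [haI]; exact m0⟩, ?_⟩
    rw [← Scheme.Hom.comp_apply, pullback.lift_snd]
    exact pointOfClosedPoint_apply H.hom z hz _
  have hclosed : ∀ A : Set H.left, IsClosed A → IsClosed (q '' (C ∩ π ⁻¹' A)) := fun A hA => by
    have hx0 : pullback.fst f H'.hom ≫ f = gB := pullback.condition
    let IB : (pullback f gB).IdealSheafData := Z'.1.comap (m f (pullback.snd f H'.hom) rfl)
    have hIB : Mor2.IsFinLocFreeOfDeg n (IB.subschemeι ≫ pullback.snd f gB) :=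
      isFinLocFreeOfDeg_of_isPullback (isPullback_comap_m f _ rfl Z'.1) Z'.2
    haveI := isProper_of_mul _ hx0 hIB.1.1
    refine isClosed_image_of_le hAF hZ ((SC.secF f _ hx0).ker * IB) (hC.inter (hA.preimage π.continuous))
      (fun h hz hh => ?_)
    have w : h ≫ e = (h ≫ q) ≫ gB := by rw [Category.assoc, show q ≫ gB = e from hq]
    have hle := (hK₂ h w).2 ((comap_eq_bot_iff_mem _ _).2 hz.1.2)
    simp only [SC.comap_mul, SC.comap_secF f x hx h w, SC.comap_secF f _ hx0 (h ≫ pullback.fst gB H.hom) rfl, I, I', IB,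
      ← Scheme.IdealSheafData.comap_comp, m_comp] at hle ⊢
    simpa [x, u', π, Category.assoc] using hle
  have hnonempty : Nonempty H.left := by
    obtain ⟨b, -, hb⟩ := nonempty_inter_closedPoints (Z := (Set.univ : Set ↥(pullback f H'.hom))) Set.univ_nonempty
      isClosed_univ.isLocallyClosed
    obtain ⟨z, -, -⟩ := habove b hb
    exact ⟨π z⟩
  refine { toPreconnectedSpace := preconnectedSpace_iff_clopen.2 fun A hA => ?_, toNonempty := hnonempty }
  by_contra! hAne
  let CA := q '' (C ∩ π ⁻¹' A)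
  let CB := q '' (C ∩ π ⁻¹' Aᶜ)
  have hcov : CA ∪ CB = Set.univ := by
    refine Set.eq_univ_of_univ_subset ?_
    rw [← closure_closedPoints]
    refine closure_minimal (fun b hb => ?_) ((hclosed A hA.1).union (hclosed _ hA.compl.1))
    obtain ⟨z, hz, hzb⟩ := habove b hb
    by_cases hzA : π z ∈ A
    · exact Or.inl ⟨z, ⟨hz, hzA⟩, hzb⟩
    · exact Or.inr ⟨z, ⟨hz, hzA⟩, hzb⟩
  have hneA : ∀ A' : Set H.left, IsClosed A' → A'.Nonempty → (q '' (C ∩ π ⁻¹' A')).Nonempty := fun A' hA' hne' => by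
    obtain ⟨z, hzA, hz⟩ := nonempty_inter_closedPoints hne' hA'.isLocallyClosed
    obtain ⟨w, hw, rfl⟩ := hbelow z hz
    exact ⟨q w, w, ⟨hw, hzA⟩, rfl⟩
  have hmeet : (CA ∩ CB).Nonempty := by
    have h := isPreconnected_closed_iff.1 (isPreconnected_univ (α := ↥(pullback f H'.hom))) CA CB (hclosed A hA.1)
      (hclosed _ hA.compl.1) hcov.ge (by rw [Set.univ_inter]; exact hneA A hA.1 hAne.1)
      (by rw [Set.univ_inter]; exact hneA _ hA.compl.1 (Set.nonempty_compl.2 hAne.2))
    rwa [Set.univ_inter] at h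
  obtain ⟨b, hb, hbc⟩ := nonempty_inter_closedPoints hmeet
    ((hclosed A hA.1).inter (hclosed _ hA.compl.1)).isLocallyClosed
  have hfib : ∀ A' : Set H.left, IsClosed A' → b ∈ q '' (C ∩ π ⁻¹' A') → ∃ z, IsClosed {z} ∧ z ∈ C ∧ π z ∈ A' ∧ q z = b :=
    fun A' hA' hb' => by
    obtain ⟨z, hz, hzc⟩ := nonempty_inter_closedPoints (Z := C ∩ π ⁻¹' A' ∩ q ⁻¹' {b})
      (by obtain ⟨z, hz, rfl⟩ := hb'; exact ⟨z, hz, rfl⟩)
      (((hC.inter (hA'.preimage π.continuous)).inter (IsClosed.preimage q.continuous hbc)).isLocallyClosed)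
    exact ⟨z, hzc, hz.1.1, hz.1.2, hz.2⟩
  obtain ⟨z0, hc0, hzC0, hzA0, hzb0⟩ := hfib A hA.1 hb.1
  obtain ⟨z1, hc1, hzC1, hzA1, hzb1⟩ := hfib Aᶜ hA.compl.1 hb.2
  let h0 := pointOfClosedPoint e z0 hc0
  let h1 := pointOfClosedPoint e z1 hc1
  have hh0 : h0 ≫ e = 𝟙 _ := pointOfClosedPoint_comp e z0 hc0
  have hh1 : h1 ≫ e = 𝟙 _ := pointOfClosedPoint_comp e z1 hc1
  have hp0 : h0 (IsLocalRing.closedPoint k) = z0 := pointOfClosedPoint_apply e z0 hc0 _
  have hp1 : h1 (IsLocalRing.closedPoint k) = z1 := pointOfClosedPoint_apply e z1 hc1 _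
  have hqq : h0 ≫ q = h1 ≫ q := by
    refine ext_of_apply_closedPoint_eq gB ?_ ?_ ?_
    · rw [Category.assoc, show q ≫ gB = e from hq]; exact hh0
    · rw [Category.assoc, show q ≫ gB = e from hq]; exact hh1
    · rw [Scheme.Hom.comp_apply, Scheme.Hom.comp_apply, hp0, hp1, hzb0, hzb1]
  have hy : (h0 ≫ x) ≫ f = 𝟙 _ := by rw [Category.assoc, hx, hh0]
  have ha' : (h0 ≫ u') ≫ H'.hom = 𝟙 _ := by rw [Category.assoc, hu', hh0]
  have ha0 : (h0 ≫ π) ≫ H.hom = 𝟙 _ := by rw [Category.assoc]; exact hh0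
  have ha1 : (h1 ≫ π) ≫ H.hom = 𝟙 _ := by rw [Category.assoc]; exact hh1
  obtain ⟨l0, m0⟩ := (hpt h0 hh0 _ hy _ ha0 _ ha' rfl rfl rfl).1 (by rw [hp0]; exact hzC0)
  obtain ⟨l1, m1⟩ := (hpt h1 hh1 _ hy _ ha1 _ ha' rfl (by simp only [x, ← Category.assoc, hqq])
    (by simp only [u', ← Category.assoc, hqq])).1 (by rw [hp1]; exact hzC1)
  obtain ⟨s, hs, hs0, hs1⟩ := exists_pencil_set hZ hAF rfl _ hy
    (isFinLocFreeOfDeg_of_isPullback (isPullback_comap_m f _ ha' Z'.1) Z'.2) _ _ ha0 ha1 l0 l1 m0 m1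
  rw [Scheme.Hom.comp_apply, hp0] at hs0
  rw [Scheme.Hom.comp_apply, hp1] at hs1
  exact hzA1 (hs.subset_isClopen hA ⟨_, hs0, hzA0⟩ hs1)

/-- All Hilbert schemes of points are connected. -/
theorem connectedSpace_hilb_open [ConnectedSpace X] (hAF : SymProd.IsAF f) :
    ∀ (n : ℕ), (∀ i < n, Hne f i) → ∀ (H : Over (Spec (CommRingCat.of k))) (Z : HilbD.Obj f n H),
      HilbD.IsUniversal f n H Z → ConnectedSpace H.left
  | 0, _, H, Z, hZ => connectedSpace_zero hAF hZ
  | n + 1, hne, H, Z, hZ => by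
    obtain ⟨H', Z', hZ'⟩ := SC.representable_of_isAF f hAF n
    haveI := connectedSpace_hilb_open hAF n (fun i hi => hne i (by omega)) H' Z' hZ'
    exact connectedSpace_succ_open hAF (hne n (by omega)) hZ hZ'

end HilbPts.Conn

end
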