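import Groth.Agent.HilbPtsLib.Basic
import Groth.Agent.SmoothDimLib.Chart
import Groth.Agent.RTrivLib.Curve
import Groth.Agent.RelQRegLib.Cartier
import Groth.Agent.EffCartLib.Basic
import Groth.Agent.S1662
import Groth.Agent.FibDimLib.ClosureDim

/-!
# Closed subschemes of smooth curves
-/

set_option autoImplicit false
set_option linter.style.haveILetI false
set_option backward.isDefEq.respectTransparency false
set_option backward.isDefEq.respectTransparency.types false

universe u

open CategoryTheory CategoryTheory.Limits AlgebraicGeometry TopologicalSpace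

noncomputable section

namespace HilbPts.SC

theorem le_of_lt_succ' {a : WithBot ℕ∞} {n : ℕ} (h : a < ((n + 1 : ℕ) : WithBot ℕ∞)) : a ≤ (n : WithBot ℕ∞) := by
  cases a with
  | bot => exact bot_le
  | coe a =>
    cases a with
    | top => exact absurd h (by simp)
    | coe m => norm_cast at h ⊢; exact Nat.le_of_lt_succ h

variable {k : Type u} [Field k] {Y : Scheme.{u}} (g : Y ⟶ Spec (CommRingCat.of k))
  [SmoothOfRelativeDimension 1 g]

include g

theorem localDim_eq (y : Y) : FlatMor.localDim Y y = 1 :=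
  (SmoothDimLib.fibreDimAt_eq_localDim g y).symm.trans (FibDimLib.fibreDimAt_smoothOfRelativeDimension 1 g y)

theorem exists_open_dim (y : Y) : ∃ U : Y.Opens, y ∈ U ∧ topologicalKrullDim (U : Set Y) ≤ 1 := by
  have h := localDim_eq g y
  unfold FlatMor.localDim at h
  obtain ⟨U, hU⟩ := iInf_lt_iff.1 (h.trans_lt (show (1 : WithBot ℕ∞) < 2 by exact_mod_cast (by norm_num : (1 : ℕ) < 2)))
  exact ⟨U.1, U.2, le_of_lt_succ' (n := 1) (by exact_mod_cast hU)⟩

theorem krullDimLE (y : Y) : Ring.KrullDimLE 1 (Y.presheaf.stalk y) := by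
  obtain ⟨U, hy, hU⟩ := exists_open_dim g y
  haveI := RTrivLib.krullDimLE_stalk (Y := U) hU ⟨y, hy⟩
  rwa [Ring.krullDimLE_iff, ← ringKrullDim_eq_of_ringEquiv (U.stalkIso ⟨y, hy⟩).commRingCatIsoToRingEquiv, ← Ring.krullDimLE_iff]

theorem not_isOpen_singleton (y : Y) : ¬ IsOpen ({y} : Set Y) := fun h => by
  have h1 := localDim_eq g y
  have h2 : FlatMor.localDim Y y ≤ topologicalKrullDim ({y} : Set Y) :=
    iInf_le (fun U : {U : Opens Y // y ∈ U} => topologicalKrullDim (U.1 : Set Y)) ⟨⟨{y}, h⟩, rfl⟩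
  haveI : DiscreteTopology ({y} : Set Y) := inferInstance
  rw [h1] at h2
  exact absurd (h2.trans (topologicalKrullDim_zero_of_discreteTopology _)) (by norm_num)

theorem isDomain_stalk (y : Y) : IsDomain (Y.presheaf.stalk y) := by
  haveI : Smooth g := SmoothOfRelativeDimension.smooth 1 g
  haveI := RTrivLib.regular_stalk g y
  exact CommAlgDim.isDomain_of_isRegularLocalRing _

theorem isPID_stalk (y : Y) : IsPrincipalIdealRing (Y.presheaf.stalk y) := by
  haveI : Smooth g := SmoothOfRelativeDimension.smooth 1 g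
  haveI := RTrivLib.regular_stalk g y
  haveI := krullDimLE g y
  haveI := isDomain_stalk g y
  by_cases hf : IsField (Y.presheaf.stalk y)
  · letI := hf.toField
    infer_instance
  suffices h : (IsLocalRing.maximalIdeal (Y.presheaf.stalk y)).IsPrincipal by
    haveI : IsDiscreteValuationRing (Y.presheaf.stalk y) :=
      ((IsDiscreteValuationRing.TFAE (Y.presheaf.stalk y) hf).out 0 4 rfl rfl).mpr h
    infer_instance
  have h1 : ((IsLocalRing.maximalIdeal (Y.presheaf.stalk y)).spanFinrank : WithBot ℕ∞) = ringKrullDim (Y.presheaf.stalk y) :=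
    IsRegularLocalRing.spanFinrank_maximalIdeal
  have h2 : (IsLocalRing.maximalIdeal (Y.presheaf.stalk y)).spanFinrank ≤ 1 := by
    have h3 : ringKrullDim (Y.presheaf.stalk y) ≤ 1 := Ring.krullDimLE_iff.mp (krullDimLE g y)
    rw [← h1] at h3
    exact_mod_cast h3
  rcases Nat.le_one_iff_eq_zero_or_eq_one.mp h2 with h3 | h3
  · exact absurd (IsLocalRing.isField_iff_maximalIdeal_eq.mpr
      ((Submodule.spanFinrank_eq_zero_iff_eq_bot (IsNoetherian.noetherian _)).mp h3)) hf
  · exact ((Submodule.spanFinrank_eq_one_iff _).mp h3).1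

theorem map_germ_ne_bot (D : Y.IdealSheafData) (hd : _root_.IsDiscrete (D.support : Set Y)) (x : Y) (hx : x ∈ D.support)
    (U : Y.affineOpens) (hxU : x ∈ U.1) : (D.ideal U).map (Y.presheaf.germ U.1 x hxU).hom ≠ ⊥ := by
  classical
  intro hJ
  haveI : Smooth g := SmoothOfRelativeDimension.smooth 1 g
  haveI : IsLocallyNoetherian Y := LocallyOfFiniteType.isLocallyNoetherian g
  haveI : IsNoetherianRing Γ(Y, U.1) := IsLocallyNoetherian.component_noetherian U
  obtain ⟨F, hF⟩ := IsNoetherian.noetherian (D.ideal U)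
  have hW : ∀ a : F, ∃ W : Y.Opens, x ∈ W ∧ ∀ z ∈ W, ∀ hz : z ∈ U.1, (Y.presheaf.germ U.1 z hz).hom a.1 = 0 := fun a => by
    have h0 : (Y.presheaf.germ U.1 x hxU).hom a.1 = (Y.presheaf.germ U.1 x hxU).hom 0 := by
      rw [map_zero]
      exact (Ideal.map_eq_bot_iff_le_ker _).1 hJ (hF.le (Submodule.subset_span a.2))
    obtain ⟨W, hxW, i, j, e⟩ := Y.presheaf.germ_eq x hxU hxU a.1 0 h0
    refine ⟨W, hxW, fun z hz hzU => ?_⟩
    rw [show (Y.presheaf.germ U.1 z hzU).hom a.1 = (Y.presheaf.germ W z hz).hom (Y.presheaf.map i.op a.1) from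
      (TopCat.Presheaf.germ_res_apply _ i z hz a.1).symm, e, map_zero, map_zero]
  choose W hxW hW using hW
  let V : Y.Opens := U.1 ⊓ Finset.univ.inf W
  have hxV : x ∈ V := ⟨hxU, by
    show x ∈ ((Finset.univ.inf W : Y.Opens) : Set Y)
    rw [TopologicalSpace.Opens.coe_finset_inf]
    simp [hxW]⟩
  have hV : (V : Set Y) ⊆ D.support := fun z hz => by
    have hzU : z ∈ U.1 := hz.1
    refine (SDivLib.mem_support_iff_le D U hzU).2 ?_
    rw [← hF]
    refine Submodule.span_le.2 fun a ha => ?_
    by_contra hn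
    have hu : IsUnit ((Y.presheaf.germ U.1 z hzU).hom a) :=
      (Y.mem_basicOpen a z hzU).1 ((AssPointLib.mem_basicOpen_iff U.2 hzU a).2 hn)
    have hzW : z ∈ W ⟨a, ha⟩ := (Finset.inf_le (Finset.mem_univ (⟨a, ha⟩ : F)) : Finset.univ.inf W ≤ W ⟨a, ha⟩) hz.2
    rw [hW ⟨a, ha⟩ z hzW hzU] at hu
    exact not_isUnit_zero hu
  haveI := hd.to_subtype
  obtain ⟨O, hO, hO'⟩ := isOpen_induced_iff.1 (isOpen_discrete ({⟨x, hx⟩} : Set (D.support : Set Y)))
  refine not_isOpen_singleton g x ?_
  have : ({x} : Set Y) = O ∩ V := by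
    ext z
    constructor
    · rintro rfl
      exact ⟨(Set.ext_iff.1 hO' ⟨z, hx⟩).2 rfl, hxV⟩
    · rintro ⟨hzO, hzV⟩
      exact congrArg Subtype.val ((Set.ext_iff.1 hO' ⟨z, hV hzV⟩).1 hzO)
  rw [this]
  exact hO.inter V.isOpen

/-- A quasi-finite closed subscheme of a smooth curve is an effective Cartier divisor. -/
theorem isEffCartier_of_qf (D : Y.IdealSheafData) [LocallyQuasiFinite (D.subschemeι ≫ g)] :
    BlowUp.IsEffCartierIdeal D := by
  haveI : Smooth g := SmoothOfRelativeDimension.smooth 1 g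
  haveI : IsLocallyNoetherian Y := LocallyOfFiniteType.isLocallyNoetherian g
  have hd : _root_.IsDiscrete (D.support : Set Y) := by
    haveI : Subsingleton ↥(Spec (CommRingCat.of k)) := inferInstanceAs (Subsingleton (PrimeSpectrum k))
    rw [← Scheme.IdealSheafData.range_subschemeι, ← Set.image_univ]
    refine IsDiscrete.image ?_ D.subschemeι.isClosedEmbedding.isInducing
    convert (D.subschemeι ≫ g).isDiscrete_preimage (s := (Set.univ : Set ↥(Spec (CommRingCat.of k)))) ?_
    · rfl
    · exact Set.subsingleton_univ.isDiscrete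
  refine EffCartLib.isEffCartier_of_stalk D fun x hx U hxU => ?_
  haveI := isPID_stalk g x
  haveI := isDomain_stalk g x
  obtain ⟨γ, hγ⟩ := (IsPrincipalIdealRing.principal ((D.ideal U).map (Y.presheaf.germ U.1 x hxU).hom)).principal
  refine ⟨γ, mem_nonZeroDivisors_of_ne_zero fun h => map_germ_ne_bot g D hd x hx U hxU ?_, hγ⟩
  rw [hγ, h]
  simp

/-- An effective Cartier divisor on a smooth curve is quasi-finite. -/
theorem qf_of_effCartier (D : Y.IdealSheafData) (hD : BlowUp.IsEffCartierIdeal D) :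
    LocallyQuasiFinite (D.subschemeι ≫ g) := by
  haveI : Smooth g := SmoothOfRelativeDimension.smooth 1 g
  haveI : IsLocallyNoetherian Y := LocallyOfFiniteType.isLocallyNoetherian g
  haveI : IsLocallyNoetherian D.subscheme := LocallyOfFiniteType.isLocallyNoetherian D.subschemeι
  have hnf : ∀ x ∈ D.support, ¬ IsField (Y.presheaf.stalk x) := fun x hx hf => by
    obtain ⟨U, hxU, a, ha, hUa⟩ := hD x
    haveI := isDomain_stalk g x
    letI := Y.presheaf.algebra_section_stalk (⟨x, hxU⟩ : U.1)
    haveI : IsLocalization.AtPrime (Y.presheaf.stalk x) (U.2.primeIdealOf ⟨x, hxU⟩).asIdeal :=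
      U.2.isLocalization_stalk ⟨x, hxU⟩
    have hn := IsLocalization.map_nonZeroDivisors_le (U.2.primeIdealOf ⟨x, hxU⟩).asIdeal.primeCompl
      (Y.presheaf.stalk x) (Submonoid.mem_map_of_mem _ ha)
    have hm := (IsLocalization.AtPrime.to_map_mem_maximal_iff (Y.presheaf.stalk x) (U.2.primeIdealOf ⟨x, hxU⟩).asIdeal a).2
      ((SDivLib.mem_support_iff_le D U hxU).1 hx (hUa ▸ Ideal.mem_span_singleton_self a))
    rw [IsLocalRing.isField_iff_maximalIdeal_eq.1 hf, Ideal.mem_bot] at hm
    exact nonZeroDivisors.ne_zero hn hm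
  have h0 : ∀ z z' : D.subscheme, z ⤳ z' → z = z' := fun z z' h => by
    by_contra hne
    have hne' : D.subschemeι z ≠ D.subschemeι z' := fun e => hne (D.subschemeι.isClosedEmbedding.injective e)
    have hlt := FibDimLib.ringKrullDim_stalk_lt (h.map D.subschemeι.continuous) hne'
    have hle : ringKrullDim (Y.presheaf.stalk (D.subschemeι z')) ≤ 1 := Ring.krullDimLE_iff.mp (krullDimLE g _)
    have hz : D.subschemeι z ∈ D.support := by
      rw [← SetLike.mem_coe, ← Scheme.IdealSheafData.range_subschemeι]; exact ⟨z, rfl⟩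
    haveI := isDomain_stalk g (D.subschemeι z)
    haveI : Ring.KrullDimLE 0 (Y.presheaf.stalk (D.subschemeι z)) := by
      rw [Ring.krullDimLE_iff]
      exact le_of_lt_succ' (n := 0) (by exact_mod_cast hlt.trans_le hle)
    exact hnf _ hz Ring.KrullDimLE.isField_of_isDomain
  have hdim : topologicalKrullDim D.subscheme ≤ 0 := by
    refine FibDimLib.topologicalKrullDim_le_of_points fun z => ?_
    have : closure ({z} : Set D.subscheme) = {z} := by
      refine Set.Subset.antisymm (fun z' hz' => ?_) subset_closure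
      exact (h0 z z' (specializes_iff_mem_closure.2 hz')).symm
    rw [this]
    exact topologicalKrullDim_zero_of_discreteTopology _
  haveI := IsLocallyArtinian.of_topologicalKrullDim_le_zero hdim
  rw [locallyQuasiFinite_iff_isDiscrete_preimage_singleton]
  exact fun _ => (isDiscrete_univ_iff.2 inferInstance).mono (Set.subset_univ _)

end HilbPts.SC

end

noncomputable section

namespace HilbPts.SC

/-- An effective Cartier divisor is of finite presentation. -/
theorem lofp_subschemeι {X : Scheme.{u}} (I : X.IdealSheafData) (hI : BlowUp.IsEffCartierIdeal I) :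
    LocallyOfFinitePresentation I.subschemeι := by
  rw [HasRingHomProperty.iff_exists_appLE (P := @LocallyOfFinitePresentation)
    (RingHom.finitePresentation_stableUnderComposition.stableUnderCompositionWithLocalizationAway
      RingHom.finitePresentation_holdsForLocalizationAway).1]
  intro z
  obtain ⟨U, hzU, a, -, hUa⟩ := hI (I.subschemeι z)
  refine ⟨⟨U.1, U.2⟩, ⟨I.subschemeι ⁻¹ᵁ U.1, U.2.preimage I.subschemeι⟩, hzU, le_rfl, ?_⟩
  rw [← Scheme.Hom.app_eq_appLE]
  refine RingHom.FinitePresentation.of_surjective _ (I.subschemeι_app_surjective U) ?_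
  rw [Scheme.IdealSheafData.ker_subschemeι_app, hUa]
  exact ⟨{a}, by simp⟩

variable {X S : Scheme.{u}} (f : X ⟶ S)

theorem isPullback_fibre (I : X.IdealSheafData) {T : Scheme.{u}} (g : T ⟶ S) :
    IsPullback ((I.comapIso (pullback.fst f g)).hom ≫ pullback.snd (pullback.fst f g) I.subschemeι)
      ((I.comap (pullback.fst f g)).subschemeι ≫ pullback.snd f g) (I.subschemeι ≫ f) g :=
  (isPullback_comap I (pullback.fst f g)).paste_vert (IsPullback.of_hasPullback f g)

variable [SmoothOfRelativeDimension 1 f]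

theorem smooth_fibre (s : S) : SmoothOfRelativeDimension 1 (f.fiberToSpecResidueField s) :=
  haveI := smoothOfRelativeDimension_isStableUnderBaseChange.{u} 1
  MorphismProperty.pullback_snd (P := @SmoothOfRelativeDimension 1) _ _ ‹_›

theorem effCartier_iff (I : X.IdealSheafData) :
    (BlowUp.IsEffCartierIdeal I ∧ Flat (I.subschemeι ≫ f)) ↔
      (LocallyQuasiFinite (I.subschemeι ≫ f) ∧ Flat (I.subschemeι ≫ f) ∧
        LocallyOfFinitePresentation (I.subschemeι ≫ f)) := by
  haveI : Smooth f := SmoothOfRelativeDimension.smooth 1 f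
  constructor
  · rintro ⟨hI, hfl⟩
    haveI := hfl
    haveI := lofp_subschemeι I hI
    refine ⟨?_, hfl, inferInstance⟩
    refine LocallyQuasiFinite.of_fiberToSpecResidueField _ fun s => ?_
    haveI := smooth_fibre f s
    have hc : BlowUp.IsEffCartierIdeal (I.comap (f.fiberι s)) :=
      Groth.Agent.S1662.result f I hI (S.fromSpecResidueField s)
    haveI hq := qf_of_effCartier (f.fiberToSpecResidueField s) _ hc
    let H := isPullback_fibre f I (S.fromSpecResidueField s)
    have e := H.isoPullback_inv_snd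
    show LocallyQuasiFinite (pullback.snd (I.subschemeι ≫ f) (S.fromSpecResidueField s))
    rw [← e]
    exact (MorphismProperty.cancel_left_of_respectsIso @LocallyQuasiFinite _ _).2 hq
  · rintro ⟨hqf, hfl, hfp⟩
    haveI := hfl
    haveI := hfp
    refine ⟨RelQRegLib.isEffCartier_of_fibres f I fun s => ?_, hfl⟩
    haveI := smooth_fibre f s
    haveI : LocallyQuasiFinite ((I.comap (f.fiberι s)).subschemeι ≫ f.fiberToSpecResidueField s) :=
      MorphismProperty.of_isPullback (P := @LocallyQuasiFinite) (isPullback_fibre f I (S.fromSpecResidueField s)) hqf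
    exact isEffCartier_of_qf (f.fiberToSpecResidueField s) _

theorem effCartier_of_finLocFree (I : X.IdealSheafData) (h : Mor2.IsFinLocFree (I.subschemeι ≫ f)) :
    BlowUp.IsEffCartierIdeal I ∧ Flat (I.subschemeι ≫ f) := by
  obtain ⟨h1, h2, h3⟩ := h
  exact (effCartier_iff f I).2 ⟨inferInstance, h2, h3⟩

end HilbPts.SC

end
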