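import Groth.Agent.HilbPtsLib.SymHilb
import Groth.Agent.SymPowLib.Chart
import Groth.Agent.AlgSpRegLib.ImageScheme
import Groth.Agent.S18734
import Mathlib.RingTheory.Flat.TorsionFree
import Mathlib.AlgebraicGeometry.ValuativeCriterion

/-!
# The Hilbert scheme of points of a proper morphism is proper
-/

set_option autoImplicit false
set_option linter.style.haveILetI false
set_option linter.unusedSectionVars false
set_option backward.isDefEq.respectTransparency false
set_option backward.isDefEq.respectTransparency.types false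

universe u

open CategoryTheory CategoryTheory.Limits AlgebraicGeometry TopologicalSpace TensorProduct GrassLib

noncomputable section

namespace HilbPts

section Alg

variable {A B : Type u} [CommRing A] [CommRing B] [Algebra A B] {d : ℕ}

/-- The ring of a chart of an algebra of finite type is of finite type. -/
theorem finiteType_ptsRing [Algebra.FiniteType A B] (x : Fin d → B) : Algebra.FiniteType A (PtsRing A x) := by
  classical
  obtain ⟨G, hG⟩ := ‹Algebra.FiniteType A B›.out
  let u := ptsCoord A x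
  let T : Finset (PtsRing A x) :=
    (Finset.univ.image fun k => u 1 k) ∪ (G ×ˢ (Finset.univ : Finset (Fin d × Fin d))).image fun p => u (x p.2.1 * p.1) p.2.2
  let R₀ : Subalgebra A (PtsRing A x) := Algebra.adjoin A (T : Set (PtsRing A x))
  let C : Submodule A B :=
    { carrier := {b | ∀ k, u b k ∈ R₀}
      zero_mem' := fun k => by rw [map_zero]; exact zero_mem R₀
      add_mem' := fun {a b} ha hb k => by rw [map_add]; exact add_mem (ha k) (hb k)
      smul_mem' := fun c b hb k => by rw [map_smul]; exact Subalgebra.smul_mem R₀ (hb k) c }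
  have hg : ∀ g ∈ G, ∀ i k, u (x i * g) k ∈ R₀ := fun g hg i k => by
    apply Algebra.subset_adjoin
    exact Finset.mem_union_right _ (Finset.mem_image.2 ⟨(g, i, k), Finset.mem_product.2 ⟨hg, Finset.mem_univ _⟩, rfl⟩)
  have h1 : (1 : B) ∈ C := fun k =>
    Algebra.subset_adjoin (Finset.mem_union_left _ (Finset.mem_image.2 ⟨k, Finset.mem_univ _, rfl⟩))
  have hC : ∀ b : B, ∀ c ∈ C, c * b ∈ C := by
    intro b
    have hb : b ∈ Algebra.adjoin A (G : Set B) := by rw [hG]; trivial
    induction hb using Algebra.adjoin_induction with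
    | mem g hgG =>
      intro c hc k
      rw [mult_ptsCoord x c g k]
      exact Subalgebra.sum_mem R₀ fun i _ => mul_mem (hc i) (hg g hgG i k)
    | algebraMap a =>
      intro c hc
      rw [mul_comm, ← Algebra.smul_def]
      exact C.smul_mem a hc
    | add p q _ _ hp hq =>
      intro c hc
      rw [mul_add]
      exact C.add_mem (hp c hc) (hq c hc)
    | mul p q _ _ hp hq =>
      intro c hc
      rw [← mul_assoc]
      exact hq _ (hp c hc)
  have hall : ∀ b k, u b k ∈ R₀ := fun b => by
    have := hC b 1 h1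
    rw [one_mul] at this
    exact this
  let u₀ : B →ₗ[A] (Fin d → R₀) :=
    { toFun := fun b k => ⟨u b k, hall b k⟩
      map_add' := fun a b => funext fun k => Subtype.ext (congrFun (map_add u a b) k)
      map_smul' := fun c b => funext fun k => Subtype.ext (congrFun (map_smul u c b) k) }
  have hn : Normal x u₀ := fun i => funext fun k => Subtype.ext (by
    show u (x i) k = _
    rw [normal_ptsCoord x i]
    by_cases hk : k = i
    · subst hk; simp
    · simp [Pi.single_eq_of_ne hk])
  have hm : Mult x u₀ := fun b b' k => Subtype.ext (by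
    show u (b * b') k = _
    rw [mult_ptsCoord x b b' k, ← Subalgebra.coe_val, map_sum]
    rfl)
  have hid : (R₀.val.comp (ptsLift hn hm)) = AlgHom.id A (PtsRing A x) := by
    refine Ideal.Quotient.algHom_ext A (I := chartRel A x) (chartHom_ext ?_)
    refine LinearMap.ext fun b => funext fun k => ?_
    have := congrFun (LinearMap.congr_fun (mapCoord_ptsLift hn hm) b) k
    exact congrArg Subtype.val this
  refine ⟨⟨T, top_le_iff.1 fun z _ => ?_⟩⟩
  have := AlgHom.congr_fun hid z
  rw [show z = (ptsLift hn hm z : PtsRing A x) from this.symm]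
  exact (ptsLift hn hm z).2

variable {K Q : Type u} [Field K] [CommRing Q] [Algebra K Q] [Module.Finite K Q] {ι : Type*}

/-- Monomials of degree at most the dimension span. -/
theorem span_monomials_eq_top (v : ι → Q) (hv : Algebra.adjoin K (Set.range v) = ⊤) :
    Submodule.span K (Set.range fun F : Fin (Module.finrank K Q) → Option ι => ∏ i, (F i).elim 1 v) = ⊤ := by
  let V : ℕ → Submodule K Q := fun m => Submodule.span K (Set.range fun F : Fin m → Option ι => ∏ i, (F i).elim 1 v)
  have hle : ∀ m, V m ≤ V (m + 1) := fun m => Submodule.span_le.2 (by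
    rintro _ ⟨F, rfl⟩
    exact Submodule.subset_span ⟨Fin.cons none F, by simp [Fin.prod_univ_succ]⟩)
  have hmul : ∀ m j, ∀ q ∈ V m, v j * q ∈ V (m + 1) := fun m j q hq => by
    refine Submodule.span_induction ?_ (by simp) (fun a b _ _ ha hb => by rw [mul_add]; exact add_mem ha hb)
      (fun c a _ ha => by rw [mul_smul_comm]; exact Submodule.smul_mem _ c ha) hq
    rintro _ ⟨F, rfl⟩
    exact Submodule.subset_span ⟨Fin.cons (some j) F, by simp [Fin.prod_univ_succ]⟩
  have h1 : ∀ m, (1 : Q) ∈ V m := fun m => Submodule.subset_span ⟨fun _ => none, by simp⟩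
  have key : ∀ m, V m = ⊤ ∨ m ≤ Module.finrank K (V m) := by
    intro m
    induction m with
    | zero => exact Or.inr (Nat.zero_le _)
    | succ m ih =>
      rcases eq_or_ne (V (m + 1)) ⊤ with h | h
      · exact Or.inl h
      refine Or.inr ?_
      have hne : V m ≠ V (m + 1) := fun he => h (top_le_iff.1 fun q0 _ => by
        have hclo : ∀ q ∈ Algebra.adjoin K (Set.range v), ∀ a ∈ V (m + 1), a * q ∈ V (m + 1) := by
          intro q hq
          induction hq using Algebra.adjoin_induction with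
          | mem g hg =>
            obtain ⟨j, rfl⟩ := hg
            intro a ha
            rw [← he] at ha
            rw [mul_comm]
            exact hmul m j a ha
          | algebraMap c =>
            intro a ha
            rw [mul_comm, ← Algebra.smul_def]
            exact Submodule.smul_mem _ c ha
          | add p r _ _ hp hr => intro a ha; rw [mul_add]; exact add_mem (hp a ha) (hr a ha)
          | mul p r _ _ hp hr => intro a ha; rw [← mul_assoc]; exact hr _ (hp a ha)
        have := hclo q0 (by rw [hv]; trivial) 1 (h1 _)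
        rwa [one_mul] at this)
      have hm := ih.resolve_left fun ht => hne (ht.trans (top_le_iff.1 (ht.ge.trans (hle m))).symm)
      exact lt_of_le_of_lt hm (Submodule.finrank_lt_finrank_of_lt (lt_of_le_of_ne (hle m) hne))
  rcases key (Module.finrank K Q) with h | h
  · exact h
  · exact Submodule.eq_top_of_finrank_eq (le_antisymm (Submodule.finrank_le _) h)

end Alg

variable {X S : Scheme.{u}} {f : X ⟶ S} {d : ℕ}

set_option maxHeartbeats 1000000 in
/-- A point whose support lies in a chart of an algebra of finite type has coordinates among monomials. -/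
theorem exists_inAt_monomial [IsSeparated f] (U : S.affineOpens) (W : {W : X.affineOpens // (W : X.Opens) ≤ f ⁻¹ᵁ U})
    {ι : Type*} (v : ι → (mkCh f U W).B) (hv : Algebra.adjoin (mkCh f U W).A (Set.range v) = ⊤)
    {T : Scheme.{u}} (P : HPt f d T) (t : T) (ht : P.g t ∈ U.1)
    (hW : ∀ z, ((P.map (T.fromSpecResidueField t)).I.subschemeι ≫ pullback.fst f (P.map (T.fromSpecResidueField t)).g) z ∈ W.1.1) :
    ∃ F : Fin d → Fin d → Option ι, InAt (mkCh f U W) (fun l => ∏ i, (F l i).elim 1 v) P t := by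
  classical
  let p := mkCh f U W
  let K : Type u := T.residueField t
  let k : Spec (.of K) ⟶ T := T.fromSpecResidueField t
  have hk : ∀ z, k z = t := fun z => T.fromSpecResidueField_apply t z
  have hr : Set.range (k ≫ P.g) ⊆ Set.range p.iU := by
    rintro _ ⟨z, rfl⟩
    refine U.2.range_fromSpec.ge ?_
    show P.g (k z) ∈ U.1
    rw [hk]
    exact ht
  let b := IsOpenImmersion.lift p.iU (k ≫ P.g) hr
  letI : Algebra p.A K := (Spec.preimage b).hom.toAlgebra
  have hg : (P.map k).g = gR p K := by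
    show k ≫ P.g = Spec.map (Spec.preimage b) ≫ p.iU
    rw [Spec.map_preimage, IsOpenImmersion.lift_fac]
  obtain ⟨I, hI, hP⟩ := exists_comap p (P.map k) hg
  have hs : Supp p I := by
    have : Supp p (P.map k).I := by
      rintro _ ⟨z, rfl⟩
      exact W.1.2.range_fromSpec.ge (hW z)
    rw [hP] at this
    exact this
  obtain ⟨J, hJ⟩ := exists_sid (I.comap (eR p K))
  obtain ⟨f1, f2, f3⟩ := rank_of_supp p hI hs hJ
  let N := toGrass J f3
  have hk' : Module.finrank K ((K ⊗[p.A] p.B) ⧸ J) = d := by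
    have h := f3 ⟨⊥, Ideal.isPrime_bot⟩
    rwa [Module.rankAtStalk_eq_finrank_of_free] at h
  let w : ι → (K ⊗[p.A] p.B) ⧸ J := fun j => Ideal.Quotient.mk J (1 ⊗ₜ[p.A] v j)
  let φ : p.B →ₐ[p.A] (K ⊗[p.A] p.B) ⧸ J := (Ideal.Quotient.mkₐ p.A J).comp Algebra.TensorProduct.includeRight
  have hadj : Algebra.adjoin K (Set.range w) = ⊤ := by
    refine top_le_iff.1 fun q hq => ?_
    clear hq
    obtain ⟨q, rfl⟩ := Ideal.Quotient.mk_surjective q
    induction q using TensorProduct.induction_on with
    | zero => rw [map_zero]; exact zero_mem _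
    | add a c ha hc => rw [map_add]; exact add_mem ha hc
    | tmul c e =>
      rw [show c ⊗ₜ[p.A] e = c • ((1 : K) ⊗ₜ[p.A] e) by rw [TensorProduct.smul_tmul', smul_eq_mul, mul_one],
        ← Ideal.Quotient.mkₐ_eq_mk K, map_smul]
      refine Subalgebra.smul_mem _ ?_ c
      have he : e ∈ Algebra.adjoin p.A (Set.range v) := by rw [hv]; trivial
      have : φ e ∈ (Algebra.adjoin p.A (Set.range v)).map φ := ⟨e, he, rfl⟩
      rw [AlgHom.map_adjoin] at this
      refine (Algebra.adjoin_le ?_ : Algebra.adjoin p.A (φ '' Set.range v) ≤ (Algebra.adjoin K (Set.range w)).restrictScalars p.A) this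
      rintro _ ⟨_, ⟨j, rfl⟩, rfl⟩
      exact Algebra.subset_adjoin ⟨j, rfl⟩
  haveI : Module.Finite K ((K ⊗[p.A] p.B) ⧸ J) := f1
  have hspan0 := span_monomials_eq_top w hadj
  rw [hk'] at hspan0
  let y : (Fin d → Option ι) → p.B := fun F => ∏ i, (F i).elim 1 v
  have hy : ∀ F : Fin d → Option ι, φ (y F) = ∏ i, (F i).elim 1 w := fun F => by
    rw [map_prod]
    refine Finset.prod_congr rfl fun i _ => ?_
    cases F i with
    | none => exact map_one φ
    | some j => rfl
  have hspan : Submodule.span K (Set.range fun F => N.toSubmodule.mkQ (1 ⊗ₜ[p.A] y F)) = ⊤ := by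
    refine Eq.trans ?_ hspan0
    exact congrArg (Submodule.span K) (congrArg Set.range (funext fun F => hy F))
  have hd : Module.finrank K (Submodule.span K (Set.range fun F => N.toSubmodule.mkQ (1 ⊗ₜ[p.A] y F))) = d := by
    rw [hspan, finrank_top]
    exact hk'
  obtain ⟨e, he, he', -⟩ := Submodule.exists_fun_fin_finrank_span_eq K (Set.range fun F => N.toSubmodule.mkQ (1 ⊗ₜ[p.A] y F))
  choose j hj using he
  let x : Fin d → p.B := fun l => y (j (Fin.cast hd.symm l))
  have hx : IsIn x N := by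
    rw [IsIn, ← LinearMap.range_eq_top, psi, Fintype.range_linearCombination, eq_top_iff]
    refine (he'.trans hspan).ge.trans ?_
    refine Submodule.span_mono ?_
    rintro _ ⟨i, rfl⟩
    exact ⟨Fin.cast hd i, by simp [x, hj]⟩
  rw [isIn_toGrass_iff] at hx
  refine ⟨fun l => j (Fin.cast hd.symm l), ?_⟩
  obtain ⟨ψ, hψ⟩ := exists_ptsHom hx
  have key := inAt_of_field p x P (K := K) k (Spec.map (CommRingCat.ofHom ψ.toRingHom))
    ((map_univPt p x ψ).trans ((pt_congr p x hψ _ hx).trans ((eq_pt_of_supp p x hI hs hJ hx).symm.trans hP.symm)))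
  rwa [hk] at key

namespace SC

variable [IsSeparated f]

theorem exists_locIso' (p : Ch f) (x : Fin d → p.B) {H : Over S} {Z : HilbD.Obj f d H}
    (hZ : HilbD.IsUniversal f d H Z) :
    ∃ a : (locOpen p x (⟨H.hom, Z.1, Z.2⟩ : HPt f d H.left)).toScheme ⟶ Spec (.of (PtsRing p.A x)), IsIso a ∧
      (univPt p x).map a = (⟨H.hom, Z.1, Z.2⟩ : HPt f d H.left).map (locOpen p x (⟨H.hom, Z.1, Z.2⟩ : HPt f d H.left)).ι := by
  let ξ : HPt f d H.left := ⟨H.hom, Z.1, Z.2⟩
  let V := locOpen p x ξ
  obtain ⟨a, ha⟩ := exists_ch p x (ξ.map V.ι) fun z => (inAt_map_iff p x V.ι ξ z).2 z.2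
  obtain ⟨b, hb, -⟩ := existsUnique_map' f hZ (univPt p x)
  have hbV : Set.range b ⊆ Set.range V.ι := by
    rw [Scheme.Opens.range_ι]
    rintro _ ⟨z, rfl⟩
    refine (inAt_map_iff p x b ξ z).1 ?_
    rw [hb]
    exact ⟨_, 𝟙 _, inferInstance, 𝟙 _, ⟨z, rfl⟩, rfl⟩
  let b' := IsOpenImmersion.lift V.ι b hbV
  have hb' : b' ≫ V.ι = b := IsOpenImmersion.lift_fac _ _ _
  refine ⟨a, ⟨b', ?_, ?_⟩, ha⟩
  · rw [← cancel_mono V.ι, Category.assoc, hb', Category.id_comp]
    exact (existsUnique_map' f hZ (ξ.map V.ι)).unique (by rw [← HPt.map_map, hb, ha]) rfl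
  · refine ch_ext p x ?_
    rw [← HPt.map_map, ha, HPt.map_map, hb', HPt.map_id]
    exact hb

theorem isAffineOpen_locOpen' {H : Over S} {Z : HilbD.Obj f d H} (hZ : HilbD.IsUniversal f d H Z) (p : Ch f)
    (x : Fin d → p.B) : IsAffineOpen (locOpen p x (⟨H.hom, Z.1, Z.2⟩ : HPt f d H.left)) := by
  obtain ⟨a, ha, -⟩ := exists_locIso' p x hZ
  haveI := ha
  exact IsAffine.of_isIso a

theorem quasiCompact_fb [QuasiCompact f] : ∀ n, QuasiCompact (fb f n)
  | 0 => by
    let v : S ⟶ SymProd.fibPow f 0 := WidePullback.lift (𝟙 S) (fun i => i.elim0) (fun i => i.elim0)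
    haveI : IsIso (fb f 0) := ⟨v, WidePullback.hom_ext _ _ _ (fun i => i.elim0) (by simp [v]), WidePullback.lift_base _ _ _ _⟩
    infer_instance
  | n + 1 => by
    haveI := quasiCompact_fb n
    rw [show fb f (n + 1) = splitAt f 0 ≫ pullback.snd f (fb f n) ≫ fb f n by simp [splitAt]]
    infer_instance

theorem exists_point : ∀ (n : ℕ) (s : S) (x : Fin n → X), (∀ i, f (x i) = s) →
    ∃ z : SymProd.fibPow f n, fb f n z = s ∧ ∀ i, fp f i z = x i
  | 0, s, x, _ => by
    let v : S ⟶ SymProd.fibPow f 0 := WidePullback.lift (𝟙 S) (fun i => i.elim0) (fun i => i.elim0)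
    refine ⟨v s, ?_, fun i => i.elim0⟩
    rw [← Scheme.Hom.comp_apply, show v ≫ fb f 0 = 𝟙 S from WidePullback.lift_base _ _ _ _]
    rfl
  | n + 1, s, x, hx => by
    obtain ⟨z, hz, hzx⟩ := exists_point n s (fun i => x i.succ) fun i => hx _
    obtain ⟨w, hw₁, hw₂⟩ := Scheme.Pullback.exists_preimage_pullback (f := f) (g := fb f n) (x 0) z (by rw [hx, hz])
    obtain ⟨q, rfl⟩ := (splitAt f (0 : Fin (n + 1))).homeomorph.surjective w
    have e1 : fp f (0 : Fin (n + 1)) q = x 0 := by
      rw [← hw₁, show (splitAt f (0 : Fin (n + 1))).homeomorph q = splitAt f 0 q from rfl, ← Scheme.Hom.comp_apply]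
      simp [splitAt]
    have e2 : dropAt f (0 : Fin (n + 1)) q = z := by
      rw [← hw₂, show (splitAt f (0 : Fin (n + 1))).homeomorph q = splitAt f 0 q from rfl, ← Scheme.Hom.comp_apply]
      simp [splitAt]
    refine ⟨q, ?_, Fin.cases e1 fun i => ?_⟩
    · rw [← dropAt_fb f 0, Scheme.Hom.comp_apply, e2, hz]
    · rw [show i.succ = Fin.succAbove 0 i by simp, ← dropAt_fp f 0 i, Scheme.Hom.comp_apply, e2, hzx]
      simp

/-- The Hilbert scheme of points of a morphism of finite type in which finite sets in fibres lie in affines is quasi-compact. -/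
theorem quasiCompact_hom_of_isAF [QuasiCompact f] [LocallyOfFiniteType f] (hAF : SymProd.IsAF f) {H : Over S}
    {Z : HilbD.Obj f d H} (hZ : HilbD.IsUniversal f d H Z) : QuasiCompact H.hom := by
  classical
  refine quasiCompact_iff_forall_isAffineOpen.2 fun U hU => ?_
  haveI := quasiCompact_fb (f := f) d
  have hK : IsCompact ((fb f d ⁻¹ᵁ U : (SymProd.fibPow f d).Opens) : Set (SymProd.fibPow f d)) :=
    (quasiCompact_iff_forall_isAffineOpen.1 inferInstance) U hU
  have hex : ∀ z : (fb f d ⁻¹ᵁ U : (SymProd.fibPow f d).Opens), ∃ W : {W : X.affineOpens // (W : X.Opens) ≤ f ⁻¹ᵁ U},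
      z.1 ∈ SymPowLib.chartOpen f U W.1.1 d := fun z => by
    obtain ⟨W, hW, hWle, hWz⟩ := SymPowLib.exists_affine_nbhd f hAF (z.2 : fb f d z.1 ∈ U) (fun i => fp f i z.1)
      (fun i => by rw [← Scheme.Hom.comp_apply, fp_comp])
    exact ⟨⟨⟨W, hW⟩, hWle⟩, (SymPowLib.mem_chartOpen f d z.1).2 ⟨z.2, hWz⟩⟩
  choose W hW using hex
  obtain ⟨t, ht⟩ := hK.elim_finite_subcover (ι := (fb f d ⁻¹ᵁ U : (SymProd.fibPow f d).Opens))
    (fun z => ((SymPowLib.chartOpen f U (W z).1.1 d : (SymProd.fibPow f d).Opens) : Set (SymProd.fibPow f d)))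
    (fun z => (SymPowLib.chartOpen f U (W z).1.1 d).2) (fun z hz => by
      exact Set.mem_iUnion.2 ⟨⟨z, hz⟩, hW ⟨z, hz⟩⟩)
  have hft : ∀ z, ∃ G : Finset (mkCh f ⟨U, hU⟩ (W z)).B,
      Algebra.adjoin (mkCh f ⟨U, hU⟩ (W z)).A (G : Set (mkCh f ⟨U, hU⟩ (W z)).B) = ⊤ := fun z =>
    (show Algebra.FiniteType (mkCh f ⟨U, hU⟩ (W z)).A (mkCh f ⟨U, hU⟩ (W z)).B from
      (f.finiteType_appLE hU (W z).1.2 (W z).2 : _)).out
  choose G hG using hft
  let P : HPt f d H.left := ⟨H.hom, Z.1, Z.2⟩
  let Idx' := Σ z : ↥t, Fin d → Fin d → Option ↥(G z.1)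
  let O : Idx' → H.left.Opens := fun j =>
    locOpen (mkCh f ⟨U, hU⟩ (W j.1.1)) (fun l => ∏ i, (j.2 l i).elim 1 Subtype.val) P
  have e : ((H.hom ⁻¹ᵁ U : H.left.Opens) : Set H.left) = ⋃ j : Idx', (O j : Set H.left) := by
    ext h
    simp only [Set.mem_iUnion]
    constructor
    · intro hh
      obtain ⟨ep, hep⟩ := exists_fin_surj (K := H.left.residueField h) _ (P.map (H.left.fromSpecResidueField h)).prop
      let φX := (P.map (H.left.fromSpecResidueField h)).I.subschemeι ≫ pullback.fst f (P.map (H.left.fromSpecResidueField h)).g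
      have hfib : ∀ w, f (φX w) = H.hom h := fun w => by
        have e1 : φX ≫ f = ((P.map (H.left.fromSpecResidueField h)).I.subschemeι ≫
            pullback.snd f (P.map (H.left.fromSpecResidueField h)).g ≫ H.left.fromSpecResidueField h) ≫ H.hom := by
          show ((P.map (H.left.fromSpecResidueField h)).I.subschemeι ≫ pullback.fst f (P.map (H.left.fromSpecResidueField h)).g) ≫ f = _
          rw [Category.assoc, pullback.condition]
          simp [P, Category.assoc]
        refine (congrArg (fun g : _ ⟶ S => g w) e1).trans ?_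
        exact congrArg H.hom (H.left.fromSpecResidueField_apply h _)
      obtain ⟨z, hz, hzx⟩ := exists_point d (H.hom h) (fun i => φX (ep i)) fun i => hfib _
      obtain ⟨z₀, hz₀, hzmem⟩ := Set.mem_iUnion₂.1 (ht (show z ∈ (fb f d ⁻¹ᵁ U : (SymProd.fibPow f d).Opens) by
        show fb f d z ∈ U; rw [hz]; exact hh))
      have hWpts : ∀ w, φX w ∈ (W z₀).1.1 := fun w => by
        obtain ⟨i, rfl⟩ := hep w
        rw [← hzx]
        exact ((SymPowLib.mem_chartOpen f d z).1 hzmem).2 i
      obtain ⟨F, hF⟩ := exists_inAt_monomial ⟨U, hU⟩ (W z₀) (fun g : ↥(G z₀) => g.1)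
        (by rw [show (Set.range fun g : ↥(G z₀) => g.1) = ↑(G z₀) from Subtype.range_coe]; exact hG z₀) P h hh hWpts
      exact ⟨⟨⟨z₀, hz₀⟩, F⟩, hF⟩
    · rintro ⟨j, hj⟩
      obtain ⟨a, -, ha⟩ := exists_locIso' (mkCh f ⟨U, hU⟩ (W j.1.1)) (fun l => ∏ i, (j.2 l i).elim 1 Subtype.val) hZ
      have hg := congrArg HPt.g ha
      show H.hom h ∈ U
      rw [show H.hom h = ((O j).ι ≫ H.hom) ⟨h, hj⟩ from rfl, ← show a ≫ _ = (O j).ι ≫ H.hom from hg]
      exact hU.range_fromSpec.le ⟨_, rfl⟩
  rw [e]
  exact isCompact_iUnion fun j => (isAffineOpen_locOpen' hZ _ _).isCompact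

/-- The Hilbert scheme of points of a morphism of finite type is locally of finite type. -/
theorem locallyOfFiniteType_hom [LocallyOfFiniteType f] (hAF : SymProd.IsAF f) {H : Over S} {Z : HilbD.Obj f d H}
    (hZ : HilbD.IsUniversal f d H Z) : LocallyOfFiniteType H.hom := by
  classical
  let P : HPt f d H.left := ⟨H.hom, Z.1, Z.2⟩
  have hcov := fun h : H.left => exists_inAt (f := f) (fun s x hx => by
    obtain ⟨W, hW, hWx⟩ := hAF s (Finset.univ.image x) (fun y hy => by
      obtain ⟨i, -, rfl⟩ := Finset.mem_image.1 hy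
      exact hx i)
    exact ⟨W, hW, fun i => hWx _ (Finset.mem_image_of_mem x (Finset.mem_univ i))⟩) P h
  choose j hj using hcov
  refine IsZariskiLocalAtSource.of_iSup_eq_top (P := @LocallyOfFiniteType)
    (fun h => locOpen (mkCh f (j h).1 (j h).2.1) (j h).2.2 P)
    (eq_top_iff.2 fun h _ => Opens.mem_iSup.2 ⟨h, hj h⟩) fun h => ?_
  let p := mkCh f (j h).1 (j h).2.1
  haveI : Algebra.FiniteType p.A p.B :=
    show @Algebra.FiniteType Γ(S, (j h).1.1) Γ(X, (j h).2.1.1.1) _ _ p.alg from f.finiteType_appLE (j h).1.2 (j h).2.1.1.2 (j h).2.1.2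
  let x : Fin d → p.B := (j h).2.2
  haveI := finiteType_ptsRing (A := p.A) (B := p.B) x
  haveI : LocallyOfFiniteType (Spec.map (CommRingCat.ofHom (algebraMap p.A (PtsRing p.A x)))) :=
    (HasRingHomProperty.Spec_iff (P := @LocallyOfFiniteType)).2 (RingHom.finiteType_algebraMap.2 inferInstance)
  obtain ⟨a, ha, haP⟩ := exists_locIso' p x hZ
  haveI := ha
  have hg : a ≫ gR p (PtsRing p.A x) = (locOpen p x P).ι ≫ H.hom := congrArg HPt.g haP
  show LocallyOfFiniteType ((locOpen p x P).ι ≫ H.hom)
  rw [← hg, gR]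
  infer_instance

end SC

/-- A finite flat scheme over a local ring of rank `d` at one point is finite locally free of degree `d`. -/
theorem isFinLocFreeOfDeg_of_local {R : Type u} [CommRing R] [IsLocalRing R] {W : Scheme.{u}}
    (c : W ⟶ Spec (CommRingCat.of R)) [IsFinite c] [Flat c] {d : ℕ} (η : Spec (CommRingCat.of R))
    (hη : c.finrank η = d) : Mor2.IsFinLocFreeOfDeg d c := by
  haveI : IsAffine W := isAffine_of_isAffineHom c
  obtain ⟨φ, hφ⟩ := Spec.map_surjective (W.isoSpec.inv ≫ c)
  letI : Algebra R Γ(W, ⊤) := φ.hom.toAlgebra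
  have e : Spec.map (CommRingCat.ofHom (algebraMap R Γ(W, ⊤))) = W.isoSpec.inv ≫ c := hφ
  haveI : Module.Finite R Γ(W, ⊤) := RingHom.finite_algebraMap.1 ((IsFinite.SpecMap_iff _).1 (by rw [hφ]; infer_instance))
  haveI : Module.Flat R Γ(W, ⊤) := RingHom.flat_algebraMap_iff.1 (Flat.SpecMap_iff.1 (by rw [hφ]; infer_instance))
  haveI : Module.Free R Γ(W, ⊤) := Module.free_of_flat_of_isLocalRing
  have hd : Module.finrank R Γ(W, ⊤) = d := by
    have h1 := Scheme.Hom.finrank_SpecMap_algebraMap R Γ(W, ⊤) η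
    rw [e, Scheme.Hom.finrank_comp_left_of_isIso, Module.rankAtStalk_eq_finrank_of_free, hη] at h1
    simpa using h1.symm
  have h := isFinLocFreeOfDeg_spec (R := R) (M := Γ(W, ⊤)) (d := d) fun q => by
    rw [Module.rankAtStalk_eq_finrank_of_free]; simpa using hd
  rw [e] at h
  exact isFinLocFreeOfDeg_of_isPullback (a := W.isoSpec.hom) (h := 𝟙 _)
    (IsPullback.of_horiz_isIso ⟨by simp⟩) h

section Val

variable {R K : Type u} [CommRing R] [IsDomain R] [Field K] [Algebra R K] [IsFractionRing R K]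

local notation "gen" => Spec.map (CommRingCat.ofHom (algebraMap R K))

theorem flat_of_dominant_gen_affine [ValuationRing R] {Y W : Scheme.{u}} [IsAffine W] (h : Y ⟶ W)
    [IsSchemeTheoreticallyDominant h] [QuasiCompact h] (c : W ⟶ Spec (CommRingCat.of R))
    (e : Y ⟶ Spec (CommRingCat.of K)) (w : h ≫ c = e ≫ gen) : Flat c := by
  rw [HasRingHomProperty.iff_of_isAffine (P := @Flat)]
  let ι := (Scheme.ΓSpecIso (CommRingCat.of R)).inv
  suffices H : (ι ≫ c.appTop).hom.Flat by
    rw [CommRingCat.hom_comp] at H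
    exact (RingHom.Flat.respectsIso.cancel_left_isIso ι c.appTop).1 H
  algebraize [(ι ≫ c.appTop).hom]
  change Module.Flat R Γ(W, ⊤)
  rw [Module.Flat.flat_iff_torsion_eq_bot_of_isBezout, Submodule.eq_bot_iff]
  rintro x ⟨⟨r, hr⟩, hx⟩
  have hr0 : r ≠ 0 := nonZeroDivisors.ne_zero hr
  change (ι ≫ c.appTop).hom r * x = 0 at hx
  have e1 : ι ≫ c.appTop ≫ h.appTop =
      CommRingCat.ofHom (algebraMap R K) ≫ (Scheme.ΓSpecIso (CommRingCat.of K)).inv ≫ e.appTop := by
    rw [← Scheme.Hom.comp_appTop, w, Scheme.Hom.comp_appTop]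
    simp only [ι, ← Category.assoc, ← Scheme.ΓSpecIso_inv_naturality]
  have hu : IsUnit ((ι ≫ c.appTop ≫ h.appTop).hom r) := by
    rw [e1, CommRingCat.hom_comp, RingHom.comp_apply]
    refine IsUnit.map _ (IsUnit.mk0 _ ?_)
    exact (map_ne_zero_iff _ (IsFractionRing.injective R K)).2 hr0
  have h0 : h.appTop ((ι ≫ c.appTop).hom r * x) = 0 := by rw [hx, map_zero]
  rw [map_mul] at h0
  have h1 : h.appTop x = 0 := hu.mul_right_eq_zero.1 h0
  exact h.app_injective ⊤ (h1.trans (map_zero _).symm)

theorem flat_of_dominant_gen [ValuationRing R] {Y W : Scheme.{u}} (h : Y ⟶ W)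
    [IsSchemeTheoreticallyDominant h] [QuasiCompact h] (c : W ⟶ Spec (CommRingCat.of R))
    (e : Y ⟶ Spec (CommRingCat.of K)) (w : h ≫ c = e ≫ gen) : Flat c := by
  rw [IsZariskiLocalAtSource.iff_of_openCover (P := @Flat) W.affineCover]
  intro j
  exact flat_of_dominant_gen_affine (K := K) (pullback.snd h (W.affineCover.f j)) _
    (pullback.fst h (W.affineCover.f j) ≫ e) (by rw [← pullback.condition_assoc, w, Category.assoc])

end Val

namespace SC

variable [IsProper f]

set_option maxHeartbeats 1000000 in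
/-- The valuative criterion of existence for the Hilbert scheme of points of a proper morphism. -/
theorem existence_of_isProper {H : Over S} {Z : HilbD.Obj f d H} (hZ : HilbD.IsUniversal f d H Z) :
    ValuativeCriterion.Existence H.hom := by
  rintro ⟨R, K, i₁, i₂, ⟨w⟩⟩
  let gen := Spec.map (CommRingCat.ofHom (algebraMap R K))
  haveI : IsPreimmersion gen := IsPreimmersion.of_isLocalization (nonZeroDivisors R)
  haveI : Mono gen := inferInstance
  haveI : Flat gen := by
    rw [HasRingHomProperty.Spec_iff (P := @Flat), CommRingCat.hom_ofHom, RingHom.flat_algebraMap_iff]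
    exact IsLocalization.flat K (nonZeroDivisors R)
  have hgK : gen ≫ i₂ = i₁ ≫ H.hom := w.symm
  let jK := m f gen hgK
  have sq := isPullback_m f gen hgK
  haveI : Mono jK := MorphismProperty.of_isPullback (P := MorphismProperty.monomorphisms Scheme.{u}) sq.flip
    (MorphismProperty.monomorphisms.infer_property _)
  haveI : Flat jK := MorphismProperty.of_isPullback (P := @Flat) sq.flip inferInstance
  haveI : QuasiCompact jK := MorphismProperty.of_isPullback (P := @QuasiCompact) sq.flip inferInstance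
  let IK : (pullback f (i₁ ≫ H.hom)).IdealSheafData := Z.1.comap (m f i₁ rfl)
  have hIK : Mor2.IsFinLocFreeOfDeg d (IK.subschemeι ≫ pullback.snd f (i₁ ≫ H.hom)) :=
    ((⟨H.hom, Z.1, Z.2⟩ : HPt f d H.left).map i₁).prop
  haveI := hIK.1.1
  haveI : QuasiCompact IK.subschemeι := inferInstance
  let g := IK.subschemeι ≫ jK
  let Ibar := g.ker
  let c : Ibar.subscheme ⟶ Spec (CommRingCat.of R) := Ibar.subschemeι ≫ pullback.snd f i₂
  haveI : IsSchemeTheoreticallyDominant g.toImage := AlgSpRegLib.dominant_toImage g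
  haveI : Flat c := by
    refine flat_of_dominant_gen (K := K) g.toImage c (IK.subschemeι ≫ pullback.snd f (i₁ ≫ H.hom)) ?_
    show g.toImage ≫ g.imageι ≫ pullback.snd f i₂ = _
    rw [Scheme.Hom.toImage_imageι_assoc]
    simp [g, jK, gen]
  have hcomap : Ibar.comap jK = IK := by
    have h : IsPullback (𝟙 _) IK.subschemeι (IK.subschemeι ≫ jK) jK := IsPullback.of_horiz_isIso_mono ⟨by simp⟩
    show g.ker.comap jK = IK
    rw [← AlgSpRegLib.ker_eq_comap_of_isPullback h, Scheme.IdealSheafData.ker_subschemeι]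
  have sqc : IsPullback ((Ibar.comapIso jK).hom ≫ pullback.snd jK Ibar.subschemeι)
      ((Ibar.comap jK).subschemeι ≫ pullback.snd f (i₁ ≫ H.hom)) c gen := isPullback_comap_m f gen hgK Ibar
  have hgenfib : Mor2.IsFinLocFreeOfDeg d ((Ibar.comap jK).subschemeι ≫ pullback.snd f (i₁ ≫ H.hom)) := by
    rw [hcomap]; exact hIK
  haveI : IsProper (pullback.snd f i₂) := inferInstance
  haveI : IsProper c := inferInstance
  haveI hfin : IsFinite c := by
    refine Groth.Agent.S18734.result c ?_
    let θ := Spec.map (CommRingCat.ofHom (FractionRing.algEquiv R K).symm.toRingHom)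
    haveI : IsIso (CommRingCat.ofHom (FractionRing.algEquiv R K).symm.toRingHom) :=
      (ConcreteCategory.isIso_iff_bijective _).2 (FractionRing.algEquiv R K).symm.bijective
    have hθ : Spec.map (CommRingCat.ofHom (algebraMap R (FractionRing R))) = θ ≫ gen := by
      rw [← Spec.map_comp, ← CommRingCat.ofHom_comp]
      congr 2
      ext r
      exact ((FractionRing.algEquiv R K).symm.commutes r).symm
    rw [hθ, ← pullbackLeftPullbackSndIso_inv_snd_snd c gen θ]
    haveI : IsFinite (pullback.snd c gen) := by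
      haveI := hgenfib.1.1
      rw [← sqc.isoPullback_inv_snd]
      infer_instance
    infer_instance
  have hdeg : Mor2.IsFinLocFreeOfDeg d c := by
    refine isFinLocFreeOfDeg_of_local c (gen (IsLocalRing.closedPoint K)) ?_
    haveI : Flat c := ‹_›
    rw [← Scheme.Hom.finrank_of_isPullback _ _ c gen sqc (IsLocalRing.closedPoint K)]
    exact hgenfib.2 _
  obtain ⟨l, hl, hlI⟩ := exists_hom f hZ Ibar hdeg
  refine ⟨⟨⟨l, ?_, hl⟩⟩⟩
  refine hom_eq_of_comap_eq f hZ (g := i₁ ≫ H.hom) (gen ≫ l) i₁ (by rw [Category.assoc, hl, hgK]) rfl ?_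
  show Z.1.comap (m f (gen ≫ l) _) = IK
  rw [← m_comp f l hl gen hgK, Scheme.IdealSheafData.comap_comp, hlI]
  exact hcomap

/-- The Hilbert scheme of points of a proper morphism in which finite sets in fibres lie in affines is proper. -/
theorem isProper_hom_of_isAF (hAF : SymProd.IsAF f) {H : Over S} {Z : HilbD.Obj f d H}
    (hZ : HilbD.IsUniversal f d H Z) : IsProper H.hom := by
  haveI := quasiCompact_hom_of_isAF hAF hZ
  haveI := locallyOfFiniteType_hom hAF hZ
  haveI : IsSeparated H.hom := isSeparated_of_isUniversal f d H Z hZ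
  haveI : UniversallyClosed H.hom := UniversallyClosed.of_valuativeCriterion H.hom (existence_of_isProper hZ)
  exact IsProper.mk

end SC

end HilbPts

end
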