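import Groth.Agent.LinSysLib.Amb
import Mathlib.LinearAlgebra.Matrix.Determinant.Basic
import Mathlib.Topology.Sheaves.SheafCondition.UniqueGluing

/-!
# Frames of a finite locally free scheme over opens of the base
-/

set_option autoImplicit false
set_option linter.style.haveILetI false
set_option linter.unusedSectionVars false

universe u

open CategoryTheory AlgebraicGeometry TopologicalSpace Opposite
open LinSysLib (rs rs_rs rs_refl)

noncomputable section

namespace HilbPts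

variable {Z T : Scheme.{u}} {π : Z ⟶ T} {d : ℕ}

theorem app_rs (π : Z ⟶ T) {O O' : T.Opens} (h : O' ≤ O) (r : Γ(T, O)) :
    (π.app O').hom (rs h r) = rs (π.preimage_mono h) ((π.app O).hom r) :=
  congrArg (fun φ : Γ(T, O) ⟶ Γ(Z, π ⁻¹ᵁ O') => φ.hom r) (π.naturality (homOfLE h).op)

/-- The combination of sections by functions of the base. -/
def cmb {V : T.Opens} (e : Fin d → Γ(Z, π ⁻¹ᵁ V)) {O : T.Opens} (h : O ≤ V) (c : Fin d → Γ(T, O)) : Γ(Z, π ⁻¹ᵁ O) :=
  ∑ i, (π.app O).hom (c i) * rs (π.preimage_mono h) (e i)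

/-- Sections forming a basis over every smaller open. -/
def IsFrame {V : T.Opens} (e : Fin d → Γ(Z, π ⁻¹ᵁ V)) : Prop :=
  ∀ (O : T.Opens) (h : O ≤ V), Function.Bijective (cmb e h)

theorem rs_cmb {V : T.Opens} (e : Fin d → Γ(Z, π ⁻¹ᵁ V)) {O O' : T.Opens} (h : O ≤ V) (h' : O' ≤ O)
    (c : Fin d → Γ(T, O)) : rs (π.preimage_mono h') (cmb e h c) = cmb e (h'.trans h) fun i => rs h' (c i) := by
  rw [cmb, cmb, map_sum]
  refine Finset.sum_congr rfl fun i _ => ?_
  rw [map_mul, app_rs, rs_rs]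

theorem cmb_rs {V V' : T.Opens} (e : Fin d → Γ(Z, π ⁻¹ᵁ V)) (hV : V' ≤ V) {O : T.Opens} (h : O ≤ V')
    (c : Fin d → Γ(T, O)) : cmb (fun i => rs (π.preimage_mono hV) (e i)) h c = cmb e (h.trans hV) c := by
  simp only [cmb, rs_rs]

theorem IsFrame.res {V V' : T.Opens} {e : Fin d → Γ(Z, π ⁻¹ᵁ V)} (he : IsFrame e) (hV : V' ≤ V) :
    IsFrame (fun i => rs (π.preimage_mono hV) (e i)) := fun O h => by
  rw [show cmb (fun i => rs (π.preimage_mono hV) (e i)) h = cmb e (h.trans hV) from funext fun c => cmb_rs e hV h c]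
  exact he O _

/-- Being a frame is local. -/
theorem isFrame_of_local {V : T.Opens} (e : Fin d → Γ(Z, π ⁻¹ᵁ V))
    (h : ∀ t ∈ V, ∃ W : T.Opens, t ∈ W ∧ ∀ (O : T.Opens) (_ : IsAffineOpen O) (_ : O ≤ W) (hO : O ≤ V),
      Function.Bijective (cmb e hO)) : IsFrame e := by
  have small : ∀ (O : T.Opens) (_ : O ≤ V) (t : O), ∃ O' : T.Opens, (t : T) ∈ O' ∧ O' ≤ O ∧
      ∀ hO' : O' ≤ V, Function.Bijective (cmb e hO') := fun O hO t => by
    obtain ⟨W, htW, hW⟩ := h t.1 (hO t.2)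
    obtain ⟨O', hO', ht', hle⟩ := exists_isAffineOpen_mem_and_subset (x := t.1) (U := O ⊓ W) ⟨t.2, htW⟩
    have hle' : O' ≤ O ⊓ W := fun y hy => hle hy
    exact ⟨O', ht', hle'.trans inf_le_left, fun hOV => hW O' hO' (hle'.trans inf_le_right) hOV⟩
  have inj : ∀ (O : T.Opens) (hO : O ≤ V), Function.Injective (cmb e hO) := by
    intro O hO c c' hc
    choose O' hm hle hb using small O hO
    funext i
    refine T.sheaf.eq_of_locally_eq' O' O (fun t => homOfLE (hle t)) (fun y hy => Opens.mem_iSup.2 ⟨⟨y, hy⟩, hm _⟩) _ _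
      fun t => ?_
    have := congrArg (rs (π.preimage_mono (hle t))) hc
    rw [rs_cmb, rs_cmb] at this
    exact congrFun ((hb t _).1 this) i
  refine fun O hO => ⟨inj O hO, fun τ => ?_⟩
  choose O' hm hle hb using small O hO
  choose c hc using fun t => (hb t ((hle t).trans hO)).2 (rs (π.preimage_mono (hle t)) τ)
  have hcompat : ∀ i, TopCat.Presheaf.IsCompatible T.sheaf.1 O' fun t => c t i := fun i t t' => by
    have key : (fun i => rs (inf_le_left : O' t ⊓ O' t' ≤ O' t) (c t i)) =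
        fun i => rs (inf_le_right : O' t ⊓ O' t' ≤ O' t') (c t' i) := inj _ (inf_le_left.trans ((hle t).trans hO)) (by
      rw [← rs_cmb e ((hle t).trans hO) inf_le_left, ← rs_cmb e ((hle t').trans hO) inf_le_right, hc, hc, rs_rs, rs_rs])
    exact congrFun key i
  choose g hg hgu using fun i => T.sheaf.existsUnique_gluing' O' O (fun t => homOfLE (hle t))
    (fun y hy => Opens.mem_iSup.2 ⟨⟨y, hy⟩, hm _⟩) _ (hcompat i)
  let g' : Fin d → Γ(T, O) := g
  refine ⟨g', Z.sheaf.eq_of_locally_eq' (fun t => π ⁻¹ᵁ O' t) (π ⁻¹ᵁ O) (fun t => homOfLE (π.preimage_mono (hle t)))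
    (fun z hz => Opens.mem_iSup.2 ⟨⟨π z, hz⟩, hm ⟨π z, hz⟩⟩) _ _ fun t => ?_⟩
  show rs (π.preimage_mono (hle t)) (cmb e hO g') = rs (π.preimage_mono (hle t)) τ
  rw [rs_cmb e hO (hle t), show (fun i => rs (hle t) (g' i)) = c t from funext fun i => hg i t, hc]

variable {V : T.Opens} {e : Fin d → Γ(Z, π ⁻¹ᵁ V)}

/-- The coordinates in a frame. -/
def crd (he : IsFrame e) {O : T.Opens} (h : O ≤ V) (τ : Γ(Z, π ⁻¹ᵁ O)) : Fin d → Γ(T, O) :=
  ((he O h).2 τ).choose

theorem cmb_crd (he : IsFrame e) {O : T.Opens} (h : O ≤ V) (τ : Γ(Z, π ⁻¹ᵁ O)) : cmb e h (crd he h τ) = τ :=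
  ((he O h).2 τ).choose_spec

theorem crd_eq (he : IsFrame e) {O : T.Opens} (h : O ≤ V) {τ : Γ(Z, π ⁻¹ᵁ O)} {c : Fin d → Γ(T, O)}
    (hc : cmb e h c = τ) : crd he h τ = c := (he O h).1 ((cmb_crd he h τ).trans hc.symm)

theorem crd_rs (he : IsFrame e) {O O' : T.Opens} (h : O ≤ V) (h' : O' ≤ O) (τ : Γ(Z, π ⁻¹ᵁ O)) :
    crd he (h'.trans h) (rs (π.preimage_mono h') τ) = fun i => rs h' (crd he h τ i) :=
  crd_eq he _ (by rw [← rs_cmb e h h', cmb_crd])

/-- The matrix of coordinates of `d` sections. -/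
def crdMat (he : IsFrame e) {O : T.Opens} (h : O ≤ V) (τ : Fin d → Γ(Z, π ⁻¹ᵁ O)) : Matrix (Fin d) (Fin d) Γ(T, O) :=
  Matrix.of fun k => crd he h (τ k)

/-- The determinant of coordinates of `d` sections. -/
def crdDet (he : IsFrame e) {O : T.Opens} (h : O ≤ V) (τ : Fin d → Γ(Z, π ⁻¹ᵁ O)) : Γ(T, O) :=
  (crdMat he h τ).det

theorem rs_crdDet (he : IsFrame e) {O O' : T.Opens} (h : O ≤ V) (h' : O' ≤ O) (τ : Fin d → Γ(Z, π ⁻¹ᵁ O)) :
    rs h' (crdDet he h τ) = crdDet he (h'.trans h) fun k => rs (π.preimage_mono h') (τ k) := by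
  rw [crdDet, crdDet, RingHom.map_det]
  congr 1
  refine Matrix.ext fun k i => ?_
  exact (congrFun (crd_rs he h h' (τ k)) i).symm

theorem crdDet_self (he : IsFrame e) {O : T.Opens} (h : O ≤ V) :
    crdDet he h (fun i => rs (π.preimage_mono h) (e i)) = 1 := by
  have : crdMat he h (fun i => rs (π.preimage_mono h) (e i)) = 1 := by
    refine Matrix.ext fun k i => ?_
    show crd he h (rs (π.preimage_mono h) (e k)) i = _
    rw [crd_eq he h (c := Pi.single k 1) ?_]
    · simp [Matrix.one_apply, Pi.single_apply, eq_comm]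
    · rw [cmb, Finset.sum_eq_single k]
      · simp
      · intro j _ hj; simp [Pi.single_eq_of_ne hj]
      · simp
  rw [crdDet, this, Matrix.det_one]

/-- Change of frame. -/
theorem crdMat_trans {V' : T.Opens} {e' : Fin d → Γ(Z, π ⁻¹ᵁ V')} (he : IsFrame e) (he' : IsFrame e') {O : T.Opens}
    (h : O ≤ V) (h' : O ≤ V') (τ : Fin d → Γ(Z, π ⁻¹ᵁ O)) :
    crdMat he h τ = crdMat he' h' τ * crdMat he h (fun i => rs (π.preimage_mono h') (e' i)) := by
  refine Matrix.ext fun k i => ?_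
  show crd he h (τ k) i = _
  rw [crd_eq he h (c := fun i => (crdMat he' h' τ * crdMat he h (fun i => rs (π.preimage_mono h') (e' i))) k i) ?_]
  conv_rhs => rw [← cmb_crd he' h' (τ k), cmb]
  rw [cmb]
  simp only [Matrix.mul_apply, map_sum, map_mul, Finset.sum_mul]
  rw [Finset.sum_comm]
  refine Finset.sum_congr rfl fun j _ => ?_
  show ∑ i, (π.app O).hom (crd he' h' (τ k) j) * (π.app O).hom (crd he h (rs (π.preimage_mono h') (e' j)) i) * rs _ (e i) = _
  conv_rhs => rw [← cmb_crd he h (rs (π.preimage_mono h') (e' j)), cmb, Finset.mul_sum]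
  simp only [mul_assoc]

theorem crdDet_trans {V' : T.Opens} {e' : Fin d → Γ(Z, π ⁻¹ᵁ V')} (he : IsFrame e) (he' : IsFrame e') {O : T.Opens}
    (h : O ≤ V) (h' : O ≤ V') (τ : Fin d → Γ(Z, π ⁻¹ᵁ O)) :
    crdDet he h τ = crdDet he h (fun i => rs (π.preimage_mono h') (e' i)) * crdDet he' h' τ := by
  rw [crdDet, crdMat_trans he he' h h' τ, Matrix.det_mul, mul_comm, crdDet, crdDet]

set_option maxHeartbeats 1000000 in
/-- Sections with invertible determinant in a frame form a frame. -/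
theorem isFrame_of_isUnit (he : IsFrame e) {O : T.Opens} (h : O ≤ V) (τ : Fin d → Γ(Z, π ⁻¹ᵁ O))
    (hu : IsUnit (crdDet he h τ)) : IsFrame τ := by
  intro O' h'
  have hu' : IsUnit (crdMat he (h'.trans h) fun k => rs (π.preimage_mono h') (τ k)) := by
    rw [Matrix.isUnit_iff_isUnit_det]
    have := hu.map (rs h')
    rwa [rs_crdDet] at this
  have key : ∀ c, cmb τ h' c =
      cmb e (h'.trans h) (Matrix.vecMul c (crdMat he (h'.trans h) fun k => rs (π.preimage_mono h') (τ k))) := fun c => by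
    rw [cmb, cmb]
    simp_rw [Matrix.vecMul, dotProduct, map_sum, map_mul, Finset.sum_mul]
    rw [Finset.sum_comm]
    refine Finset.sum_congr rfl fun k _ => ?_
    have e1 := (cmb_crd he (h'.trans h) (rs (π.preimage_mono h') (τ k))).symm
    rw [cmb] at e1
    refine (congrArg ((π.app O').hom (c k) * ·) e1).trans ?_
    rw [Finset.mul_sum]
    exact Finset.sum_congr rfl fun i _ => (mul_assoc _ _ _).symm
  have hb := he O' (h'.trans h)
  obtain ⟨M', hM'⟩ := hu'
  constructor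
  · intro c c' hc
    rw [key, key] at hc
    have h2 := congrArg (fun v => Matrix.vecMul v (↑M'⁻¹ : Matrix (Fin d) (Fin d) Γ(T, O'))) (hb.1 hc)
    simp only [Matrix.vecMul_vecMul, ← hM', Units.mul_inv, Matrix.vecMul_one] at h2
    exact h2
  · intro z
    obtain ⟨w, hw⟩ := hb.2 z
    refine ⟨Matrix.vecMul w (↑M'⁻¹ : Matrix (Fin d) (Fin d) Γ(T, O')), ?_⟩
    rw [key, Matrix.vecMul_vecMul, ← hM', Units.inv_mul, Matrix.vecMul_one, hw]

theorem isUnit_of_isFrame (he : IsFrame e) {O : T.Opens} (h : O ≤ V) {τ : Fin d → Γ(Z, π ⁻¹ᵁ O)} (hτ : IsFrame τ) :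
    IsUnit (crdDet he h τ) := by
  have h1 := crdDet_trans hτ he le_rfl h (fun i => rs (π.preimage_mono le_rfl) (τ i))
  rw [crdDet_self] at h1
  simp only [rs_refl] at h1
  exact IsUnit.of_mul_eq_one_right _ h1.symm

end HilbPts

end
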