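import Groth.Agent.HilbPtsLib.Full
import Groth.Agent.HilbPtsLib.Frame

/-!
# Sections of a family over an affine open of the parameter scheme
-/

set_option autoImplicit false
set_option linter.style.haveILetI false
set_option linter.unusedSectionVars false
set_option backward.isDefEq.respectTransparency false
set_option backward.isDefEq.respectTransparency.types false

universe u

open CategoryTheory CategoryTheory.Limits AlgebraicGeometry TensorProduct GrassLib
open LinSysLib (rs rs_rs rs_refl)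

noncomputable section

namespace HilbPts

variable {X S : Scheme.{u}} {f : X ⟶ S} [IsAffineHom f] {d : ℕ}

theorem exists_iso_of_supp (p : Ch f) {R : Type u} [CommRing R] [Algebra p.A R] {I : (pullback f (gR p R)).IdealSheafData}
    (hs : Supp p I) {J : Ideal (R ⊗[p.A] p.B)} (hJ : sid J = I.comap (eR p R)) :
    ∃ i : Spec (.of ((R ⊗[p.A] p.B) ⧸ J)) ⟶ I.subscheme, IsIso i ∧ i ≫ I.subschemeι = clo p R J := by
  let l := IsOpenImmersion.lift (eR p R) I.subschemeι (range_subschemeι_subset p hs)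
  have hl : l ≫ eR p R = I.subschemeι := IsOpenImmersion.lift_fac _ _ _
  haveI : IsClosedImmersion (l ≫ eR p R) := by rw [hl]; infer_instance
  haveI : IsClosedImmersion l := IsClosedImmersion.of_comp l (eR p R)
  let c : Spec (.of ((R ⊗[p.A] p.B) ⧸ J)) ⟶ Spec (.of (R ⊗[p.A] p.B)) :=
    Spec.map (CommRingCat.ofHom (Ideal.Quotient.mk J))
  haveI : IsClosedImmersion c := IsClosedImmersion.spec_of_surjective _ Ideal.Quotient.mk_surjective
  have hk : c.ker = l.ker := by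
    have h1 := comap_ker_comp l (eR p R)
    rw [hl, Scheme.IdealSheafData.ker_subschemeι] at h1
    exact (show c.ker = sid J from rfl).trans (hJ.trans h1)
  let i := IsClosedImmersion.lift c l hk.le
  let i' := IsClosedImmersion.lift l c hk.ge
  have hi : i ≫ c = l := IsClosedImmersion.lift_fac _ _ _
  have hi' : i' ≫ l = c := IsClosedImmersion.lift_fac _ _ _
  refine ⟨i', ⟨i, by rw [← cancel_mono c, Category.assoc, hi, hi', Category.id_comp],
    by rw [← cancel_mono l, Category.assoc, hi', hi, Category.id_comp]⟩, ?_⟩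
  rw [← hl, ← Category.assoc, hi']
  rfl

theorem appLE_specMap_fromSpec {Y : Scheme.{u}} {U : Y.Opens} (hU : IsAffineOpen U) {D : Type u} [CommRing D]
    (φ : Γ(Y, U) →+* D) {j : Spec (.of D) ⟶ Y} (hj : Spec.map (CommRingCat.ofHom φ) ≫ hU.fromSpec = j)
    (h : ⊤ ≤ j ⁻¹ᵁ U) (r : Γ(Y, U)) : (Scheme.ΓSpecIso (.of D)).hom.hom ((j.appLE U ⊤ h).hom r) = φ r := by
  subst hj
  have h1 : ⊤ ≤ hU.fromSpec ⁻¹ᵁ U := by rw [hU.fromSpec_preimage_self]
  have h2 : (Spec.map (CommRingCat.ofHom φ) ≫ hU.fromSpec).appLE U ⊤ h =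
      hU.fromSpec.appLE U ⊤ h1 ≫ (Spec.map (CommRingCat.ofHom φ)).appTop := by
    rw [Scheme.Hom.appTop, Scheme.Hom.app_eq_appLE, Scheme.Hom.appLE_comp_appLE]
    rfl
  have h3 : hU.fromSpec.appLE U ⊤ h1 = (Scheme.ΓSpecIso Γ(Y, U)).inv := by
    rw [Scheme.Hom.appLE, hU.fromSpec_app_self, Category.assoc, ← Functor.map_comp]
    exact (congrArg ((Scheme.ΓSpecIso Γ(Y, U)).inv ≫ ·) (CategoryTheory.Functor.map_id _ _)).trans (Category.comp_id _)
  rw [h2, h3]
  have h4 := congrArg (fun ψ : Γ(Spec Γ(Y, U), ⊤) ⟶ CommRingCat.of D => ψ.hom ((Scheme.ΓSpecIso Γ(Y, U)).inv.hom r))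
    (Scheme.ΓSpecIso_naturality (CommRingCat.ofHom φ))
  refine h4.trans ?_
  show φ ((Scheme.ΓSpecIso Γ(Y, U)).hom.hom ((Scheme.ΓSpecIso Γ(Y, U)).inv.hom r)) = φ r
  exact congrArg φ (congrArg (fun ψ : Γ(Y, U) ⟶ Γ(Y, U) => ψ.hom r) (Scheme.ΓSpecIso Γ(Y, U)).inv_hom_id)

/-- The total space of a point. -/
abbrev tot {T : Scheme.{u}} (P : HPt f d T) : P.I.subscheme ⟶ T := P.I.subschemeι ≫ pullback.snd f P.g

theorem preimage_le {T : Scheme.{u}} (P : HPt f d T) (U : S.affineOpens) {O : T.Opens} (h : O ≤ P.g ⁻¹ᵁ U.1) :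
    (tot P) ⁻¹ᵁ O ≤ (P.I.subschemeι ≫ pullback.fst f P.g) ⁻¹ᵁ (f ⁻¹ᵁ U.1) := fun z hz => by
  show f ((P.I.subschemeι ≫ pullback.fst f P.g) z) ∈ U.1
  have e : (P.I.subschemeι ≫ pullback.fst f P.g) ≫ f = tot P ≫ P.g := by simp [pullback.condition]
  rw [← Scheme.Hom.comp_apply, e]
  exact h hz

/-- The section of a family given by a function on the source. -/
def sec {T : Scheme.{u}} (P : HPt f d T) (U : S.affineOpens) {O : T.Opens} (h : O ≤ P.g ⁻¹ᵁ U.1)
    (b : (fullCh f U).B) : Γ(P.I.subscheme, (tot P) ⁻¹ᵁ O) :=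
  ((P.I.subschemeι ≫ pullback.fst f P.g).appLE (f ⁻¹ᵁ U.1) ((tot P) ⁻¹ᵁ O) (preimage_le P U h)).hom b

theorem rs_sec {T : Scheme.{u}} (P : HPt f d T) (U : S.affineOpens) {O O' : T.Opens} (h : O ≤ P.g ⁻¹ᵁ U.1)
    (h' : O' ≤ O) (b : (fullCh f U).B) :
    rs ((tot P).preimage_mono h') (sec P U h b) = sec P U (h'.trans h) b :=
  congrArg (fun ψ : Γ(X, f ⁻¹ᵁ U.1) ⟶ Γ(P.I.subscheme, (tot P) ⁻¹ᵁ O') => ψ.hom b)
    ((P.I.subschemeι ≫ pullback.fst f P.g).appLE_map (preimage_le P U h) (homOfLE ((tot P).preimage_mono h')).op)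

set_option maxHeartbeats 1000000 in
/-- Over an affine open of the parameter scheme the family is the spectrum of the quotient of the chart ring. -/
theorem exists_bridge {T : Scheme.{u}} (P : HPt f d T) (U : S.affineOpens) {O : T.Opens} (hO : IsAffineOpen O)
    (h : O ≤ P.g ⁻¹ᵁ U.1) [Algebra (fullCh f U).A Γ(T, O)]
    (halg : ∀ a, algebraMap (fullCh f U).A Γ(T, O) a = (P.g.appLE U.1 O h).hom a) :
    ∃ (I : (pullback f (gR (fullCh f U) Γ(T, O))).IdealSheafData)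
      (hI : Mor2.IsFinLocFreeOfDeg d (I.subschemeι ≫ pullback.snd f (gR (fullCh f U) Γ(T, O))))
      (J : Ideal (Γ(T, O) ⊗[(fullCh f U).A] (fullCh f U).B))
      (ρ : ((Γ(T, O) ⊗[(fullCh f U).A] (fullCh f U).B) ⧸ J) ≃+* Γ(P.I.subscheme, (tot P) ⁻¹ᵁ O)),
      P.map hO.fromSpec = ⟨gR (fullCh f U) Γ(T, O), I, hI⟩ ∧ Supp (fullCh f U) I ∧
      sid J = I.comap (eR (fullCh f U) Γ(T, O)) ∧
      (∀ r : Γ(T, O), ρ (Ideal.Quotient.mk J (r ⊗ₜ 1)) = ((tot P).app O).hom r) ∧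
      (∀ b, ρ (Ideal.Quotient.mk J (1 ⊗ₜ b)) = sec P U h b) := by
  let p := fullCh f U
  let R : Type u := Γ(T, O)
  have hw : hO.fromSpec ≫ P.g = gR p R := by
    rw [← U.2.SpecMap_appLE_fromSpec P.g hO h]
    show _ = Spec.map (CommRingCat.ofHom (algebraMap p.A R)) ≫ U.2.fromSpec
    congr 2
    exact CommRingCat.hom_ext (RingHom.ext fun a => (halg a).symm)
  let I := P.I.comap (m f hO.fromSpec hw)
  have sq := isPullback_comap_m f hO.fromSpec hw P.I
  have hI := isFinLocFreeOfDeg_of_isPullback sq P.prop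
  have hP : P.map hO.fromSpec = ⟨gR p R, I, hI⟩ := by
    refine HPt.ext' hw ?_
    show P.I.comap (m f _ rfl) = (P.I.comap (m f _ hw)).comap (m f (𝟙 _) _)
    rw [← Scheme.IdealSheafData.comap_comp, m_comp]
    congr 2
  have hs : Supp p I := supp_full U (range_gR U R) I
  obtain ⟨J, hJ⟩ := exists_sid (I.comap (eR p R))
  obtain ⟨i, hi, hiι⟩ := exists_iso_of_supp p hs hJ
  let C := (R ⊗[p.A] p.B) ⧸ J
  let q : Spec (.of C) ⟶ P.I.subscheme :=
    i ≫ ((P.I.comapIso (m f hO.fromSpec hw)).hom ≫ pullback.snd (m f hO.fromSpec hw) P.I.subschemeι)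
  have hπ : q ≫ tot P = Spec.map (CommRingCat.ofHom (algebraMap R C)) ≫ hO.fromSpec := by
    rw [← clo_snd, ← hiι]
    show (i ≫ _) ≫ _ = _
    rw [Category.assoc, sq.w]
    simp only [Category.assoc]
    rfl
  have hσ : q ≫ P.I.subschemeι ≫ pullback.fst f P.g =
      Spec.map (CommRingCat.ofHom ((Ideal.Quotient.mk J).comp (incR p R))) ≫ p.iW := by
    rw [CommRingCat.ofHom_comp, Spec.map_comp, Category.assoc]
    refine Eq.trans ?_ (congrArg (Spec.map (CommRingCat.ofHom (Ideal.Quotient.mk J)) ≫ ·) (eR_fst p (R := R)))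
    show _ = Spec.map (CommRingCat.ofHom (Ideal.Quotient.mk J)) ≫ eR p R ≫ pullback.fst f (gR p R)
    rw [← Category.assoc _ (eR p R)]
    show _ = clo p R J ≫ _
    rw [← hiι]
    rw [Category.assoc i]
    rw [← Category.assoc _ P.I.subschemeι, (isPullback_comap P.I (m f hO.fromSpec hw)).w]
    simp only [Category.assoc, m_fst]
    rfl
  haveI : IsIso i := hi
  haveI hq : IsOpenImmersion q :=
    haveI : IsOpenImmersion ((P.I.comapIso (m f hO.fromSpec hw)).hom ≫ pullback.snd (m f hO.fromSpec hw) P.I.subschemeι) :=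
      MorphismProperty.of_isPullback (P := @IsOpenImmersion) sq.flip inferInstance
    inferInstance
  have hrange : q.opensRange = (tot P) ⁻¹ᵁ O := by
    refine TopologicalSpace.Opens.ext (Set.Subset.antisymm ?_ fun z hz => ?_)
    · rintro _ ⟨w, rfl⟩
      show (tot P) (q w) ∈ O
      rw [← Scheme.Hom.comp_apply, hπ]
      exact hO.range_fromSpec.le ⟨_, rfl⟩
    · obtain ⟨y, hy⟩ := hO.range_fromSpec.ge hz
      obtain ⟨w, hw', -⟩ := Scheme.Pullback.exists_preimage_pullback (f := tot P) (g := hO.fromSpec) z y hy.symm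
      refine ⟨(inv i) (sq.isoPullback.inv w), ?_⟩
      have heq : sq.isoPullback.inv ≫ inv i ≫ q = pullback.fst (tot P) hO.fromSpec := by
        show sq.isoPullback.inv ≫ inv i ≫ i ≫ _ = _
        rw [IsIso.inv_hom_id_assoc, sq.isoPullback_inv_fst]
      rw [← hw']
      exact congrArg (fun g : _ ⟶ P.I.subscheme => g w) heq
  have hle : ⊤ ≤ q ⁻¹ᵁ ((tot P) ⁻¹ᵁ O) := fun w _ => hrange.le ⟨w, rfl⟩
  haveI : IsIso (q.appLE ((tot P) ⁻¹ᵁ O) ⊤ hle) := by
    haveI : IsIso (q.app ((tot P) ⁻¹ᵁ O)) := q.isIso_app _ hrange.ge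
    haveI : IsIso (homOfLE hle) := ⟨homOfLE le_top, rfl, rfl⟩
    rw [Scheme.Hom.appLE]
    infer_instance
  let e := asIso (q.appLE ((tot P) ⁻¹ᵁ O) ⊤ hle) ≪≫ Scheme.ΓSpecIso (.of C)
  refine ⟨I, hI, J, e.commRingCatIsoToRingEquiv.symm, hP, hs, hJ, fun r => ?_, fun b => ?_⟩
  all_goals rw [RingEquiv.symm_apply_eq]; symm
  · refine Eq.trans ?_ (appLE_specMap_fromSpec hO (algebraMap R C) hπ.symm
      (fun w _ => hle trivial) r)
    show (Scheme.ΓSpecIso (.of C)).hom.hom ((q.appLE ((tot P) ⁻¹ᵁ O) ⊤ hle).hom (((tot P).app O).hom r)) = _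
    congr 1
  · refine Eq.trans ?_ ((appLE_specMap_fromSpec (U.2.preimage f) ((Ideal.Quotient.mk J).comp (incR p R)) hσ.symm
      (fun w _ => preimage_le P U h (hle trivial)) b).trans rfl)
    show (Scheme.ΓSpecIso (.of C)).hom.hom ((q.appLE ((tot P) ⁻¹ᵁ O) ⊤ hle).hom (sec P U h b)) = _
    congr 1
    rw [sec, ← CommRingCat.comp_apply, Scheme.Hom.appLE_comp_appLE]

/-- The chart locus is where the sections form a frame. -/
theorem bijective_cmb_iff {T : Scheme.{u}} (P : HPt f d T) (U : S.affineOpens) {O : T.Opens} (hO : IsAffineOpen O)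
    (h : O ≤ P.g ⁻¹ᵁ U.1) [IsSeparated f] (x : Fin d → (fullCh f U).B) :
    Function.Bijective (cmb (fun i => sec P U h (x i)) (le_refl O)) ↔ ∀ t ∈ O, InAt (fullCh f U) x P t := by
  let p := fullCh f U
  letI : Algebra p.A Γ(T, O) := (P.g.appLE U.1 O h).hom.toAlgebra
  obtain ⟨I, hI, J, ρ, hP, hs, hJ, hr, hb⟩ := exists_bridge P U hO h (fun _ => rfl)
  have key : ∀ c, ρ (comb p.A x J c) = cmb (fun i => sec P U h (x i)) (le_refl O) c := fun c => by
    rw [comb_apply, map_sum, map_sum, cmb]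
    refine Finset.sum_congr rfl fun i _ => ?_
    rw [show c i ⊗ₜ[p.A] x i = (c i ⊗ₜ[p.A] (1 : p.B)) * ((1 : Γ(T, O)) ⊗ₜ[p.A] x i) by simp, map_mul, map_mul, hr, hb,
      rs_refl]
  rw [show cmb (fun i => sec P U h (x i)) (le_refl O) = ρ ∘ comb p.A x J from funext fun c => (key c).symm,
    Function.Bijective.of_comp_iff' ρ.bijective]
  constructor
  · intro hbij t ht
    obtain ⟨φ, hφ⟩ := exists_ptsHom hbij
    refine ⟨_, hO.fromSpec, inferInstance, Spec.map (CommRingCat.ofHom φ.toRingHom), hO.range_fromSpec.ge ht, ?_⟩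
    exact (map_univPt p x φ).trans ((pt_congr p x hφ _ hbij).trans ((eq_pt_of_supp p x hI hs hJ hbij).symm.trans hP.symm))
  · intro hin
    obtain ⟨a, ha⟩ := exists_ch p x (P.map hO.fromSpec) fun z => inAt_map p x hO.fromSpec (hin _ (hO.range_fromSpec.le ⟨z, rfl⟩))
    obtain ⟨φ, rfl⟩ := exists_hom_of_map_eq p x ((congrArg HPt.g (ha.trans hP)))
    rw [map_univPt, hP] at ha
    rw [ideal_of_eq p x ha.symm hJ]
    exact bijective_comb_pts φ

end HilbPts

end
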