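import Groth.Agent.GrassLib.Chart
import Mathlib.RingTheory.TensorProduct.Maps

/-!
# The chart rings of the Hilbert scheme of points

`A → B` a ring map, `x : Fin d → B`; the chart classifies ideals of `R ⊗[A] B` whose quotient has
the images of `x` as a basis.
-/

set_option autoImplicit false
set_option linter.style.haveILetI false
set_option linter.unusedSectionVars false

universe u

open TensorProduct GrassLib

noncomputable section

namespace HilbPts

variable {A B : Type u} [CommRing A] [CommRing B] [Algebra A B] {d : ℕ}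
variable {R R' : Type u} [CommRing R] [Algebra A R] [CommRing R'] [Algebra A R']

/-- The multiplicativity of coordinates. -/
def Mult (x : Fin d → B) (u : B →ₗ[A] (Fin d → R)) : Prop :=
  ∀ b b' k, u (b * b') k = ∑ i, u b i * u (x i * b') k

variable (A) in
/-- The combination of the images of `x` modulo an ideal. -/
def comb (x : Fin d → B) (J : Ideal (R ⊗[A] B)) : (Fin d → R) →ₗ[R] (R ⊗[A] B) ⧸ J :=
  Fintype.linearCombination R fun i => Ideal.Quotient.mk J ((1 : R) ⊗ₜ[A] x i)

theorem comb_apply (x : Fin d → B) (J : Ideal (R ⊗[A] B)) (c : Fin d → R) :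
    comb A x J c = Ideal.Quotient.mk J (∑ i, c i ⊗ₜ[A] x i) := by
  rw [map_sum, comb, Fintype.linearCombination_apply]
  refine Finset.sum_congr rfl fun i _ => ?_
  show Ideal.Quotient.mk J (c i • ((1 : R) ⊗ₜ[A] x i)) = _
  rw [TensorProduct.smul_tmul', smul_eq_mul, mul_one]

/-- The base change of coordinates. -/
def lift (u : B →ₗ[A] (Fin d → R)) : R ⊗[A] B →ₗ[R] (Fin d → R) := u.liftBaseChange R

theorem lift_tmul (u : B →ₗ[A] (Fin d → R)) (r : R) (b : B) : lift u (r ⊗ₜ b) = r • u b :=
  LinearMap.liftBaseChange_tmul R u r b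

/-- The ideal of coordinates. -/
def coordIdeal (x : Fin d → B) (u : B →ₗ[A] (Fin d → R)) (hu : Mult x u) : Ideal (R ⊗[A] B) where
  carrier := {z | lift u z = 0}
  zero_mem' := map_zero _
  add_mem' {a b} ha hb := by
    simp only [Set.mem_setOf_eq] at ha hb ⊢
    rw [map_add, ha, hb, add_zero]
  smul_mem' c z hz := by
    simp only [Set.mem_setOf_eq, smul_eq_mul] at hz ⊢
    induction c using TensorProduct.induction_on with
    | zero => simp
    | add a b ha hb => rw [add_mul, map_add, ha, hb, add_zero]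
    | tmul r b' =>
      have key : ∀ w : R ⊗[A] B, lift u ((r ⊗ₜ b') * w) = r • fun k => ∑ i, lift u w i * u (x i * b') k := by
        intro w
        induction w using TensorProduct.induction_on with
        | zero => funext k; simp
        | add a b ha hb => rw [mul_add, map_add, ha, hb]; funext k; simp [Finset.sum_add_distrib, add_mul, mul_add]
        | tmul s b =>
          funext k
          rw [Algebra.TensorProduct.tmul_mul_tmul, lift_tmul, lift_tmul]
          simp only [Pi.smul_apply, smul_eq_mul]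
          rw [mul_comm b' b, hu b b' k, mul_assoc, Finset.mul_sum]
          congr 1
          exact Finset.sum_congr rfl fun i _ => by ring
      rw [key z, hz]
      funext k
      simp

theorem mem_coordIdeal {x : Fin d → B} {u : B →ₗ[A] (Fin d → R)} (hu : Mult x u) {z : R ⊗[A] B} :
    z ∈ coordIdeal x u hu ↔ lift u z = 0 := Iff.rfl

theorem lift_sum {x : Fin d → B} {u : B →ₗ[A] (Fin d → R)} (hx : Normal x u) (c : Fin d → R) :
    lift u (∑ i, c i ⊗ₜ[A] x i) = c := by
  rw [map_sum]
  funext k
  simp [lift_tmul, hx _, Pi.single_apply]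

theorem bijective_comb_coordIdeal {x : Fin d → B} {u : B →ₗ[A] (Fin d → R)} (hx : Normal x u) (hu : Mult x u) :
    Function.Bijective (comb A x (coordIdeal x u hu)) := by
  refine ⟨fun c c' h => ?_, fun q => ?_⟩
  · rw [comb_apply, comb_apply, Ideal.Quotient.eq, mem_coordIdeal, map_sub, lift_sum hx, lift_sum hx] at h
    exact sub_eq_zero.1 h
  · obtain ⟨z, rfl⟩ := Ideal.Quotient.mk_surjective q
    refine ⟨lift u z, ?_⟩
    rw [comb_apply, Ideal.Quotient.eq, mem_coordIdeal, map_sub, lift_sum hx, sub_self]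

/-- An ideal with the images of `x` as a basis of its quotient comes from coordinates. -/
theorem exists_coord {x : Fin d → B} {J : Ideal (R ⊗[A] B)} (h : Function.Bijective (comb A x J)) :
    ∃ (u : B →ₗ[A] (Fin d → R)) (_ : Normal x u) (hu : Mult x u), coordIdeal x u hu = J := by
  let e := LinearEquiv.ofBijective (comb A x J) h
  let q : R ⊗[A] B →ₗ[R] (R ⊗[A] B) ⧸ J :=
    { toFun := Ideal.Quotient.mk J
      map_add' := map_add _
      map_smul' := fun _ _ => rfl }
  let U : R ⊗[A] B →ₗ[R] (Fin d → R) := e.symm.toLinearMap ∘ₗ q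
  let u : B →ₗ[A] (Fin d → R) := (U.restrictScalars A) ∘ₗ TensorProduct.mk A R B 1
  have hU : lift u = U := by
    refine TensorProduct.AlgebraTensorModule.ext fun r b => ?_
    rw [lift_tmul]
    show r • U (1 ⊗ₜ b) = _
    rw [← map_smul, TensorProduct.smul_tmul', smul_eq_mul, mul_one]
  have hJ : ∀ z, lift u z = 0 ↔ z ∈ J := fun z => by
    rw [hU, ← Ideal.Quotient.eq_zero_iff_mem]
    show e.symm (Ideal.Quotient.mk J z) = 0 ↔ _
    rw [map_eq_zero_iff _ e.symm.injective]
  have hcl : ∀ b, (1 : R) ⊗ₜ[A] b - ∑ i, u b i ⊗ₜ[A] x i ∈ J := fun b => by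
    rw [← Ideal.Quotient.eq, ← comb_apply]
    exact (e.apply_symm_apply (Ideal.Quotient.mk J ((1 : R) ⊗ₜ[A] b))).symm
  have hx : Normal x u := fun i => by
    refine e.injective ((e.apply_symm_apply _).trans ?_)
    show _ = comb A x J (Pi.single i 1)
    rw [comb, Fintype.linearCombination_apply_single, one_smul]
    rfl
  have hu : Mult x u := fun b b' k => by
    have h1 : (1 : R) ⊗ₜ[A] (b * b') - ∑ i, u b i ⊗ₜ[A] (x i * b') ∈ J := by
      have := J.mul_mem_right ((1 : R) ⊗ₜ[A] b') (hcl b)
      simpa [sub_mul, Finset.sum_mul] using this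
    rw [← hJ, map_sub, sub_eq_zero, lift_tmul, one_smul, map_sum] at h1
    rw [h1]
    simp [lift_tmul]
  exact ⟨u, hx, hu, Ideal.ext hJ⟩

theorem coord_eq {x : Fin d → B} {u u' : B →ₗ[A] (Fin d → R)} (hx' : Normal x u') (hx : Normal x u)
    (hu : Mult x u) (hu' : Mult x u') (h : coordIdeal x u hu = coordIdeal x u' hu') : u = u' := by
  refine LinearMap.ext fun b => ?_
  have h1 : (1 : R) ⊗ₜ[A] b - ∑ i, u b i ⊗ₜ[A] x i ∈ coordIdeal x u hu := by
    rw [mem_coordIdeal, map_sub, lift_sum hx, lift_tmul, one_smul, sub_self]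
  rw [h, mem_coordIdeal, map_sub, lift_sum hx', lift_tmul, one_smul, sub_eq_zero] at h1
  exact h1.symm

variable (B) in
/-- The map of base changes. -/
abbrev tmap (φ : R →ₐ[A] R') : R ⊗[A] B →ₐ[A] R' ⊗[A] B := Algebra.TensorProduct.map φ (AlgHom.id A B)

theorem mult_mapCoord (φ : R →ₐ[A] R') {x : Fin d → B} {u : B →ₗ[A] (Fin d → R)} (hu : Mult x u) :
    Mult x (mapCoord φ u) := fun b b' k => by
  simp only [mapCoord_apply, hu b b' k, map_sum, map_mul]

theorem map_coordIdeal (φ : R →ₐ[A] R') {x : Fin d → B} {u : B →ₗ[A] (Fin d → R)} (hx : Normal x u)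
    (hu : Mult x u) :
    (coordIdeal x u hu).map (tmap B φ) = coordIdeal x (mapCoord φ u) (mult_mapCoord φ hu) := by
  have key : ∀ z : R ⊗[A] B, lift (mapCoord φ u) (tmap B φ z) = fun k => φ (lift u z k) := by
    intro z
    induction z using TensorProduct.induction_on with
    | zero => funext k; simp
    | add a b ha hb => rw [map_add, map_add, ha, hb]; funext k; simp
    | tmul r b => funext k; simp [lift_tmul]
  refine le_antisymm (Ideal.map_le_iff_le_comap.2 fun z hz => ?_) fun z hz => ?_
  · rw [Ideal.mem_comap, mem_coordIdeal, key, (mem_coordIdeal hu).1 hz]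
    funext k; simp
  · have h1 : ∀ w : R' ⊗[A] B, w - ∑ i, lift (mapCoord φ u) w i ⊗ₜ[A] x i ∈ (coordIdeal x u hu).map (tmap B φ) := by
      intro w
      induction w using TensorProduct.induction_on with
      | zero => simp
      | add a b ha hb =>
        convert add_mem ha hb using 1
        simp only [map_add, Pi.add_apply, TensorProduct.add_tmul, Finset.sum_add_distrib]
        abel
      | tmul r b =>
        have hb : (1 : R) ⊗ₜ[A] b - ∑ i, u b i ⊗ₜ[A] x i ∈ coordIdeal x u hu := by
          rw [mem_coordIdeal, map_sub, lift_sum hx, lift_tmul, one_smul, sub_self]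
        have := ((coordIdeal x u hu).map (tmap B φ)).mul_mem_left (r ⊗ₜ[A] (1 : B)) (Ideal.mem_map_of_mem (tmap B φ) hb)
        simpa [mul_sub, Finset.mul_sum, lift_tmul] using this
    have h2 := h1 z
    rwa [(mem_coordIdeal _).1 hz, show (∑ i : Fin d, (0 : Fin d → R') i ⊗ₜ[A] x i) = 0 by simp, sub_zero] at h2

variable (A) in
/-- The relations of the chart. -/
def chartRel (x : Fin d → B) : Ideal (ChartRing A B x) :=
  Ideal.span (Set.range fun p : B × B × Fin d =>
    chartVar (R := A) x (p.1 * p.2.1) p.2.2 - ∑ i, chartVar (R := A) x p.1 i * chartVar (R := A) x (x i * p.2.1) p.2.2)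

variable (A) in
/-- The ring of a chart. -/
def PtsRing (x : Fin d → B) : Type u := ChartRing A B x ⧸ chartRel A x

instance (x : Fin d → B) : CommRing (PtsRing A x) := inferInstanceAs (CommRing (ChartRing A B x ⧸ chartRel A x))

instance (x : Fin d → B) : Algebra A (PtsRing A x) := inferInstanceAs (Algebra A (ChartRing A B x ⧸ chartRel A x))

variable (A) in
/-- The projection to the ring of a chart. -/
def ptsMk (x : Fin d → B) : ChartRing A B x →ₐ[A] PtsRing A x := Ideal.Quotient.mkₐ A (chartRel A x)

variable (A) in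
/-- The universal coordinates. -/
def ptsCoord (x : Fin d → B) : B →ₗ[A] (Fin d → PtsRing A x) := mapCoord (ptsMk A x) (univCoord (R := A) x)

theorem normal_ptsCoord (x : Fin d → B) : Normal x (ptsCoord A x) :=
  normal_mapCoord _ (normal_univCoord x)

theorem mult_ptsCoord (x : Fin d → B) : Mult x (ptsCoord A x) := fun b b' k => by
  show ptsMk A x (chartVar (R := A) x (b * b') k) = ∑ i,
    ptsMk A x (chartVar (R := A) x b i) * ptsMk A x (chartVar (R := A) x (x i * b') k)
  simp only [← map_mul, ← map_sum]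
  rw [← sub_eq_zero, ← map_sub]
  refine Ideal.Quotient.eq_zero_iff_mem.2 (Ideal.subset_span ⟨(b, b', k), ?_⟩)
  simp [map_sum]

variable (A) in
/-- The universal ideal. -/
def univIdeal (x : Fin d → B) : Ideal (PtsRing A x ⊗[A] B) :=
  coordIdeal x (ptsCoord A x) (mult_ptsCoord x)

/-- The homomorphism of given coordinates. -/
def ptsLift {x : Fin d → B} {u : B →ₗ[A] (Fin d → R)} (hx : Normal x u) (hu : Mult x u) : PtsRing A x →ₐ[A] R :=
  Ideal.Quotient.liftₐ (chartRel A x) (chartLift hx) fun a ha => by
    refine (Ideal.span_le (I := RingHom.ker (chartLift hx))).2 ?_ ha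
    rintro _ ⟨⟨b, b', k⟩, rfl⟩
    rw [SetLike.mem_coe, RingHom.mem_ker, map_sub, map_sum, sub_eq_zero]
    simp only [map_mul, chartLift_var]
    exact hu b b' k

theorem mapCoord_ptsLift {x : Fin d → B} {u : B →ₗ[A] (Fin d → R)} (hx : Normal x u) (hu : Mult x u) :
    mapCoord (ptsLift hx hu) (ptsCoord A x) = u :=
  LinearMap.ext fun b => funext fun k => chartLift_var hx b k

theorem exists_ptsHom {x : Fin d → B} {J : Ideal (R ⊗[A] B)} (h : Function.Bijective (comb A x J)) :
    ∃ φ : PtsRing A x →ₐ[A] R, (univIdeal A x).map (tmap B φ) = J := by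
  obtain ⟨u, hx, hu, rfl⟩ := exists_coord h
  refine ⟨ptsLift hx hu, ?_⟩
  rw [univIdeal, map_coordIdeal _ (normal_ptsCoord x)]
  congr 1
  exact mapCoord_ptsLift hx hu

theorem ptsHom_ext {x : Fin d → B} {φ φ' : PtsRing A x →ₐ[A] R}
    (h : (univIdeal A x).map (tmap B φ) = (univIdeal A x).map (tmap B φ')) : φ = φ' := by
  rw [univIdeal, map_coordIdeal _ (normal_ptsCoord x), map_coordIdeal _ (normal_ptsCoord x)] at h
  have h2 := coord_eq (normal_mapCoord _ (normal_ptsCoord x)) (normal_mapCoord _ (normal_ptsCoord x)) _ _ h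
  refine Ideal.Quotient.algHom_ext A (I := chartRel A x) (chartHom_ext ?_)
  exact LinearMap.ext fun b => funext fun k => congrFun (LinearMap.congr_fun h2 b) k

theorem bijective_comb_univIdeal (x : Fin d → B) : Function.Bijective (comb A x (univIdeal A x)) :=
  bijective_comb_coordIdeal (normal_ptsCoord x) (mult_ptsCoord x)

theorem bijective_comb_map (φ : R →ₐ[A] R') {x : Fin d → B} {J : Ideal (R ⊗[A] B)}
    (h : Function.Bijective (comb A x J)) : Function.Bijective (comb A x (J.map (tmap B φ))) := by
  obtain ⟨u, hx, hu, rfl⟩ := exists_coord h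
  rw [map_coordIdeal _ hx]
  exact bijective_comb_coordIdeal (normal_mapCoord φ hx) _

theorem bijective_comb_pts {x : Fin d → B} (φ : PtsRing A x →ₐ[A] R) :
    Function.Bijective (comb A x ((univIdeal A x).map (tmap B φ))) :=
  bijective_comb_map φ (bijective_comb_univIdeal x)

end HilbPts

end
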