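import Mathlib.AlgebraicGeometry.IdealSheaf.Functorial
import Mathlib.AlgebraicGeometry.Morphisms.ClosedImmersion
import Mathlib.AlgebraicGeometry.Pullbacks

/-!
# Ideal sheaves of ideals on affine schemes
-/

set_option autoImplicit false
set_option linter.style.haveILetI false
set_option backward.isDefEq.respectTransparency false
set_option backward.isDefEq.respectTransparency.types false

universe u

open CategoryTheory CategoryTheory.Limits AlgebraicGeometry

noncomputable section

namespace HilbPts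

variable {C C' : Type u} [CommRing C] [CommRing C']

/-- The closed subscheme of `Spec C` of an ideal. -/
def sid (J : Ideal C) : (Spec (.of C)).IdealSheafData :=
  (Spec.map (CommRingCat.ofHom (Ideal.Quotient.mk J))).ker

theorem ideal_ker_specMap (φ : C →+* C') :
    (Spec.map (CommRingCat.ofHom φ)).ker.ideal ⟨⊤, isAffineOpen_top _⟩ =
      (RingHom.ker φ).comap (Scheme.ΓSpecIso (.of C)).hom.hom := by
  rw [Scheme.Hom.ker_apply]
  ext a
  have h := congrArg (fun ψ : Γ(Spec (.of C), ⊤) ⟶ CommRingCat.of C' => ψ.hom a)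
    (Scheme.ΓSpecIso_naturality (CommRingCat.ofHom φ))
  simp only [Ideal.mem_comap, RingHom.mem_ker]
  constructor
  · intro ha
    refine h.symm.trans ?_
    show (Scheme.ΓSpecIso (.of C')).hom.hom ((Spec.map (CommRingCat.ofHom φ)).appTop.hom a) = 0
    exact (congrArg _ ha).trans (map_zero _)
  · intro ha
    refine (ConcreteCategory.bijective_of_isIso (Scheme.ΓSpecIso (.of C')).hom).1 ?_
    exact (h.trans ha).trans (map_zero _).symm

theorem ker_specMap (φ : C →+* C') : (Spec.map (CommRingCat.ofHom φ)).ker = sid (RingHom.ker φ) := by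
  refine Scheme.IdealSheafData.ext_of_isAffine ?_
  rw [sid, ideal_ker_specMap, ideal_ker_specMap, Ideal.mk_ker]

theorem sid_le_sid_iff {J J' : Ideal C} : sid J ≤ sid J' ↔ J ≤ J' := by
  have h : ∀ K : Ideal C, (sid K).ideal ⟨⊤, isAffineOpen_top _⟩ = K.comap (Scheme.ΓSpecIso (.of C)).hom.hom := fun K => by
    rw [sid, ideal_ker_specMap, Ideal.mk_ker]
  refine Iff.trans ⟨fun hle => hle _, Scheme.IdealSheafData.le_of_isAffine⟩ ?_
  rw [h, h]
  exact Ideal.comap_le_comap_iff_of_surjective _ (ConcreteCategory.bijective_of_isIso (Scheme.ΓSpecIso (.of C)).hom).2 _ _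

theorem sid_injective : Function.Injective (sid (C := C)) := fun _ _ h =>
  le_antisymm (sid_le_sid_iff.1 h.le) (sid_le_sid_iff.1 h.ge)

theorem exists_sid (I : (Spec (.of C)).IdealSheafData) : ∃ J : Ideal C, sid J = I := by
  refine ⟨(I.ideal ⟨⊤, isAffineOpen_top _⟩).comap (Scheme.ΓSpecIso (.of C)).inv.hom, ?_⟩
  refine Scheme.IdealSheafData.ext_of_isAffine ?_
  rw [sid, ideal_ker_specMap, Ideal.mk_ker, Ideal.comap_comap]
  have e : (Scheme.ΓSpecIso (.of C)).inv.hom.comp (Scheme.ΓSpecIso (.of C)).hom.hom = RingHom.id _ :=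
    RingHom.ext fun a => congrArg (fun ψ => ψ.hom a) (Scheme.ΓSpecIso (.of C)).hom_inv_id
  rw [e, Ideal.comap_id]

theorem map_sid (ψ : C →+* C') (K : Ideal C') :
    (sid K).map (Spec.map (CommRingCat.ofHom ψ)) = sid (K.comap ψ) := by
  rw [sid, Scheme.IdealSheafData.map_ker, ← Spec.map_comp, ← CommRingCat.ofHom_comp, ker_specMap,
    ← RingHom.comap_ker, Ideal.mk_ker]

theorem comap_sid (ψ : C →+* C') (J : Ideal C) :
    (sid J).comap (Spec.map (CommRingCat.ofHom ψ)) = sid (J.map ψ) := by
  obtain ⟨K, hK⟩ := exists_sid ((sid J).comap (Spec.map (CommRingCat.ofHom ψ)))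
  refine le_antisymm ?_ ?_
  · rw [← Scheme.IdealSheafData.le_map_iff_comap_le, map_sid, sid_le_sid_iff]
    exact Ideal.le_comap_map
  · rw [← hK, sid_le_sid_iff, Ideal.map_le_iff_le_comap, ← sid_le_sid_iff, ← map_sid,
      Scheme.IdealSheafData.le_map_iff_comap_le, hK]

/-- The ideal sheaf of a closed immersion factoring through a monomorphism. -/
theorem comap_ker_comp {Z P Q : Scheme.{u}} (c : Z ⟶ P) (e : P ⟶ Q) [Mono e] [IsClosedImmersion (c ≫ e)] :
    (c ≫ e).ker.comap e = c.ker := by
  have sq : IsPullback c (𝟙 Z) e (c ≫ e) :=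
    ⟨⟨by simp⟩, ⟨PullbackCone.IsLimit.mk _ (fun s => s.snd)
      (fun s => by rw [← cancel_mono e, Category.assoc]; exact s.condition.symm)
      (fun s => Category.comp_id _) (fun s l _ h2 => by simpa using h2)⟩⟩
  rw [← Scheme.IdealSheafData.ker_fst_of_isClosedImmersion, ← sq.isoPullback_inv_fst, Scheme.Hom.ker_comp_of_isIso]

/-- Closed subschemes supported in the image of a monomorphism are pushed forward from it. -/
theorem eq_map_comap {P Q : Scheme.{u}} (I : Q.IdealSheafData) (e : P ⟶ Q) [IsOpenImmersion e]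
    (h : Set.range I.subschemeι ⊆ Set.range e) : (I.comap e).map e = I := by
  have hl : IsOpenImmersion.lift e I.subschemeι h ≫ e = I.subschemeι := IsOpenImmersion.lift_fac _ _ _
  haveI : IsClosedImmersion (IsOpenImmersion.lift e I.subschemeι h ≫ e) := by rw [hl]; infer_instance
  have h1 := comap_ker_comp (IsOpenImmersion.lift e I.subschemeι h) e
  rw [hl, Scheme.IdealSheafData.ker_subschemeι] at h1
  rw [h1, Scheme.IdealSheafData.map_ker, hl, Scheme.IdealSheafData.ker_subschemeι]

end HilbPts

end
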