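import Groth.Agent.HilbPtsLib.Basic
import Groth.Agent.HilbPtsLib.SpecId
import Groth.Agent.HilbPtsLib.ChartAlg
import Mathlib.AlgebraicGeometry.Morphisms.Separated
import Mathlib.AlgebraicGeometry.Morphisms.Proper
import Mathlib.AlgebraicGeometry.PullbackCarrier

/-!
# The points of a chart
-/

set_option autoImplicit false
set_option linter.style.haveILetI false
set_option linter.unusedSectionVars false
set_option backward.isDefEq.respectTransparency false
set_option backward.isDefEq.respectTransparency.types false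

universe u

open CategoryTheory CategoryTheory.Limits AlgebraicGeometry TensorProduct GrassLib

noncomputable section

namespace HilbPts

variable {X S : Scheme.{u}} {f : X ⟶ S}

/-- Affine opens of the source and of the base, compatible with `f`. -/
structure Ch (f : X ⟶ S) where
  /-- the ring of the base -/
  A : Type u
  /-- the ring of the source -/
  B : Type u
  [cA : CommRing A]
  [cB : CommRing B]
  [alg : Algebra A B]
  /-- the open of the base -/
  iU : Spec (.of A) ⟶ S
  [hiU : IsOpenImmersion iU]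
  /-- the open of the source -/
  iW : Spec (.of B) ⟶ X
  [hiW : IsOpenImmersion iW]
  fac : iW ≫ f = Spec.map (CommRingCat.ofHom (algebraMap A B)) ≫ iU

attribute [instance] Ch.cA Ch.cB Ch.alg Ch.hiU Ch.hiW

variable (p : Ch f) {R R' : Type u} [CommRing R] [Algebra p.A R] [CommRing R'] [Algebra p.A R']

variable (R) in
/-- The structure map of an affine scheme over the chart. -/
def gR : Spec (.of R) ⟶ S := Spec.map (CommRingCat.ofHom (algebraMap p.A R)) ≫ p.iU

variable (R) in
/-- The inclusion of the ring of the source. -/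
abbrev incR : p.B →+* R ⊗[p.A] p.B := (Algebra.TensorProduct.includeRight (R := p.A) (A := R) (B := p.B)).toRingHom

variable (R) in
/-- The affine open of the base change cut out by the chart. -/
def eR : Spec (.of (R ⊗[p.A] p.B)) ⟶ pullback f (gR p R) :=
  pullback.lift (Spec.map (CommRingCat.ofHom (incR p R)) ≫ p.iW)
    (Spec.map (CommRingCat.ofHom Algebra.TensorProduct.includeLeftRingHom)) (by
      rw [Category.assoc, p.fac, gR, ← Spec.map_comp_assoc, ← Spec.map_comp_assoc, ← CommRingCat.ofHom_comp,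
        ← CommRingCat.ofHom_comp]
      congr 3
      ext a
      exact ((Algebra.TensorProduct.includeRight (R := p.A) (A := R) (B := p.B)).commutes a).trans
        ((Algebra.TensorProduct.includeLeft (R := p.A) (S := p.A) (A := R) (B := p.B)).commutes a).symm)

theorem eR_fst : eR p R ≫ pullback.fst f (gR p R) =
    Spec.map (CommRingCat.ofHom (incR p R)) ≫ p.iW :=
  pullback.lift_fst _ _ _

theorem eR_snd : eR p R ≫ pullback.snd f (gR p R) =
    Spec.map (CommRingCat.ofHom Algebra.TensorProduct.includeLeftRingHom) := pullback.lift_snd _ _ _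

theorem eR_eq : ∃ e : Spec (.of (R ⊗[p.A] p.B)) ⟶
      pullback (Spec.map (CommRingCat.ofHom (algebraMap p.A R))) (Spec.map (CommRingCat.ofHom (algebraMap p.A p.B))),
    IsIso e ∧ eR p R = e ≫ pullback.map _ _ (gR p R) f (𝟙 _) p.iW p.iU (by simp [gR]) p.fac.symm ≫
      (pullbackSymmetry (gR p R) f).hom := by
  refine ⟨(pullbackSpecIso p.A R p.B).inv, inferInstance, pullback.hom_ext ?_ ?_⟩
  · rw [eR_fst]
    simp only [Category.assoc, pullbackSymmetry_hom_comp_fst, pullback.lift_snd]
    rw [← Category.assoc, pullbackSpecIso_inv_snd]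
    rfl
  · rw [eR_snd]
    simp only [Category.assoc, pullbackSymmetry_hom_comp_snd, pullback.lift_fst, Category.comp_id]
    rw [pullbackSpecIso_inv_fst]

instance isOpenImmersion_eR : IsOpenImmersion (eR p R) := by
  obtain ⟨e, he, h⟩ := eR_eq p (R := R)
  rw [h]
  infer_instance

theorem range_eR : Set.range (eR p R) = pullback.fst f (gR p R) ⁻¹' Set.range p.iW := by
  refine Set.Subset.antisymm ?_ fun z hz => ?_
  · rintro _ ⟨c, rfl⟩
    refine ⟨Spec.map (CommRingCat.ofHom (incR p R)) c, ?_⟩
    rw [← Scheme.Hom.comp_apply, ← Scheme.Hom.comp_apply, eR_fst]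
  · obtain ⟨e, he, h⟩ := eR_eq p (R := R)
    obtain ⟨w, hw⟩ : (pullbackSymmetry (gR p R) f).inv z ∈ Set.range (pullback.map _ _ (gR p R) f (𝟙 _) p.iW p.iU
        (by simp [gR] : Spec.map (CommRingCat.ofHom (algebraMap p.A R)) ≫ p.iU = 𝟙 _ ≫ gR p R) p.fac.symm) := by
      rw [Scheme.Pullback.range_map]
      refine ⟨⟨_, rfl⟩, ?_⟩
      simp only [Set.mem_preimage, ← Scheme.Hom.comp_apply, pullbackSymmetry_inv_comp_snd]
      exact hz
    refine ⟨(inv e) w, ?_⟩
    rw [← Scheme.Hom.comp_apply, h, IsIso.inv_hom_id_assoc, Scheme.Hom.comp_apply, hw, ← Scheme.Hom.comp_apply,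
      Iso.inv_hom_id]
    rfl

theorem gR_map (φ : R →ₐ[p.A] R') : Spec.map (CommRingCat.ofHom φ.toRingHom) ≫ gR p R = gR p R' := by
  rw [gR, gR, ← Spec.map_comp_assoc, ← CommRingCat.ofHom_comp]
  congr 3
  exact RingHom.ext fun a => φ.commutes a

theorem eR_nat (φ : R →ₐ[p.A] R') :
    Spec.map (CommRingCat.ofHom (tmap p.B φ).toRingHom) ≫ eR p R =
      eR p R' ≫ m f (Spec.map (CommRingCat.ofHom φ.toRingHom)) (gR_map p φ) := by
  refine pullback.hom_ext ?_ ?_
  · rw [Category.assoc, Category.assoc, m_fst, eR_fst, eR_fst, ← Spec.map_comp_assoc, ← CommRingCat.ofHom_comp]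
    congr 3
    ext b
    simp
  · rw [Category.assoc, Category.assoc, m_snd, eR_snd, ← Category.assoc, eR_snd, ← Spec.map_comp, ← Spec.map_comp,
      ← CommRingCat.ofHom_comp, ← CommRingCat.ofHom_comp]
    congr 2

/-- The points of a closed subscheme lie over an open of the source. -/
def Supp {T : Scheme.{u}} {g : T ⟶ S} (I : (pullback f g).IdealSheafData) : Prop :=
  Set.range (I.subschemeι ≫ pullback.fst f g) ⊆ Set.range p.iW

theorem supp_comap {T T' : Scheme.{u}} {g : T ⟶ S} {g' : T' ⟶ S} (h : T' ⟶ T) (w : h ≫ g = g')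
    {I : (pullback f g).IdealSheafData} (hI : Supp p I) : Supp p (I.comap (m f h w)) := by
  rintro _ ⟨z, rfl⟩
  have e := (isPullback_comap I (m f h w)).w
  refine hI ⟨((I.comapIso (m f h w)).hom ≫ pullback.snd (m f h w) I.subschemeι) z, ?_⟩
  rw [← Scheme.Hom.comp_apply]
  congr 1
  rw [← Category.assoc, e, Category.assoc, m_fst]

theorem range_subschemeι_subset {I : (pullback f (gR p R)).IdealSheafData} (hI : Supp p I) :
    Set.range I.subschemeι ⊆ Set.range (eR p R) := by
  rw [range_eR]
  rintro _ ⟨z, rfl⟩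
  exact hI ⟨z, Scheme.Hom.comp_apply _ _ _⟩

theorem eq_map_of_supp {I : (pullback f (gR p R)).IdealSheafData} (hI : Supp p I) {J : Ideal (R ⊗[p.A] p.B)}
    (hJ : sid J = I.comap (eR p R)) : I = (sid J).map (eR p R) := by
  rw [hJ, eq_map_comap I (eR p R) (range_subschemeι_subset p hI)]

variable {d : ℕ} (x : Fin d → p.B) [IsSeparated f]

variable (R) in
/-- The closed subscheme of an ideal. -/
def clo (J : Ideal (R ⊗[p.A] p.B)) : Spec (.of ((R ⊗[p.A] p.B) ⧸ J)) ⟶ pullback f (gR p R) :=
  Spec.map (CommRingCat.ofHom (Ideal.Quotient.mk J)) ≫ eR p R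

theorem ker_clo (J : Ideal (R ⊗[p.A] p.B)) : (clo p R J).ker = (sid J).map (eR p R) :=
  (Scheme.IdealSheafData.map_ker _ _).symm

theorem clo_snd (J : Ideal (R ⊗[p.A] p.B)) : clo p R J ≫ pullback.snd f (gR p R) =
    Spec.map (CommRingCat.ofHom (algebraMap R ((R ⊗[p.A] p.B) ⧸ J))) := by
  rw [clo, Category.assoc, eR_snd, ← Spec.map_comp, ← CommRingCat.ofHom_comp]
  rfl

theorem isClosedImmersion_clo (J : Ideal (R ⊗[p.A] p.B)) [Module.Finite R ((R ⊗[p.A] p.B) ⧸ J)] :
    IsClosedImmersion (clo p R J) := by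
  haveI : IsClosedImmersion (Spec.map (CommRingCat.ofHom (Ideal.Quotient.mk J))) :=
    IsClosedImmersion.spec_of_surjective _ Ideal.Quotient.mk_surjective
  haveI : IsPreimmersion (clo p R J) := by rw [clo]; infer_instance
  haveI : IsFinite (clo p R J ≫ pullback.snd f (gR p R)) := by
    rw [clo_snd, IsFinite.SpecMap_iff]
    exact RingHom.finite_algebraMap.2 inferInstance
  haveI : UniversallyClosed (clo p R J) :=
    UniversallyClosed.of_comp_of_isSeparated (clo p R J) (pullback.snd f (gR p R))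
  exact IsClosedImmersion.of_isPreimmersion _ (clo p R J).isClosedMap.isClosed_range

theorem finite_quot {J : Ideal (R ⊗[p.A] p.B)} (h : Function.Bijective (comb p.A x J)) :
    Module.Finite R ((R ⊗[p.A] p.B) ⧸ J) := Module.Finite.of_surjective _ h.2

theorem isFinLocFreeOfDeg_spec {R M : Type u} [CommRing R] [CommRing M] [Algebra R M] {d : ℕ}
    [Module.Finite R M] [Module.Projective R M] (h : ∀ q, Module.rankAtStalk (R := R) M q = d) :
    Mor2.IsFinLocFreeOfDeg d (Spec.map (CommRingCat.ofHom (algebraMap R M))) := by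
  refine ⟨⟨(IsFinite.SpecMap_iff _).2 (RingHom.finite_algebraMap.2 inferInstance),
    Flat.SpecMap_iff.2 (RingHom.flat_algebraMap_iff.2 inferInstance), ?_⟩, fun q => ?_⟩
  · haveI : Module.FinitePresentation R M := Module.finitePresentation_of_projective R M
    haveI : Algebra.FinitePresentation R M := inferInstance
    rw [HasRingHomProperty.Spec_iff (P := @LocallyOfFinitePresentation)]
    exact RingHom.finitePresentation_algebraMap.2 inferInstance
  · rw [Scheme.Hom.finrank_SpecMap_algebraMap]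
    exact h q

theorem prop_clo {J : Ideal (R ⊗[p.A] p.B)} (h : Function.Bijective (comb p.A x J)) :
    Mor2.IsFinLocFreeOfDeg d ((clo p R J).ker.subschemeι ≫ pullback.snd f (gR p R)) := by
  let e := LinearEquiv.ofBijective (comb p.A x J) h
  haveI := finite_quot p x h
  haveI : Module.Free R ((R ⊗[p.A] p.B) ⧸ J) := Module.Free.of_equiv e
  haveI := isClosedImmersion_clo p J
  have hd : ∀ q, Module.rankAtStalk (R := R) ((R ⊗[p.A] p.B) ⧸ J) q = d := fun q => by
    haveI : Nontrivial R := ⟨⟨0, 1, fun h => q.isPrime.one_notMem (h ▸ zero_mem _)⟩⟩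
    rw [Module.rankAtStalk_eq_finrank_of_free]
    simp [← e.finrank_eq]
  have hπ : (clo p R J).toImage ≫ (clo p R J).ker.subschemeι ≫ pullback.snd f (gR p R) =
      Spec.map (CommRingCat.ofHom (algebraMap R ((R ⊗[p.A] p.B) ⧸ J))) := by
    rw [← clo_snd]
    exact (Category.assoc _ _ _).symm.trans (congrArg (· ≫ _) (clo p R J).toImage_imageι)
  have key := isFinLocFreeOfDeg_spec hd
  rw [← hπ] at key
  exact isFinLocFreeOfDeg_of_isPullback (a := inv (clo p R J).toImage) (h := 𝟙 _)
    (IsPullback.of_horiz_isIso ⟨by simp⟩) key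

/-- The point of an ideal with basis `x` modulo it. -/
def pt (J : Ideal (R ⊗[p.A] p.B)) (h : Function.Bijective (comb p.A x J)) : HPt f d (Spec (.of R)) :=
  ⟨gR p R, (clo p R J).ker, prop_clo p x h⟩

theorem comap_pt (J : Ideal (R ⊗[p.A] p.B)) (h : Function.Bijective (comb p.A x J)) :
    (pt p x J h).I.comap (eR p R) = sid J := by
  haveI := finite_quot p x h
  haveI := isClosedImmersion_clo p J
  haveI : IsClosedImmersion (Spec.map (CommRingCat.ofHom (Ideal.Quotient.mk J)) ≫ eR p R) :=
    isClosedImmersion_clo p J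
  exact comap_ker_comp (Spec.map (CommRingCat.ofHom (Ideal.Quotient.mk J))) (eR p R)

theorem supp_pt (J : Ideal (R ⊗[p.A] p.B)) (h : Function.Bijective (comb p.A x J)) : Supp p (pt p x J h).I := by
  haveI := finite_quot p x h
  haveI := isClosedImmersion_clo p J
  rintro _ ⟨z, rfl⟩
  have hz : (clo p R J).ker.subschemeι z ∈ Set.range (clo p R J) := by
    have : (clo p R J).ker.subschemeι z ∈ ((clo p R J).ker.support : Set _) := by
      rw [← Scheme.IdealSheafData.range_subschemeι]; exact ⟨z, rfl⟩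
    rwa [Scheme.Hom.support_ker, (clo p R J).isClosedMap.isClosed_range.closure_eq] at this
  obtain ⟨w, hw⟩ := hz
  refine ⟨Spec.map (CommRingCat.ofHom (incR p R))
    (Spec.map (CommRingCat.ofHom (Ideal.Quotient.mk J)) w), ?_⟩
  show _ = pullback.fst f (gR p R) ((clo p R J).ker.subschemeι z)
  rw [← hw, ← Scheme.Hom.comp_apply _ p.iW, ← eR_fst]
  rfl

theorem pt_congr {J J' : Ideal (R ⊗[p.A] p.B)} (e : J = J') (h : Function.Bijective (comb p.A x J))
    (h' : Function.Bijective (comb p.A x J')) : pt p x J h = pt p x J' h' := by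
  subst e; rfl

theorem map_pt (φ : R →ₐ[p.A] R') (J : Ideal (R ⊗[p.A] p.B)) (h : Function.Bijective (comb p.A x J)) :
    (pt p x J h).map (Spec.map (CommRingCat.ofHom φ.toRingHom)) =
      pt p x (J.map (tmap p.B φ)) (bijective_comb_map φ h) := by
  refine (HPt.ext' (gR_map p φ).symm ?_).symm
  show (clo p R' _).ker = ((pt p x J h).I.comap (m f _ rfl)).comap (m f (𝟙 _) _)
  rw [← Scheme.IdealSheafData.comap_comp, m_comp]
  have w : Spec.map (CommRingCat.ofHom φ.toRingHom) ≫ gR p R = gR p R' := gR_map p φ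
  have hm : m f (𝟙 (Spec (.of R')) ≫ Spec.map (CommRingCat.ofHom φ.toRingHom))
      (by rw [Category.id_comp]; exact w) = m f (Spec.map (CommRingCat.ofHom φ.toRingHom)) w := by
    congr 1
  refine Eq.trans ?_ (congrArg ((pt p x J h).I.comap ·) hm.symm)
  rw [ker_clo]
  refine (eq_map_of_supp p (supp_comap p _ w (supp_pt p x J h)) ?_).symm
  rw [← Scheme.IdealSheafData.comap_comp, ← eR_nat, Scheme.IdealSheafData.comap_comp, comap_pt, comap_sid]
  rfl

theorem pt_injective {J J' : Ideal (R ⊗[p.A] p.B)} {h : Function.Bijective (comb p.A x J)}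
    {h' : Function.Bijective (comb p.A x J')} (e : pt p x J h = pt p x J' h') : J = J' := by
  refine sid_injective ?_
  have h1 := HPt.I_eq e (Category.id_comp _)
  have h2 : m f (𝟙 (Spec (.of R))) (Category.id_comp (pt p x J' h').g) = 𝟙 _ := m_id f _
  have h3 : (pt p x J h).I = (pt p x J' h').I :=
    h1.trans ((congrArg ((pt p x J' h').I.comap ·) h2).trans (Scheme.IdealSheafData.comap_id _))
  exact (comap_pt p x J h).symm.trans ((congrArg (·.comap (eR p R)) h3).trans (comap_pt p x J' h'))

/-- The universal point of a chart. -/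
def univPt : HPt f d (Spec (.of (PtsRing p.A x))) := pt p x (univIdeal p.A x) (bijective_comb_univIdeal x)

theorem map_univPt (φ : PtsRing p.A x →ₐ[p.A] R) :
    (univPt p x).map (Spec.map (CommRingCat.ofHom φ.toRingHom)) =
      pt p x ((univIdeal p.A x).map (tmap p.B φ)) (bijective_comb_pts φ) := map_pt p x φ _ _

theorem gR_injective {R : Type u} [CommRing R] (φ ψ : p.A →+* R)
    (h : Spec.map (CommRingCat.ofHom φ) ≫ p.iU = Spec.map (CommRingCat.ofHom ψ) ≫ p.iU) : φ = ψ :=
  congrArg CommRingCat.Hom.hom (Spec.map_injective ((cancel_mono p.iU).1 h))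

theorem exists_hom_of_map_eq {a : Spec (.of R) ⟶ Spec (.of (PtsRing p.A x))}
    (h : ((univPt p x).map a).g = gR p R) :
    ∃ φ : PtsRing p.A x →ₐ[p.A] R, a = Spec.map (CommRingCat.ofHom φ.toRingHom) := by
  obtain ⟨ψ, rfl⟩ := Spec.map_surjective a
  have h2 : ψ.hom.comp (algebraMap p.A (PtsRing p.A x)) = algebraMap p.A R := gR_injective p _ _ (by
    rw [CommRingCat.ofHom_comp, Spec.map_comp, Category.assoc]
    exact h)
  exact ⟨{ ψ.hom with commutes' := fun c => RingHom.congr_fun h2 c }, rfl⟩

theorem ext_affine {R : Type u} [CommRing R] {a a' : Spec (.of R) ⟶ Spec (.of (PtsRing p.A x))}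
    (h : (univPt p x).map a = (univPt p x).map a') : a = a' := by
  letI : Algebra p.A R := ((Spec.preimage a).hom.comp (algebraMap p.A (PtsRing p.A x))).toAlgebra
  have hg : ((univPt p x).map a).g = gR p R := by
    show a ≫ gR p _ = _
    rw [gR, gR, ← Category.assoc]
    congr 1
    conv_lhs => rw [← Spec.map_preimage a]
    rw [← Spec.map_comp]
    rfl
  obtain ⟨φ, hφ⟩ := exists_hom_of_map_eq p x hg
  obtain ⟨φ', hφ'⟩ := exists_hom_of_map_eq p x ((congrArg HPt.g h).symm.trans hg)
  rw [hφ, hφ'] at h ⊢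
  rw [map_univPt, map_univPt] at h
  congr 2
  exact congrArg AlgHom.toRingHom (ptsHom_ext (pt_injective p x h))

theorem ch_ext {Z : Scheme.{u}} {a a' : Z ⟶ Spec (.of (PtsRing p.A x))}
    (h : (univPt p x).map a = (univPt p x).map a') : a = a' :=
  Z.affineCover.hom_ext _ _ fun i => ext_affine p x (by rw [← HPt.map_map, h, HPt.map_map])

end HilbPts

end
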