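import Groth.Agent.HilbPtsLib.ChartAlg
import Mathlib.FieldTheory.IsAlgClosed.Basic
import Mathlib.RingTheory.Artinian.Ring
import Mathlib.LinearAlgebra.Dimension.RankNullity
import Mathlib.LinearAlgebra.Basis.VectorSpace
import Mathlib.Algebra.Polynomial.AlgebraMap

/-!
# Ideals of neighbouring colengths and pencils between them
-/

set_option autoImplicit false
set_option linter.style.haveILetI false
set_option linter.unusedSectionVars false

universe u

open TensorProduct GrassLib Polynomial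

noncomputable section

namespace HilbPts.ConnAlg

variable {k B : Type u} [Field k] [CommRing B] [Algebra k B] {n d : ℕ}

theorem exists_eq_one_tmul (z : k ⊗[k] B) : ∃ b : B, (1 : k) ⊗ₜ[k] b = z :=
  ⟨TensorProduct.lid k B z, (TensorProduct.lid k B).symm_apply_apply z⟩

/-- The character of the base change of a rational point. -/
def chiC (χ : B →ₐ[k] k) : k ⊗[k] B →ₐ[k] k := χ.comp (Algebra.TensorProduct.lid k B).toAlgHom

theorem chiC_tmul (χ : B →ₐ[k] k) (b : B) : chiC χ (1 ⊗ₜ b) = χ b := by simp [chiC]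

theorem sub_mem_ker_chiC (χ : B →ₐ[k] k) (z : k ⊗[k] B) :
    z - algebraMap k (k ⊗[k] B) (chiC χ z) ∈ RingHom.ker (chiC χ) := by
  rw [RingHom.mem_ker, map_sub, AlgHom.commutes]
  simp

theorem finrank_of_bijective {x : Fin d → B} {J : Ideal (k ⊗[k] B)} (h : Function.Bijective (comb k x J)) :
    Module.Finite k ((k ⊗[k] B) ⧸ J) ∧ Module.finrank k ((k ⊗[k] B) ⧸ J) = d := by
  let e := LinearEquiv.ofBijective (comb k x J) h
  exact ⟨Module.Finite.equiv e, by rw [← e.finrank_eq]; simp⟩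

theorem exists_basis_lift {J : Ideal (k ⊗[k] B)} [Module.Finite k ((k ⊗[k] B) ⧸ J)]
    (h : Module.finrank k ((k ⊗[k] B) ⧸ J) = d) : ∃ x : Fin d → B, Function.Bijective (comb k x J) := by
  let b := Module.finBasisOfFinrankEq k _ h
  choose c hc using fun i => Ideal.Quotient.mk_surjective (b i)
  choose x hx using fun i => exists_eq_one_tmul (c i)
  refine ⟨x, ?_⟩
  have : comb k x J = b.equivFun.symm.toLinearMap := LinearMap.pi_ext fun i a => by
    rw [comb, Fintype.linearCombination_apply_single, hx i, hc i, LinearEquiv.coe_coe, Module.Basis.equivFun_symm_apply]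
    simp [Pi.single_apply]
  rw [this]
  exact b.equivFun.symm.bijective

theorem injective_snoc {e : Fin n → B} {J' J : Ideal (k ⊗[k] B)} (he : Function.Injective (comb k e J')) {b : B}
    (hw : (1 : k) ⊗ₜ[k] b ∈ J') (hle : J ≤ J') (hn : (1 : k) ⊗ₜ[k] b ∉ J) :
    Function.Injective (comb k (Fin.snoc e b) J) := by
  rw [injective_iff_map_eq_zero]
  intro c hc
  rw [comb_apply, Ideal.Quotient.eq_zero_iff_mem, Fin.sum_univ_castSucc] at hc
  simp only [Fin.snoc_castSucc, Fin.snoc_last] at hc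
  have e1 : c (Fin.last n) ⊗ₜ[k] b = c (Fin.last n) • ((1 : k) ⊗ₜ[k] b) := by
    rw [TensorProduct.smul_tmul', smul_eq_mul, mul_one]
  have h1 : (∑ i : Fin n, c i.castSucc ⊗ₜ[k] e i) ∈ J' := by
    refine (J'.add_mem_iff_left ?_).1 (hle hc)
    rw [e1]
    exact Submodule.smul_of_tower_mem J' _ hw
  have h2 : (fun i : Fin n => c i.castSucc) = 0 := he (by
    rw [comb_apply, map_zero, Ideal.Quotient.eq_zero_iff_mem]; exact h1)
  have h3 : ∀ i : Fin n, c i.castSucc = 0 := fun i => congrFun h2 i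
  simp only [h3, TensorProduct.zero_tmul, Finset.sum_const_zero, zero_add, e1] at hc
  have h4 : c (Fin.last n) = 0 := by
    by_contra h0
    apply hn
    have := Submodule.smul_of_tower_mem J (c (Fin.last n))⁻¹ hc
    rwa [inv_smul_smul₀ h0] at this
  exact funext fun i => Fin.lastCases h4 h3 i

theorem bijective_of_injective {x : Fin d → B} {J : Ideal (k ⊗[k] B)} [Module.Finite k ((k ⊗[k] B) ⧸ J)]
    (h : Function.Injective (comb k x J)) (hd : Module.finrank k ((k ⊗[k] B) ⧸ J) = d) :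
    Function.Bijective (comb k x J) :=
  ⟨h, (LinearMap.injective_iff_surjective_of_finrank_eq_finrank (by rw [hd]; simp)).1 h⟩

theorem eq_of_le_of_finrank {J0 J1 : Ideal (k ⊗[k] B)} (h : J0 ≤ J1) [Module.Finite k ((k ⊗[k] B) ⧸ J0)]
    [Module.Finite k ((k ⊗[k] B) ⧸ J1)]
    (hd : Module.finrank k ((k ⊗[k] B) ⧸ J0) = Module.finrank k ((k ⊗[k] B) ⧸ J1)) : J0 = J1 := by
  refine le_antisymm h fun z hz => ?_
  let φ : ((k ⊗[k] B) ⧸ J0) →ₗ[k] (k ⊗[k] B) ⧸ J1 := (Ideal.Quotient.factorₐ k h).toLinearMap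
  have hs : Function.Surjective φ := Ideal.Quotient.factor_surjective h
  have hi : Function.Injective φ := (LinearMap.injective_iff_surjective_of_finrank_eq_finrank hd).2 hs
  refine Ideal.Quotient.eq_zero_iff_mem.1 (hi ?_)
  rw [map_zero]
  exact Ideal.Quotient.eq_zero_iff_mem.2 hz

/-- A finite nonzero algebra over an algebraically closed field has an element spanning a simple ideal. -/
theorem exists_socle [IsAlgClosed k] (Q : Type u) [CommRing Q] [Algebra k Q] [Module.Finite k Q] [Nontrivial Q] :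
    ∃ (q : Q) (η : Q →ₐ[k] k), q ≠ 0 ∧ ∀ r, r * q = η r • q := by
  haveI : IsArtinianRing Q := IsArtinianRing.of_finite k Q
  obtain ⟨L, hL⟩ := IsAtomic.exists_atom (Ideal Q)
  obtain ⟨q, hqL, hq0⟩ := Submodule.exists_mem_ne_zero_of_ne_bot hL.1
  have hspan : ∀ r : Q, r * q ≠ 0 → ∃ s : Q, s * (r * q) = q := fun r hr => by
    have h1 : Ideal.span {r * q} = L :=
      (hL.le_iff.1 ((Ideal.span_singleton_le_iff_mem _).2 (L.mul_mem_left r hqL))).resolve_left
        (fun h0 => hr (by rwa [Ideal.span_singleton_eq_bot] at h0))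
    exact Ideal.mem_span_singleton'.1 (h1.ge hqL)
  let P : Ideal Q := LinearMap.ker (LinearMap.toSpanSingleton Q Q q)
  have hP : ∀ r, r ∈ P ↔ r * q = 0 := fun r => Iff.rfl
  haveI : P.IsMaximal := Ideal.isMaximal_iff.2 ⟨fun h1 => hq0 (by simpa using (hP 1).1 h1), fun I r hle hr hrI => by
    obtain ⟨s, hs⟩ := hspan r (fun h0 => hr ((hP r).2 h0))
    have h1 : 1 - s * r ∈ P := (hP _).2 (by rw [sub_mul, one_mul, mul_assoc, hs, sub_self])
    have := I.add_mem (hle h1) (I.mul_mem_left s hrI)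
    rwa [sub_add_cancel] at this⟩
  letI := Ideal.Quotient.field P
  haveI : Module.Finite k (Q ⧸ P) :=
    Module.Finite.of_surjective (Ideal.Quotient.mkₐ k P).toLinearMap Ideal.Quotient.mk_surjective
  have hb : Function.Bijective (algebraMap k (Q ⧸ P)) :=
    IsAlgClosed.ringHom_bijective_of_isIntegral _ (algebraMap_isIntegral_iff.2 inferInstance)
  let ε := AlgEquiv.ofBijective (Algebra.ofId k (Q ⧸ P)) hb
  refine ⟨q, ε.symm.toAlgHom.comp (Ideal.Quotient.mkₐ k P), hq0, fun r => ?_⟩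
  rw [Algebra.smul_def, ← sub_eq_zero, ← sub_mul, ← hP, ← Ideal.Quotient.eq_zero_iff_mem, map_sub, sub_eq_zero]
  exact (ε.apply_symm_apply _).symm

theorem exists_sub_aux [IsAlgClosed k] {R : Type u} [CommRing R] [Algebra k R] (Q : Type u) [CommRing Q] [Algebra k Q]
    [Module.Finite k Q] (π : R →ₐ[k] Q) (hπ : Function.Surjective π) (h : Module.finrank k Q = n + 1) :
    ∃ (η : R →ₐ[k] k) (J' : Ideal R), RingHom.ker π ≤ J' ∧ Module.Finite k (R ⧸ J') ∧
      Module.finrank k (R ⧸ J') = n ∧ RingHom.ker η * J' ≤ RingHom.ker π := by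
  haveI : Nontrivial Q := Module.nontrivial_of_finrank_pos (R := k) (by omega)
  obtain ⟨q, η, hq0, hη⟩ := exists_socle (k := k) Q
  let L' : Ideal Q := Ideal.span {q}
  let φ : R →ₐ[k] Q ⧸ L' := (Ideal.Quotient.mkₐ k L').comp π
  have hφ : Function.Surjective φ := Ideal.Quotient.mk_surjective.comp hπ
  have hfr : Module.finrank k (Q ⧸ L') = n := by
    have hL' : L'.restrictScalars k = Submodule.span k {q} := by
      refine le_antisymm (fun x hx => ?_) (Submodule.span_le.2 (by
        rintro _ rfl; exact Ideal.mem_span_singleton_self _))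
      obtain ⟨s, rfl⟩ := Ideal.mem_span_singleton'.1 hx
      rw [hη]
      exact Submodule.smul_mem _ _ (Submodule.mem_span_singleton_self q)
    have h1 := Submodule.finrank_quotient_add_finrank (L'.restrictScalars k)
    rw [(Submodule.Quotient.restrictScalarsEquiv k L').finrank_eq, hL', finrank_span_singleton hq0] at h1
    omega
  let ε := Ideal.quotientKerAlgEquivOfSurjective hφ
  refine ⟨η.comp π, RingHom.ker φ, fun z hz => ?_, Module.Finite.equiv ε.toLinearEquiv.symm,
    by rw [ε.toLinearEquiv.finrank_eq, hfr], Ideal.mul_le.2 fun r hr z hz => ?_⟩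
  · show Ideal.Quotient.mk L' (π z) = 0
    rw [show π z = 0 from hz, map_zero]
  · obtain ⟨s, hs⟩ := Ideal.mem_span_singleton'.1
      (Ideal.Quotient.eq_zero_iff_mem.1 (show Ideal.Quotient.mk L' (π z) = 0 from hz))
    rw [RingHom.mem_ker, map_mul, ← hs, mul_left_comm, hη, show η (π r) = 0 from hr, zero_smul, mul_zero]

set_option maxHeartbeats 2000000 in
/-- An ideal containing a given one with colength one less, differing by a rational point. -/
theorem exists_sub [IsAlgClosed k] {J : Ideal (k ⊗[k] B)} [Module.Finite k ((k ⊗[k] B) ⧸ J)]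
    (h : Module.finrank k ((k ⊗[k] B) ⧸ J) = n + 1) :
    ∃ (χ : B →ₐ[k] k) (J' : Ideal (k ⊗[k] B)), J ≤ J' ∧ Module.Finite k ((k ⊗[k] B) ⧸ J') ∧
      Module.finrank k ((k ⊗[k] B) ⧸ J') = n ∧ RingHom.ker (chiC χ) * J' ≤ J := by
  have hk : RingHom.ker (Ideal.Quotient.mkₐ k J) = J := Ideal.Quotient.mkₐ_ker k J
  obtain ⟨η, J', h1, h2, h3, h4⟩ :=
    exists_sub_aux (R := k ⊗[k] B) ((k ⊗[k] B) ⧸ J) (Ideal.Quotient.mkₐ k J) (Ideal.Quotient.mkₐ_surjective k J) h
  rw [hk] at h1 h4
  refine ⟨η.comp Algebra.TensorProduct.includeRight, J', h1, h2, h3, ?_⟩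
  have : chiC (η.comp Algebra.TensorProduct.includeRight) = η := by
    refine AlgHom.ext fun z => ?_
    obtain ⟨b, rfl⟩ := exists_eq_one_tmul z
    rw [chiC_tmul]
    rfl
  rwa [this]

/-- A hyperplane between an ideal and its product with the ideal of a rational point. -/
theorem exists_hyperplane {e : Fin n → B} {J' : Ideal (k ⊗[k] B)} (he : Function.Bijective (comb k e J'))
    (χ : B →ₐ[k] k) (hne : RingHom.ker (chiC χ) * J' ≠ J') :
    ∃ (x : Fin (n + 1) → B) (J : Ideal (k ⊗[k] B)), Function.Bijective (comb k x J) ∧ J ≤ J' ∧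
      RingHom.ker (chiC χ) * J' ≤ J := by
  let N := RingHom.ker (chiC χ) * J'
  obtain ⟨w, hw, hwN⟩ := SetLike.exists_of_lt (lt_of_le_of_ne Ideal.mul_le_right hne)
  obtain ⟨φ, hφw, hφN⟩ := Submodule.exists_le_ker_of_notMem (p := N.restrictScalars k) hwN
  let J : Ideal (k ⊗[k] B) :=
    { carrier := {z | z ∈ J' ∧ φ z = 0}
      zero_mem' := ⟨zero_mem _, map_zero φ⟩
      add_mem' := fun ha hb => ⟨add_mem ha.1 hb.1, by rw [map_add, ha.2, hb.2, add_zero]⟩
      smul_mem' := fun c z hz => ⟨J'.mul_mem_left c hz.1, by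
        have h1 : (c - algebraMap k _ (chiC χ c)) * z ∈ N := Ideal.mul_mem_mul (sub_mem_ker_chiC χ c) hz.1
        have h2 : φ ((c - algebraMap k _ (chiC χ c)) * z) = 0 := hφN h1
        rw [sub_mul, map_sub, sub_eq_zero, ← Algebra.smul_def, map_smul, hz.2, smul_zero] at h2
        exact h2⟩ }
  have hNJ : N ≤ J := fun z hz => ⟨Ideal.mul_le_right hz, hφN hz⟩
  obtain ⟨b, rfl⟩ := exists_eq_one_tmul w
  refine ⟨Fin.snoc e b, J, ⟨injective_snoc he.1 hw (fun z hz => hz.1) (fun h => hφw h.2), fun q => ?_⟩,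
    fun z hz => hz.1, hNJ⟩
  obtain ⟨z, rfl⟩ := Ideal.Quotient.mk_surjective q
  obtain ⟨c, hc⟩ := he.2 (Ideal.Quotient.mk J' z)
  rw [comb_apply, Ideal.Quotient.eq] at hc
  let r := z - ∑ i, c i ⊗ₜ[k] e i
  refine ⟨Fin.snoc c (φ r / φ ((1 : k) ⊗ₜ[k] b)), ?_⟩
  rw [comb_apply, Ideal.Quotient.eq, Fin.sum_univ_castSucc]
  simp only [Fin.snoc_castSucc, Fin.snoc_last]
  rw [show ∀ a : k, a ⊗ₜ[k] b = a • ((1 : k) ⊗ₜ[k] b) from fun a => by rw [TensorProduct.smul_tmul', smul_eq_mul, mul_one]]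
  rw [show ∀ (s t : k ⊗[k] B), s + t - z = -((z - s) - t) from fun s t => by abel]
  refine J.neg_mem ⟨sub_mem ?_ (Submodule.smul_of_tower_mem J' _ hw), ?_⟩
  · rw [← neg_sub]; exact J'.neg_mem hc
  · rw [map_sub, map_smul, smul_eq_mul, div_mul_cancel₀ _ hφw, sub_self]

/-- Two ideals of colength `n + 1` inside one of colength `n` and containing its product with the ideal of a
rational point lie in a pencil. -/
theorem exists_pencil {e : Fin n → B} {J' J0 J1 : Ideal (k ⊗[k] B)} (he : Function.Bijective (comb k e J'))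
    (χ : B →ₐ[k] k) [Module.Finite k ((k ⊗[k] B) ⧸ J0)] [Module.Finite k ((k ⊗[k] B) ⧸ J1)]
    (d0 : Module.finrank k ((k ⊗[k] B) ⧸ J0) = n + 1) (d1 : Module.finrank k ((k ⊗[k] B) ⧸ J1) = n + 1)
    (l0 : J0 ≤ J') (l1 : J1 ≤ J') (m0 : RingHom.ker (chiC χ) * J' ≤ J0) (m1 : RingHom.ker (chiC χ) * J' ≤ J1)
    (hne : J0 ≠ J1) :
    ∃ (x : Fin (n + 1) → B) (J : Ideal (k[X] ⊗[k] B)), Function.Bijective (comb k x J) ∧
      J.map (tmap B (Polynomial.aeval (0 : k))) = J0 ∧ J.map (tmap B (Polynomial.aeval (1 : k))) = J1 := by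
  obtain ⟨u, hu0, hu1⟩ : ∃ u ∈ J0, u ∉ J1 := by
    by_contra! h
    exact hne (eq_of_le_of_finrank h (d0.trans d1.symm))
  obtain ⟨v, hv1, hv0⟩ : ∃ v ∈ J1, v ∉ J0 := by
    by_contra! h
    exact hne (eq_of_le_of_finrank h (d1.trans d0.symm)).symm
  obtain ⟨b, hb⟩ := exists_eq_one_tmul (v - u)
  let x : Fin (n + 1) → B := Fin.snoc e b
  have hw : (1 : k) ⊗ₜ[k] b ∈ J' := by rw [hb]; exact sub_mem (l1 hv1) (l0 hu0)
  have hb0 : Function.Bijective (comb k x J0) := bijective_of_injective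
    (injective_snoc he.1 hw l0 (by rw [hb]; exact fun h => hv0 (by simpa using J0.add_mem h hu0))) d0
  have hb1 : Function.Bijective (comb k x J1) := bijective_of_injective
    (injective_snoc he.1 hw l1 (by rw [hb]; exact fun h => hu1 (by simpa using J1.sub_mem hv1 h))) d1
  obtain ⟨u0, n0, mu0, rfl⟩ := exists_coord hb0
  obtain ⟨u1, n1, mu1, rfl⟩ := exists_coord hb1
  have hcl : ∀ (w : B →ₗ[k] (Fin (n + 1) → k)) (hw' : Normal x w) (hm : Mult x w) (c : B),
      (1 : k) ⊗ₜ[k] c - ∑ i, w c i ⊗ₜ[k] x i ∈ coordIdeal x w hm := fun w hw' hm c => by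
    rw [mem_coordIdeal, map_sub, lift_sum hw', lift_tmul, one_smul, sub_self]
  have hE : ∀ c (i : Fin n), u0 c i.castSucc = u1 c i.castSucc := fun c i => by
    have h1 := sub_mem (l1 (hcl u1 n1 mu1 c)) (l0 (hcl u0 n0 mu0 c))
    rw [sub_sub_sub_cancel_left, ← Finset.sum_sub_distrib, Fin.sum_univ_castSucc] at h1
    simp only [x, Fin.snoc_castSucc, Fin.snoc_last, ← TensorProduct.sub_tmul] at h1
    have h2 : ∑ j : Fin n, (u0 c j.castSucc - u1 c j.castSucc) ⊗ₜ[k] e j ∈ J' := by
      refine (J'.add_mem_iff_left ?_).1 h1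
      rw [show ∀ a : k, a ⊗ₜ[k] b = a • ((1 : k) ⊗ₜ[k] b) from fun a => by rw [TensorProduct.smul_tmul', smul_eq_mul, mul_one]]
      exact Submodule.smul_of_tower_mem J' _ hw
    have h3 : (fun j : Fin n => u0 c j.castSucc - u1 c j.castSucc) = 0 := he.1 (by
      rw [comb_apply, map_zero, Ideal.Quotient.eq_zero_iff_mem]; exact h2)
    exact sub_eq_zero.1 (congrFun h3 i)
  have hlast : ∀ (w : B →ₗ[k] (Fin (n + 1) → k)) (hw' : Normal x w) (hm : Mult x w),
      RingHom.ker (chiC χ) * J' ≤ coordIdeal x w hm → ∀ c, w (b * c) = χ c • Pi.single (Fin.last n) (1 : k) :=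
    fun w hw' hm hM c => by
    have h1 : (1 : k) ⊗ₜ[k] (b * c) - χ c • ((1 : k) ⊗ₜ[k] b) ∈ coordIdeal x w hm := by
      refine hM ?_
      have h := Ideal.mul_mem_mul (sub_mem_ker_chiC χ ((1 : k) ⊗ₜ[k] c)) hw
      rwa [chiC_tmul, sub_mul, ← Algebra.smul_def, Algebra.TensorProduct.tmul_mul_tmul, one_mul, mul_comm c b] at h
    rw [mem_coordIdeal, map_sub, map_smul, lift_tmul, lift_tmul, one_smul, one_smul, sub_eq_zero] at h1
    rw [h1]
    congr 1
    simpa [x] using hw' (Fin.last n)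
  let ψ : B →ₗ[k] (Fin (n + 1) → k[X]) :=
    { toFun := fun c i => Polynomial.C (u0 c i) + Polynomial.X * Polynomial.C (u1 c i - u0 c i)
      map_add' := fun a c => funext fun i => by simp only [map_add, Pi.add_apply, map_sub]; ring
      map_smul' := fun a c => funext fun i => by
        simp only [map_smul, Pi.smul_apply, smul_eq_mul, map_sub, map_mul, RingHom.id_apply, Polynomial.smul_eq_C_mul]; ring }
  have hψ : ∀ c i, ψ c i = Polynomial.C (u0 c i) + Polynomial.X * Polynomial.C (u1 c i - u0 c i) := fun _ _ => rfl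
  have hn : Normal x ψ := fun i => funext fun j => by
    rw [hψ, n0 i, n1 i]
    by_cases h : j = i
    · subst h; simp
    · simp [Pi.single_eq_of_ne h]
  have hm : Mult x ψ := fun c c' j => by
    have hs : ∑ i : Fin n, ψ c i.castSucc * ψ (x i.castSucc * c') j =
        Polynomial.C (∑ i : Fin n, u1 c i.castSucc * u0 (x i.castSucc * c') j) +
          Polynomial.X * Polynomial.C (∑ i : Fin n, u1 c i.castSucc * u1 (x i.castSucc * c') j -
            ∑ i : Fin n, u1 c i.castSucc * u0 (x i.castSucc * c') j) := by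
      rw [← Finset.sum_sub_distrib, map_sum, map_sum, Finset.mul_sum, ← Finset.sum_add_distrib]
      refine Finset.sum_congr rfl fun i _ => ?_
      simp only [hψ, hE, sub_self, map_zero, mul_zero, add_zero, map_mul, map_sub]
      ring
    rw [Fin.sum_univ_castSucc, hs]
    simp only [hψ, mu0 c c' j, mu1 c c' j, Fin.sum_univ_castSucc, show x (Fin.last n) = b from Fin.snoc_last _ _,
      hlast u0 n0 mu0 m0 c', hlast u1 n1 mu1 m1 c', hE, sub_self, map_zero, mul_zero, add_zero, map_add, map_mul,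
      map_sub]
    ring
  refine ⟨x, coordIdeal x ψ hm, bijective_comb_coordIdeal hn hm, ?_, ?_⟩
  · rw [map_coordIdeal _ hn]
    congr 1
    exact LinearMap.ext fun c => funext fun i => by simp [mapCoord_apply, hψ]
  · rw [map_coordIdeal _ hn]
    congr 1
    exact LinearMap.ext fun c => funext fun i => by simp [mapCoord_apply, hψ]

end HilbPts.ConnAlg

end
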