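import Groth.Agent.HilbPtsLib.ProperHilb
import Groth.Agent.HilbPtsLib.ConnAlg
import Groth.Agent.HilbPtsLib.SymQuot
import Groth.Agent.SweepSix.GeomConn
import Groth.Agent.GrpFieldLib.Uniq
import Mathlib.AlgebraicGeometry.AlgClosed.Basic

/-!
# Connectedness of Hilbert schemes of points
-/

set_option autoImplicit false
set_option linter.style.haveILetI false
set_option linter.unusedSectionVars false
set_option backward.isDefEq.respectTransparency false
set_option backward.isDefEq.respectTransparency.types false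

universe u

open CategoryTheory CategoryTheory.Limits AlgebraicGeometry TopologicalSpace TensorProduct GrassLib Polynomial

noncomputable section

namespace HilbPts

theorem sid_mul {C : Type u} [CommRing C] (a b : Ideal C) : sid (a * b) = sid a * sid b := by
  have h : ∀ K : Ideal C, (sid K).ideal ⟨⊤, isAffineOpen_top _⟩ = K.map (Scheme.ΓSpecIso (.of C)).inv.hom := fun K => by
    rw [sid, ideal_ker_specMap, Ideal.mk_ker]
    exact (Ideal.map_symm (Scheme.ΓSpecIso (.of C)).commRingCatIsoToRingEquiv).symm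
  refine Scheme.IdealSheafData.ext_of_isAffine ?_
  rw [Scheme.IdealSheafData.ideal_mul, Pi.mul_apply, h, h, h, Ideal.map_mul]

namespace Conn

variable {k : Type u} [Field k] {X : Scheme.{u}} {f : X ⟶ Spec (CommRingCat.of k)}

/-- An affine open of the source as a chart over the base. -/
@[reducible] def kCh (B : Type u) [CommRing B] [Algebra k B] (iW : Spec (CommRingCat.of B) ⟶ X) [IsOpenImmersion iW]
    (w : iW ≫ f = Spec.map (CommRingCat.ofHom (algebraMap k B))) : Ch f :=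
  { A := k, B := B, iU := 𝟙 _, iW := iW, fac := by rw [Category.comp_id]; exact w }

variable {B : Type u} [CommRing B] [Algebra k B] {iW : Spec (CommRingCat.of B) ⟶ X} [IsOpenImmersion iW]
  {w : iW ≫ f = Spec.map (CommRingCat.ofHom (algebraMap k B))}

theorem gR_self : gR (kCh B iW w) k = 𝟙 _ := by
  simp [gR, kCh]

theorem exists_kCh [LocallyOfFiniteType f] (hAF : SymProd.IsAF f) {F : Set X} (hF : F.Finite) :
    ∃ (B : Type u) (_ : CommRing B) (_ : Algebra k B) (iW : Spec (CommRingCat.of B) ⟶ X) (_ : IsOpenImmersion iW)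
      (_ : iW ≫ f = Spec.map (CommRingCat.ofHom (algebraMap k B))), Algebra.FiniteType k B ∧ F ⊆ Set.range iW := by
  obtain ⟨U, hU, hUF⟩ := hAF (IsLocalRing.closedPoint k) hF.toFinset (fun x _ => Subsingleton.elim _ _)
  obtain ⟨φ, hφ⟩ := Spec.map_surjective (hU.fromSpec ≫ f)
  letI : Algebra k Γ(X, U) := φ.hom.toAlgebra
  refine ⟨Γ(X, U), inferInstance, inferInstance, hU.fromSpec, inferInstance, hφ.symm, ?_,
    fun x hx => hU.range_fromSpec.ge (hUF x (hF.mem_toFinset.2 hx))⟩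
  have h : LocallyOfFiniteType (Spec.map φ) := by rw [hφ]; infer_instance
  rw [HasRingHomProperty.Spec_iff (P := @LocallyOfFiniteType)] at h
  exact h

variable [IsSeparated f] {n d : ℕ}

theorem finrank_of_supp {I : (pullback f (gR (kCh B iW w) k)).IdealSheafData}
    (hI : Mor2.IsFinLocFreeOfDeg d (I.subschemeι ≫ pullback.snd f (gR (kCh B iW w) k))) (hs : Supp (kCh B iW w) I)
    {J : Ideal (k ⊗[k] B)} (hJ : sid J = I.comap (eR (kCh B iW w) k)) :
    Module.Finite k ((k ⊗[k] B) ⧸ J) ∧ Module.finrank k ((k ⊗[k] B) ⧸ J) = d := by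
  obtain ⟨h1, -, h3⟩ := rank_of_supp (kCh B iW w) (R := k) hI hs hJ
  haveI : Module.Finite k ((k ⊗[k] B) ⧸ J) := h1
  have h := h3 ⟨⊥, Ideal.isPrime_bot⟩
  rw [Module.rankAtStalk_eq_finrank_of_free] at h
  exact ⟨h1, h⟩

theorem supp_mono {p : Ch f} {T : Scheme.{u}} {g : T ⟶ Spec (CommRingCat.of k)} {I I' : (pullback f g).IdealSheafData}
    (h : I ≤ I') (hs : Supp p I) : Supp p I' := by
  rintro _ ⟨z, rfl⟩
  obtain ⟨z', hz'⟩ : I'.subschemeι z ∈ Set.range I.subschemeι := by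
    rw [Scheme.IdealSheafData.range_subschemeι]
    have : I'.subschemeι z ∈ (I'.support : Set _) := by
      rw [← Scheme.IdealSheafData.range_subschemeι]; exact ⟨z, rfl⟩
    exact Scheme.IdealSheafData.support_antitone h this
  refine hs ⟨z', ?_⟩
  rw [Scheme.Hom.comp_apply, Scheme.Hom.comp_apply, hz']

theorem finite_range {g : Spec (CommRingCat.of k) ⟶ Spec (CommRingCat.of k)} {I : (pullback f g).IdealSheafData}
    (hI : Mor2.IsFinLocFreeOfDeg d (I.subschemeι ≫ pullback.snd f g)) :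
    (Set.range (I.subschemeι ≫ pullback.fst f g)).Finite := by
  obtain ⟨e, he⟩ := exists_fin_surj (K := k) _ hI
  rw [← he.range_comp]
  exact Set.finite_range _

/-- The point of a character of a chart. -/
theorem pt_comp (χ : B →ₐ[k] k) :
    (Spec.map (CommRingCat.ofHom χ.toRingHom) ≫ iW) ≫ f = gR (kCh B iW w) k := by
  rw [gR_self, Category.assoc, w, ← Spec.map_comp, ← CommRingCat.ofHom_comp,
    show χ.toRingHom.comp (algebraMap k B) = RingHom.id k from RingHom.ext χ.commutes]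
  exact Spec.map_id _

theorem exists_char (y : Spec (CommRingCat.of k) ⟶ X) (hy : y ≫ f = gR (kCh B iW w) k)
    (hr : Set.range y ⊆ Set.range iW) :
    ∃ χ : B →ₐ[k] k, y = Spec.map (CommRingCat.ofHom χ.toRingHom) ≫ iW := by
  obtain ⟨φ, hφ⟩ := Spec.map_surjective (IsOpenImmersion.lift iW y hr)
  have h : Spec.map (CommRingCat.ofHom (algebraMap k B) ≫ φ) = Spec.map (𝟙 _) := by
    rw [Spec.map_comp, hφ, ← w, IsOpenImmersion.lift_fac_assoc, hy, gR_self, Spec.map_id]
  refine ⟨{ φ.hom with commutes' := fun c => RingHom.congr_fun (congrArg CommRingCat.Hom.hom (Spec.map_injective h)) c }, ?_⟩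
  show y = Spec.map φ ≫ iW
  rw [hφ, IsOpenImmersion.lift_fac]

theorem comap_secF_chart (χ : B →ₐ[k] k) (y : Spec (CommRingCat.of k) ⟶ X)
    (hy : y ≫ f = gR (kCh B iW w) k) (e : y = Spec.map (CommRingCat.ofHom χ.toRingHom) ≫ iW) :
    (SC.secF f y hy).ker.comap (eR (kCh B iW w) k) = sid (RingHom.ker (ConnAlg.chiC χ)) := by
  let c : Spec (CommRingCat.of k) ⟶ Spec (CommRingCat.of (k ⊗[k] B)) :=
    Spec.map (CommRingCat.ofHom (ConnAlg.chiC χ).toRingHom)
  have hs : c ≫ eR (kCh B iW w) k = SC.secF f y hy := by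
    refine pullback.hom_ext ?_ ?_
    · rw [Category.assoc, eR_fst, SC.secF_fst, e, ← Category.assoc]
      show (_ ≫ Spec.map _) ≫ iW = _
      rw [← Spec.map_comp, ← CommRingCat.ofHom_comp]
      congr 3
      exact RingHom.ext fun b => ConnAlg.chiC_tmul χ b
    · rw [Category.assoc, eR_snd, SC.secF_snd, ← Spec.map_comp, ← CommRingCat.ofHom_comp, ← Spec.map_id]
      congr 1
      exact CommRingCat.hom_ext (RingHom.ext fun a => (ConnAlg.chiC χ).commutes a)
  haveI : IsClosedImmersion (c ≫ eR (kCh B iW w) k) := by rw [hs]; infer_instance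
  rw [← hs, comap_ker_comp, ker_specMap]
  rfl

/-- No ideal of finite colength `n` equals its product with the ideal of a rational point. -/
def Hne (f : X ⟶ Spec (CommRingCat.of k)) (n : ℕ) : Prop :=
  ∀ (B : Type u) [CommRing B] [Algebra k B] [Algebra.FiniteType k B] (iW : Spec (CommRingCat.of B) ⟶ X)
    [IsOpenImmersion iW], iW ≫ f = Spec.map (CommRingCat.ofHom (algebraMap k B)) →
    ∀ (χ : B →ₐ[k] k) (J : Ideal (k ⊗[k] B)) [Module.Finite k ((k ⊗[k] B) ⧸ J)],
      Module.finrank k ((k ⊗[k] B) ⧸ J) = n → RingHom.ker (ConnAlg.chiC χ) * J ≠ J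

variable [IsAlgClosed k] [LocallyOfFiniteType f] {g : Spec (CommRingCat.of k) ⟶ Spec (CommRingCat.of k)}

set_option maxHeartbeats 8000000 in
/-- A point of degree `n + 1` contains one of degree `n`. -/
theorem exists_below (hAF : SymProd.IsAF f) (hg : g = 𝟙 _) {I : (pullback f g).IdealSheafData}
    (hI : Mor2.IsFinLocFreeOfDeg (n + 1) (I.subschemeι ≫ pullback.snd f g)) :
    ∃ (y : Spec (CommRingCat.of k) ⟶ X) (hy : y ≫ f = g) (I' : (pullback f g).IdealSheafData),
      Mor2.IsFinLocFreeOfDeg n (I'.subschemeι ≫ pullback.snd f g) ∧ I ≤ I' ∧ (SC.secF f y hy).ker * I' ≤ I := by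
  obtain ⟨B, _, _, iW, _, w, -, hF⟩ := exists_kCh hAF (finite_range hI)
  obtain rfl : g = gR (kCh B iW w) k := hg.trans gR_self.symm
  have hs : Supp (kCh B iW w) I := hF
  obtain ⟨J, hJ⟩ := exists_sid (I.comap (eR (kCh B iW w) k))
  obtain ⟨h1, h2⟩ := finrank_of_supp hI hs hJ
  obtain ⟨χ, J', hle, h3, h4, hM⟩ := ConnAlg.exists_sub h2
  obtain ⟨x, hx⟩ := ConnAlg.exists_basis_lift h4
  let P := pt (kCh B iW w) (R := k) x J' hx
  have eI : (sid J).map (eR (kCh B iW w) k) = I := (eq_map_of_supp (kCh B iW w) (R := k) hs hJ).symm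
  have eP : (sid J').map (eR (kCh B iW w) k) = P.I :=
    (eq_map_of_supp (kCh B iW w) (R := k) (supp_pt (kCh B iW w) (R := k) x J' hx) (comap_pt (kCh B iW w) (R := k) x J' hx).symm).symm
  refine ⟨_, pt_comp χ, P.I, P.prop, ?_, ?_⟩
  · rw [← eI, ← eP]
    exact Scheme.IdealSheafData.map_mono _ (sid_le_sid_iff.2 hle)
  · rw [← eI, Scheme.IdealSheafData.le_map_iff_comap_le, SC.comap_mul, comap_secF_chart χ _ _ rfl,
      comap_pt (kCh B iW w) x J' hx, ← sid_mul]
    exact sid_le_sid_iff.2 hM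

set_option maxHeartbeats 8000000 in
/-- A point of degree `n` lies in one of degree `n + 1`. -/
theorem exists_above (hAF : SymProd.IsAF f) (hne : Hne f n) (hg : g = 𝟙 _) (y : Spec (CommRingCat.of k) ⟶ X)
    (hy : y ≫ f = g) {I' : (pullback f g).IdealSheafData}
    (hI' : Mor2.IsFinLocFreeOfDeg n (I'.subschemeι ≫ pullback.snd f g)) :
    ∃ I : (pullback f g).IdealSheafData,
      Mor2.IsFinLocFreeOfDeg (n + 1) (I.subschemeι ≫ pullback.snd f g) ∧ I ≤ I' ∧ (SC.secF f y hy).ker * I' ≤ I := by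
  obtain ⟨B, _, _, iW, _, w, hft, hF⟩ := exists_kCh hAF ((finite_range hI').union (Set.finite_range y))
  obtain rfl : g = gR (kCh B iW w) k := hg.trans gR_self.symm
  have hs' : Supp (kCh B iW w) I' := fun z hz => hF (Or.inl hz)
  obtain ⟨J', hJ'⟩ := exists_sid (I'.comap (eR (kCh B iW w) k))
  obtain ⟨h1, h2⟩ := finrank_of_supp hI' hs' hJ'
  obtain ⟨χ, hχ⟩ := exists_char y hy (fun z hz => hF (Or.inr hz))
  obtain ⟨e, he⟩ := ConnAlg.exists_basis_lift h2
  haveI := hft
  obtain ⟨x, J, hx, hle, hM⟩ := ConnAlg.exists_hyperplane he χ (hne B iW w χ J' h2)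
  let P := pt (kCh B iW w) (R := k) x J hx
  have eI' : (sid J').map (eR (kCh B iW w) k) = I' := (eq_map_of_supp (kCh B iW w) (R := k) hs' hJ').symm
  have eP : (sid J).map (eR (kCh B iW w) k) = P.I :=
    (eq_map_of_supp (kCh B iW w) (R := k) (supp_pt (kCh B iW w) (R := k) x J hx) (comap_pt (kCh B iW w) (R := k) x J hx).symm).symm
  refine ⟨P.I, P.prop, ?_, ?_⟩
  · rw [← eI', ← eP]
    exact Scheme.IdealSheafData.map_mono _ (sid_le_sid_iff.2 hle)
  · rw [← eP, Scheme.IdealSheafData.le_map_iff_comap_le, SC.comap_mul, comap_secF_chart χ y hy hχ, ← hJ', ← sid_mul]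
    exact sid_le_sid_iff.2 hM

variable {H : Over (Spec (CommRingCat.of k))} {Z : HilbD.Obj f (n + 1) H}

set_option maxHeartbeats 2000000 in
/-- Two points over the same point of degree `n` and the same rational point lie in a connected set. -/
theorem exists_pencil_set (hZ : HilbD.IsUniversal f (n + 1) H Z) (hAF : SymProd.IsAF f) (hg : g = 𝟙 _)
    (y : Spec (CommRingCat.of k) ⟶ X) (hy : y ≫ f = g) {I' : (pullback f g).IdealSheafData}
    (hI' : Mor2.IsFinLocFreeOfDeg n (I'.subschemeι ≫ pullback.snd f g))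
    (a0 a1 : Spec (CommRingCat.of k) ⟶ H.left) (h0 : a0 ≫ H.hom = g) (h1 : a1 ≫ H.hom = g)
    (l0 : Z.1.comap (m f a0 h0) ≤ I') (l1 : Z.1.comap (m f a1 h1) ≤ I')
    (m0 : (SC.secF f y hy).ker * I' ≤ Z.1.comap (m f a0 h0))
    (m1 : (SC.secF f y hy).ker * I' ≤ Z.1.comap (m f a1 h1)) :
    ∃ s : Set H.left, _root_.IsPreconnected s ∧ a0 (IsLocalRing.closedPoint k) ∈ s ∧
      a1 (IsLocalRing.closedPoint k) ∈ s := by
  let ξ : HPt f (n + 1) H.left := ⟨H.hom, Z.1, Z.2⟩
  have hI0 : Mor2.IsFinLocFreeOfDeg (n + 1) ((Z.1.comap (m f a0 h0)).subschemeι ≫ pullback.snd f g) :=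
    isFinLocFreeOfDeg_of_isPullback (isPullback_comap_m f a0 h0 Z.1) Z.2
  have hI1 : Mor2.IsFinLocFreeOfDeg (n + 1) ((Z.1.comap (m f a1 h1)).subschemeι ≫ pullback.snd f g) :=
    isFinLocFreeOfDeg_of_isPullback (isPullback_comap_m f a1 h1 Z.1) Z.2
  obtain ⟨B, _, _, iW, _, w, -, hF⟩ :=
    exists_kCh hAF (((finite_range hI0).union (finite_range hI1)).union (Set.finite_range y))
  obtain rfl : g = gR (kCh B iW w) k := hg.trans gR_self.symm
  have hs0 : Supp (kCh B iW w) (Z.1.comap (m f a0 h0)) := fun z hz => hF (Or.inl (Or.inl hz))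
  have hs1 : Supp (kCh B iW w) (Z.1.comap (m f a1 h1)) := fun z hz => hF (Or.inl (Or.inr hz))
  have hs' : Supp (kCh B iW w) I' := supp_mono l0 hs0
  obtain ⟨J0, hJ0⟩ := exists_sid ((Z.1.comap (m f a0 h0)).comap (eR (kCh B iW w) k))
  obtain ⟨J1, hJ1⟩ := exists_sid ((Z.1.comap (m f a1 h1)).comap (eR (kCh B iW w) k))
  obtain ⟨J', hJ'⟩ := exists_sid (I'.comap (eR (kCh B iW w) k))
  by_cases hJ : J0 = J1
  · have : a0 = a1 := SC.hom_eq_of_comap_eq f hZ a0 a1 h0 h1 (by
      rw [eq_map_of_supp _ hs0 hJ0, eq_map_of_supp _ hs1 hJ1, hJ])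
    exact ⟨{a0 (IsLocalRing.closedPoint k)}, isPreconnected_singleton, rfl, by rw [this]; rfl⟩
  obtain ⟨f0, d0⟩ := finrank_of_supp hI0 hs0 hJ0
  obtain ⟨f1, d1⟩ := finrank_of_supp hI1 hs1 hJ1
  obtain ⟨f', d'⟩ := finrank_of_supp hI' hs' hJ'
  obtain ⟨χ, hχ⟩ := exists_char y hy (fun z hz => hF (Or.inr hz))
  obtain ⟨e, he⟩ := ConnAlg.exists_basis_lift d'
  have le0 : J0 ≤ J' := sid_le_sid_iff.1 (by rw [hJ0, hJ']; exact Scheme.IdealSheafData.comap_mono _ l0)
  have le1 : J1 ≤ J' := sid_le_sid_iff.1 (by rw [hJ1, hJ']; exact Scheme.IdealSheafData.comap_mono _ l1)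
  have hm0 : RingHom.ker (ConnAlg.chiC χ) * J' ≤ J0 := sid_le_sid_iff.1 (by
    rw [sid_mul, hJ0, hJ', ← comap_secF_chart χ y hy hχ, ← SC.comap_mul]
    exact Scheme.IdealSheafData.comap_mono _ m0)
  have hm1 : RingHom.ker (ConnAlg.chiC χ) * J' ≤ J1 := sid_le_sid_iff.1 (by
    rw [sid_mul, hJ1, hJ', ← comap_secF_chart χ y hy hχ, ← SC.comap_mul]
    exact Scheme.IdealSheafData.comap_mono _ m1)
  obtain ⟨x, J, hb, hev0, hev1⟩ := ConnAlg.exists_pencil he χ d0 d1 le0 le1 hm0 hm1 hJ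
  obtain ⟨l, hl, -⟩ := SC.existsUnique_map' f hZ (pt (kCh B iW w) (R := k[X]) x J hb)
  have key : ∀ (a : Spec (CommRingCat.of k) ⟶ H.left) (ha : a ≫ H.hom = gR (kCh B iW w) k) (t : k) (Ja : Ideal (k ⊗[k] B)),
      sid Ja = (Z.1.comap (m f a ha)).comap (eR (kCh B iW w) k) → Supp (kCh B iW w) (Z.1.comap (m f a ha)) →
      J.map (tmap B (Polynomial.aeval t)) = Ja →
      Spec.map (CommRingCat.ofHom (Polynomial.aeval (R := k) t).toRingHom) ≫ l = a := by
    intro a ha t Ja hJa hsa e1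
    refine (SC.existsUnique_map' f hZ (ξ.map a)).unique ?_ rfl
    rw [← HPt.map_map, hl]
    refine (map_pt (kCh B iW w) x (Polynomial.aeval (R := k) t) J hb).trans ?_
    have hb' := bijective_comb_map (Polynomial.aeval (R := k) t) hb
    rw [e1] at hb'
    refine ((pt_congr (kCh B iW w) x e1 _ hb').trans
      (eq_pt_of_supp (kCh B iW w) x (isFinLocFreeOfDeg_of_isPullback (isPullback_comap_m f a ha Z.1) Z.2)
        hsa hJa hb').symm).trans ?_
    refine (HPt.ext' ha ?_).symm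
    show Z.1.comap (m f a rfl) = _
    rw [← Scheme.IdealSheafData.comap_comp, m_comp]
    congr 2
  haveI : IrreducibleSpace ↥(Spec (CommRingCat.of k[X])) := inferInstanceAs (IrreducibleSpace (PrimeSpectrum k[X]))
  refine ⟨Set.range l, isPreconnected_range l.continuous, ?_, ?_⟩
  · rw [← key a0 h0 0 J0 hJ0 hs0 hev0]; exact ⟨_, rfl⟩
  · rw [← key a1 h1 1 J1 hJ1 hs1 hev1]; exact ⟨_, rfl⟩

theorem comap_eq_bot_iff_mem {E : Scheme.{u}} (K : E.IdealSheafData) (h : Spec (CommRingCat.of k) ⟶ E) :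
    K.comap h = ⊥ ↔ h (IsLocalRing.closedPoint k) ∈ K.support := by
  have hsupp : h (IsLocalRing.closedPoint k) ∈ K.support ↔
      IsLocalRing.closedPoint k ∈ (K.comap h).support := by
    rw [Scheme.IdealSheafData.support_comap]; rfl
  rw [hsupp]
  obtain ⟨J, hJ⟩ := exists_sid (K.comap h)
  constructor
  · intro e
    rw [e, Scheme.IdealSheafData.support_bot]
    trivial
  · intro hm
    rcases Ideal.eq_bot_or_top J with rfl | rfl
    · obtain ⟨K', hK'⟩ := exists_sid (⊥ : (Spec (CommRingCat.of k)).IdealSheafData)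
      exact hJ.symm.trans (le_bot_iff.1 ((sid_le_sid_iff.2 bot_le).trans hK'.le))
    · exfalso
      obtain ⟨K', hK'⟩ := exists_sid (⊤ : (Spec (CommRingCat.of k)).IdealSheafData)
      rw [← hJ, top_le_iff.1 (hK'.ge.trans (sid_le_sid_iff.2 le_top)), Scheme.IdealSheafData.support_top] at hm
      exact hm

/-- The Hilbert scheme of no points has at most one closed point and one point over a field. -/
theorem connectedSpace_zero (hAF : SymProd.IsAF f) {H : Over (Spec (CommRingCat.of k))} {Z : HilbD.Obj f 0 H}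
    (hZ : HilbD.IsUniversal f 0 H Z) : ConnectedSpace H.left := by
  haveI := SC.locallyOfFiniteType_hom hAF hZ
  haveI : JacobsonSpace ↥H.left := LocallyOfFiniteType.jacobsonSpace H.hom
  have htop : ∀ (D : (pullback f (𝟙 (Spec (CommRingCat.of k)))).IdealSheafData),
      Mor2.IsFinLocFreeOfDeg 0 (D.subschemeι ≫ pullback.snd f (𝟙 _)) → D = ⊤ := fun D h => by
    rw [← Scheme.IdealSheafData.support_eq_bot_iff]
    refine SetLike.ext fun x => iff_of_false (fun hx => ?_) (fun hx => hx)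
    rw [← SetLike.mem_coe, ← Scheme.IdealSheafData.range_subschemeι] at hx
    obtain ⟨z, -⟩ := hx
    haveI := h.1.1
    haveI := h.1.2.1
    have := Scheme.Hom.one_le_finrank_map (D.subschemeι ≫ pullback.snd f (𝟙 _)) z
    rw [h.2] at this
    omega
  obtain ⟨a, ha, -⟩ := SC.exists_hom f hZ (⊤ : (pullback f (𝟙 (Spec (CommRingCat.of k)))).IdealSheafData)
    (SC.prop_top f _)
  have hcl : ∀ z : H.left, IsClosed {z} → z = a (IsLocalRing.closedPoint k) := fun z hz => by
    have e : pointOfClosedPoint H.hom z hz = a := SC.hom_eq_of_comap_eq f hZ _ _ (pointOfClosedPoint_comp _ _ _) ha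
      ((htop _ (isFinLocFreeOfDeg_of_isPullback (isPullback_comap_m f _ _ Z.1) Z.2)).trans
        (htop _ (isFinLocFreeOfDeg_of_isPullback (isPullback_comap_m f _ _ Z.1) Z.2)).symm)
    rw [← e, pointOfClosedPoint_apply]
  refine { toPreconnectedSpace := preconnectedSpace_iff_clopen.2 fun A hA => ?_,
           toNonempty := ⟨a (IsLocalRing.closedPoint k)⟩ }
  by_contra! h
  obtain ⟨z0, hz0, hc0⟩ := nonempty_inter_closedPoints h.1 hA.1.isLocallyClosed
  obtain ⟨z1, hz1, hc1⟩ := nonempty_inter_closedPoints (Set.nonempty_compl.2 h.2) hA.compl.1.isLocallyClosed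
  exact hz1 ((hcl z1 hc1).trans (hcl z0 hc0).symm ▸ hz0)

set_option maxHeartbeats 2000000 in
/-- The Hilbert scheme of `n + 1` points is connected when that of `n` points is. -/
theorem connectedSpace_succ [IsProper f] [ConnectedSpace X] (hAF : SymProd.IsAF f) (hne : Hne f n)
    {H H' : Over (Spec (CommRingCat.of k))} {Z : HilbD.Obj f (n + 1) H} (hZ : HilbD.IsUniversal f (n + 1) H Z)
    {Z' : HilbD.Obj f n H'} (hZ' : HilbD.IsUniversal f n H' Z') [ConnectedSpace H'.left] :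
    ConnectedSpace H.left := by
  haveI : IsProper H.hom := SC.isProper_hom_of_isAF hAF hZ
  haveI := SC.locallyOfFiniteType_hom hAF hZ'
  haveI : GeometricallyConnected f := SweepSix.GeomConn.gc_of_isAlgClosed f
  haveI : UniversallyOpen f := Groth.Agent.GrpField.universallyOpen_field f
  haveI : ConnectedSpace ↥(pullback f H'.hom) := inferInstance
  let gB : pullback f H'.hom ⟶ Spec (CommRingCat.of k) := pullback.snd f H'.hom ≫ H'.hom
  let e : pullback gB H.hom ⟶ Spec (CommRingCat.of k) := pullback.snd gB H.hom ≫ H.hom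
  let q : pullback gB H.hom ⟶ pullback f H'.hom := pullback.fst gB H.hom
  let π : pullback gB H.hom ⟶ H.left := pullback.snd gB H.hom
  have hq : q ≫ pullback.snd f H'.hom ≫ H'.hom = e := pullback.condition
  let u' : pullback gB H.hom ⟶ H'.left := q ≫ pullback.snd f H'.hom
  have hu' : u' ≫ H'.hom = e := by rw [← hq]; simp [u']
  let x : pullback gB H.hom ⟶ X := q ≫ pullback.fst f H'.hom
  have hx : x ≫ f = e := by rw [← hq]; simp [x, pullback.condition]
  let I : (pullback f e).IdealSheafData := Z.1.comap (m f π rfl)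
  let I' : (pullback f e).IdealSheafData := Z'.1.comap (m f u' hu')
  have hI : Mor2.IsFinLocFreeOfDeg (n + 1) (I.subschemeι ≫ pullback.snd f e) :=
    isFinLocFreeOfDeg_of_isPullback (isPullback_comap_m f π rfl Z.1) Z.2
  have hI' : Mor2.IsFinLocFreeOfDeg n (I'.subschemeι ≫ pullback.snd f e) :=
    isFinLocFreeOfDeg_of_isPullback (isPullback_comap_m f u' hu' Z'.1) Z'.2
  obtain ⟨K₁, hK₁⟩ := exists_containment f I' I hI'.1
  obtain ⟨K₂, hK₂⟩ := exists_containment f I ((SC.secF f x hx).ker * I') hI.1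
  let C : Set ↥(pullback gB H.hom) := (K₁.support : Set _) ∩ (K₂.support : Set _)
  have hC : IsClosed C := K₁.support.isClosed.inter K₂.support.isClosed
  have hpt : ∀ (h : Spec (CommRingCat.of k) ⟶ pullback gB H.hom) (hh : h ≫ e = 𝟙 _)
      (y : Spec (CommRingCat.of k) ⟶ X) (hy : y ≫ f = 𝟙 _) (a : Spec (CommRingCat.of k) ⟶ H.left)
      (ha : a ≫ H.hom = 𝟙 _) (a' : Spec (CommRingCat.of k) ⟶ H'.left) (ha' : a' ≫ H'.hom = 𝟙 _),
      h ≫ π = a → h ≫ x = y → h ≫ u' = a' →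
      (h (IsLocalRing.closedPoint k) ∈ C ↔ Z.1.comap (m f a ha) ≤ Z'.1.comap (m f a' ha') ∧
        (SC.secF f y hy).ker * Z'.1.comap (m f a' ha') ≤ Z.1.comap (m f a ha)) := by
    rintro h hh y hy a ha a' ha' rfl rfl rfl
    show _ ∈ (K₁.support : Set ↥(pullback gB H.hom)) ∧ _ ∈ (K₂.support : Set ↥(pullback gB H.hom)) ↔ _
    rw [SetLike.mem_coe, SetLike.mem_coe, ← comap_eq_bot_iff_mem, ← comap_eq_bot_iff_mem, ← hK₁ h hh, ← hK₂ h hh,
      SC.comap_mul, SC.comap_secF f x hx h hh]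
    simp only [I, I', ← Scheme.IdealSheafData.comap_comp, m_comp]
  haveI : JacobsonSpace ↥(pullback f H'.hom) := LocallyOfFiniteType.jacobsonSpace gB
  haveI : JacobsonSpace ↥(pullback gB H.hom) := LocallyOfFiniteType.jacobsonSpace e
  haveI : JacobsonSpace ↥H.left := LocallyOfFiniteType.jacobsonSpace H.hom
  have habove : ∀ b : ↥(pullback f H'.hom), IsClosed {b} → ∃ z ∈ C, q z = b := fun b hb => by
    let hbk := pointOfClosedPoint gB b hb
    have hbk' : hbk ≫ gB = 𝟙 _ := pointOfClosedPoint_comp gB b hb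
    have hy : (hbk ≫ pullback.fst f H'.hom) ≫ f = 𝟙 _ := by
      rw [Category.assoc, pullback.condition]; exact hbk'
    have ha' : (hbk ≫ pullback.snd f H'.hom) ≫ H'.hom = 𝟙 _ := by rw [Category.assoc]; exact hbk'
    obtain ⟨I₀, hI₀, l0, m0⟩ := exists_above hAF hne rfl _ hy
      (isFinLocFreeOfDeg_of_isPullback (isPullback_comap_m f _ ha' Z'.1) Z'.2)
    obtain ⟨a, ha, haI⟩ := SC.exists_hom f hZ I₀ hI₀
    let h := pullback.lift (f := gB) (g := H.hom) hbk a (hbk'.trans ha.symm)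
    have hh : h ≫ e = 𝟙 _ := by simp [h, e, ha]
    refine ⟨h (IsLocalRing.closedPoint k), (hpt h hh _ hy a ha _ ha' (pullback.lift_snd _ _ _)
      (by simp [h, x, q]) (by simp [h, u', q])).2 ⟨by rw [haI]; exact l0, by rw [haI]; exact m0⟩, ?_⟩
    rw [← Scheme.Hom.comp_apply, pullback.lift_fst]
    exact pointOfClosedPoint_apply gB b hb _
  have hbelow : ∀ z : H.left, IsClosed {z} → ∃ w ∈ C, π w = z := fun z hz => by
    let a := pointOfClosedPoint H.hom z hz
    have ha : a ≫ H.hom = 𝟙 _ := pointOfClosedPoint_comp H.hom z hz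
    obtain ⟨y, hy, I₀, hI₀, l0, m0⟩ := exists_below hAF rfl
      (isFinLocFreeOfDeg_of_isPullback (isPullback_comap_m f a ha Z.1) Z.2)
    obtain ⟨a', ha', haI⟩ := SC.exists_hom f hZ' I₀ hI₀
    let hb := pullback.lift (f := f) (g := H'.hom) y a' (hy.trans ha'.symm)
    have hb' : hb ≫ gB = 𝟙 _ := by simp [hb, gB, ha']
    let h := pullback.lift (f := gB) (g := H.hom) hb a (hb'.trans ha.symm)
    have hh : h ≫ e = 𝟙 _ := by simp [h, e, ha]
    refine ⟨h (IsLocalRing.closedPoint k), (hpt h hh y hy a ha a' ha' (pullback.lift_snd _ _ _)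
      (by simp [h, hb, x, q]) (by simp [h, hb, u', q])).2 ⟨by rw [haI]; exact l0, by rw [haI]; exact m0⟩, ?_⟩
    rw [← Scheme.Hom.comp_apply, pullback.lift_snd]
    exact pointOfClosedPoint_apply H.hom z hz _
  have hclosed : ∀ A : Set H.left, IsClosed A → IsClosed (q '' (C ∩ π ⁻¹' A)) := fun A hA =>
    q.isClosedMap _ (hC.inter (hA.preimage π.continuous))
  have hnonempty : Nonempty H.left := by
    obtain ⟨b, -, hb⟩ := nonempty_inter_closedPoints (Z := (Set.univ : Set ↥(pullback f H'.hom))) Set.univ_nonempty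
      isClosed_univ.isLocallyClosed
    obtain ⟨z, -, -⟩ := habove b hb
    exact ⟨π z⟩
  refine { toPreconnectedSpace := preconnectedSpace_iff_clopen.2 fun A hA => ?_, toNonempty := hnonempty }
  by_contra! hAne
  let CA := q '' (C ∩ π ⁻¹' A)
  let CB := q '' (C ∩ π ⁻¹' Aᶜ)
  have hcov : CA ∪ CB = Set.univ := by
    refine Set.eq_univ_of_univ_subset ?_
    rw [← closure_closedPoints]
    refine closure_minimal (fun b hb => ?_) ((hclosed A hA.1).union (hclosed _ hA.compl.1))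
    obtain ⟨z, hz, hzb⟩ := habove b hb
    by_cases hzA : π z ∈ A
    · exact Or.inl ⟨z, ⟨hz, hzA⟩, hzb⟩
    · exact Or.inr ⟨z, ⟨hz, hzA⟩, hzb⟩
  have hneA : ∀ A' : Set H.left, IsClosed A' → A'.Nonempty → (q '' (C ∩ π ⁻¹' A')).Nonempty := fun A' hA' hne' => by
    obtain ⟨z, hzA, hz⟩ := nonempty_inter_closedPoints hne' hA'.isLocallyClosed
    obtain ⟨w, hw, rfl⟩ := hbelow z hz
    exact ⟨q w, w, ⟨hw, hzA⟩, rfl⟩
  have hmeet : (CA ∩ CB).Nonempty := by
    have h := isPreconnected_closed_iff.1 (isPreconnected_univ (α := ↥(pullback f H'.hom))) CA CB (hclosed A hA.1)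
      (hclosed _ hA.compl.1) hcov.ge (by rw [Set.univ_inter]; exact hneA A hA.1 hAne.1)
      (by rw [Set.univ_inter]; exact hneA _ hA.compl.1 (Set.nonempty_compl.2 hAne.2))
    rwa [Set.univ_inter] at h
  obtain ⟨b, hb, hbc⟩ := nonempty_inter_closedPoints hmeet
    ((hclosed A hA.1).inter (hclosed _ hA.compl.1)).isLocallyClosed
  have hfib : ∀ A' : Set H.left, IsClosed A' → b ∈ q '' (C ∩ π ⁻¹' A') → ∃ z, IsClosed {z} ∧ z ∈ C ∧ π z ∈ A' ∧ q z = b :=
    fun A' hA' hb' => by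
    obtain ⟨z, hz, hzc⟩ := nonempty_inter_closedPoints (Z := C ∩ π ⁻¹' A' ∩ q ⁻¹' {b})
      (by obtain ⟨z, hz, rfl⟩ := hb'; exact ⟨z, hz, rfl⟩)
      (((hC.inter (hA'.preimage π.continuous)).inter (IsClosed.preimage q.continuous hbc)).isLocallyClosed)
    exact ⟨z, hzc, hz.1.1, hz.1.2, hz.2⟩
  obtain ⟨z0, hc0, hzC0, hzA0, hzb0⟩ := hfib A hA.1 hb.1
  obtain ⟨z1, hc1, hzC1, hzA1, hzb1⟩ := hfib Aᶜ hA.compl.1 hb.2
  let h0 := pointOfClosedPoint e z0 hc0
  let h1 := pointOfClosedPoint e z1 hc1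
  have hh0 : h0 ≫ e = 𝟙 _ := pointOfClosedPoint_comp e z0 hc0
  have hh1 : h1 ≫ e = 𝟙 _ := pointOfClosedPoint_comp e z1 hc1
  have hp0 : h0 (IsLocalRing.closedPoint k) = z0 := pointOfClosedPoint_apply e z0 hc0 _
  have hp1 : h1 (IsLocalRing.closedPoint k) = z1 := pointOfClosedPoint_apply e z1 hc1 _
  have hqq : h0 ≫ q = h1 ≫ q := by
    refine ext_of_apply_closedPoint_eq gB ?_ ?_ ?_
    · rw [Category.assoc, show q ≫ gB = e from hq]; exact hh0
    · rw [Category.assoc, show q ≫ gB = e from hq]; exact hh1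
    · rw [Scheme.Hom.comp_apply, Scheme.Hom.comp_apply, hp0, hp1, hzb0, hzb1]
  have hy : (h0 ≫ x) ≫ f = 𝟙 _ := by rw [Category.assoc, hx, hh0]
  have ha' : (h0 ≫ u') ≫ H'.hom = 𝟙 _ := by rw [Category.assoc, hu', hh0]
  have ha0 : (h0 ≫ π) ≫ H.hom = 𝟙 _ := by rw [Category.assoc]; exact hh0
  have ha1 : (h1 ≫ π) ≫ H.hom = 𝟙 _ := by rw [Category.assoc]; exact hh1
  obtain ⟨l0, m0⟩ := (hpt h0 hh0 _ hy _ ha0 _ ha' rfl rfl rfl).1 (by rw [hp0]; exact hzC0)
  obtain ⟨l1, m1⟩ := (hpt h1 hh1 _ hy _ ha1 _ ha' rfl (by simp only [x, ← Category.assoc, hqq])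
    (by simp only [u', ← Category.assoc, hqq])).1 (by rw [hp1]; exact hzC1)
  obtain ⟨s, hs, hs0, hs1⟩ := exists_pencil_set hZ hAF rfl _ hy
    (isFinLocFreeOfDeg_of_isPullback (isPullback_comap_m f _ ha' Z'.1) Z'.2) _ _ ha0 ha1 l0 l1 m0 m1
  rw [Scheme.Hom.comp_apply, hp0] at hs0
  rw [Scheme.Hom.comp_apply, hp1] at hs1
  exact hzA1 (hs.subset_isClopen hA ⟨_, hs0, hzA0⟩ hs1)

/-- All Hilbert schemes of points are connected. -/
theorem connectedSpace_hilb [IsProper f] [ConnectedSpace X] (hAF : SymProd.IsAF f) :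
    ∀ (n : ℕ), (∀ i < n, Hne f i) → ∀ (H : Over (Spec (CommRingCat.of k))) (Z : HilbD.Obj f n H),
      HilbD.IsUniversal f n H Z → ConnectedSpace H.left
  | 0, _, H, Z, hZ => connectedSpace_zero hAF hZ
  | n + 1, hne, H, Z, hZ => by
    obtain ⟨H', Z', hZ'⟩ := SC.representable_of_isAF f hAF n
    haveI := connectedSpace_hilb hAF n (fun i hi => hne i (by omega)) H' Z' hZ'
    exact connectedSpace_succ hAF (hne n (by omega)) hZ hZ'

end Conn

end HilbPts

end
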