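import Groth.Agent.HilbPtsLib.Nbhd
import Mathlib.RingTheory.Artinian.Module

/-!
# The charts cover
-/

set_option autoImplicit false
set_option linter.style.haveILetI false
set_option linter.unusedSectionVars false
set_option backward.isDefEq.respectTransparency false
set_option backward.isDefEq.respectTransparency.types false

universe u

open CategoryTheory CategoryTheory.Limits AlgebraicGeometry TensorProduct GrassLib

noncomputable section

namespace HilbPts

theorem exists_fin_surj_primes (K M : Type u) [Field K] [CommRing M] [Algebra K M] [Module.Finite K M] {d : ℕ}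
    (hd : Module.finrank K M = d) : ∃ e : Fin d → PrimeSpectrum M, Function.Surjective e := by
  classical
  haveI : IsArtinianRing M := IsArtinianRing.of_finite K M
  haveI : Finite (PrimeSpectrum M) := inferInstance
  haveI := Fintype.ofFinite (PrimeSpectrum M)
  let I : PrimeSpectrum M → Ideal M := fun q => q.asIdeal
  have hc : Pairwise (fun a b => IsCoprime (I a) (I b)) := fun a b hab =>
    Ideal.isCoprime_iff_sup_eq.2 ((IsArtinianRing.isMaximal_of_isPrime a.asIdeal).coprime_of_ne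
      (IsArtinianRing.isMaximal_of_isPrime b.asIdeal) fun h => hab (PrimeSpectrum.ext h))
  let L : M →ₗ[K] (∀ q, M ⧸ I q) := LinearMap.pi fun q => (Ideal.Quotient.mkₐ K (I q)).toLinearMap
  have hL : Function.Surjective L := fun g => by
    obtain ⟨z, hz⟩ := Ideal.quotientInfToPiQuotient_surj hc g
    obtain ⟨y, rfl⟩ := Ideal.Quotient.mk_surjective z
    exact ⟨y, by rw [← hz]; rfl⟩
  have h1 := LinearMap.finrank_le_finrank_of_surjective hL
  rw [Module.finrank_pi_fintype, hd] at h1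
  have h2 : Fintype.card (PrimeSpectrum M) ≤ d := le_trans (by
    rw [← Finset.card_univ, Finset.card_eq_sum_ones]
    exact Finset.sum_le_sum fun q _ => by
      haveI : Nontrivial (M ⧸ I q) := Ideal.Quotient.nontrivial_iff.2 q.isPrime.ne_top
      exact Nat.one_le_iff_ne_zero.2 (Module.finrank_pos (R := K) (M := M ⧸ I q)).ne') h1
  rcases isEmpty_or_nonempty (PrimeSpectrum M) with he | he
  · refine ⟨fun i => False.elim ?_, fun q => (IsEmpty.false q).elim⟩
    haveI : Subsingleton M := not_nontrivial_iff_subsingleton.1 fun hn =>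
      IsEmpty.false (Classical.arbitrary (PrimeSpectrum M))
    rw [Module.finrank_zero_of_subsingleton] at hd
    exact Nat.not_lt_zero i.1 (hd.symm ▸ i.2)
  · obtain ⟨ι⟩ := Function.Embedding.nonempty_of_card_le (α := PrimeSpectrum M) (β := Fin d) (by simpa using h2)
    exact ⟨Function.invFun ι, Function.invFun_surjective ι.injective⟩

theorem exists_fin_surj {K : Type u} [Field K] {Z : Scheme.{u}} (π : Z ⟶ Spec (.of K)) {d : ℕ}
    (h : Mor2.IsFinLocFreeOfDeg d π) : ∃ e : Fin d → Z, Function.Surjective e := by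
  haveI := h.1.1
  haveI := h.1.2.1
  haveI : IsAffine Z := isAffine_of_isAffineHom π
  obtain ⟨φ, hφ⟩ := Spec.map_surjective (Z.isoSpec.inv ≫ π)
  letI : Algebra K Γ(Z, ⊤) := φ.hom.toAlgebra
  have e : Spec.map (CommRingCat.ofHom (algebraMap K Γ(Z, ⊤))) = Z.isoSpec.inv ≫ π := hφ
  haveI : Module.Finite K Γ(Z, ⊤) := RingHom.finite_algebraMap.1 ((IsFinite.SpecMap_iff _).1 (by rw [hφ]; infer_instance))
  have hd : Module.finrank K Γ(Z, ⊤) = d := by
    have h1 := Scheme.Hom.finrank_SpecMap_algebraMap K Γ(Z, ⊤) (IsLocalRing.closedPoint K)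
    rw [e, Scheme.Hom.finrank_comp_left_of_isIso, Module.rankAtStalk_eq_finrank_of_free] at h1
    simp only [Pi.natCast_apply, Nat.cast_id] at h1
    exact h1.symm.trans (h.2 _)
  obtain ⟨g, hg⟩ := exists_fin_surj_primes K Γ(Z, ⊤) hd
  refine ⟨fun i => Z.isoSpec.inv (g i), fun z => ?_⟩
  obtain ⟨i, hi⟩ := hg (Z.isoSpec.hom z)
  refine ⟨i, ?_⟩
  show Z.isoSpec.inv (g i) = z
  rw [hi, ← Scheme.Hom.comp_apply, Iso.hom_inv_id]
  rfl

/-- Finitely many points of an affine open inside another open lie in a common affine open inside both. -/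
theorem exists_affine_le {X : Scheme.{u}} {W : X.Opens} (hW : IsAffineOpen W) (V : X.Opens) {ι : Type*} [Finite ι]
    (x : ι → X) (hx : ∀ i, x i ∈ W) (hxV : ∀ i, x i ∈ V) :
    ∃ W' : X.Opens, IsAffineOpen W' ∧ W' ≤ V ∧ ∀ i, x i ∈ W' := by
  classical
  haveI := Fintype.ofFinite ι
  let q : ι → PrimeSpectrum Γ(X, W) := fun i => hW.primeIdealOf ⟨x i, hx i⟩
  let O : Set (PrimeSpectrum Γ(X, W)) := hW.fromSpec ⁻¹' V
  obtain ⟨c, hc⟩ := (PrimeSpectrum.isClosed_iff_zeroLocus_ideal Oᶜ).1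
    (V.2.preimage hW.fromSpec.continuous).isClosed_compl
  have hn : ¬ (c : Set Γ(X, W)) ⊆ ⋃ i ∈ (↑(Finset.univ : Finset ι) : Set ι), ((q i).asIdeal : Set Γ(X, W)) := by
    intro hsub
    rcases isEmpty_or_nonempty ι with he | ⟨⟨i₀⟩⟩
    · simpa using hsub c.zero_mem
    · obtain ⟨i, -, hi⟩ := (Ideal.subset_union_prime (f := fun i => (q i).asIdeal) i₀ i₀
        fun i _ _ _ => (q i).isPrime).1 hsub
      have : q i ∈ Oᶜ := hc ▸ hi
      exact this (show hW.fromSpec (q i) ∈ V by rw [hW.fromSpec_primeIdealOf]; exact hxV i)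
  obtain ⟨a, ha, ha'⟩ := Set.not_subset.1 hn
  refine ⟨X.basicOpen a, hW.basicOpen a, fun y hy => ?_, fun i => ?_⟩
  · have hyW : y ∈ W := X.basicOpen_le a hy
    by_contra hyV
    have h1 : hW.primeIdealOf ⟨y, hyW⟩ ∈ Oᶜ := fun (h : hW.fromSpec (hW.primeIdealOf ⟨y, hyW⟩) ∈ V) => hyV (by
      rw [hW.fromSpec_primeIdealOf] at h; exact h)
    rw [hc] at h1
    have h2 : hW.primeIdealOf ⟨y, hyW⟩ ∈ PrimeSpectrum.basicOpen a := by
      show hW.primeIdealOf ⟨y, hyW⟩ ∈ (PrimeSpectrum.basicOpen a : Set _)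
      rw [← hW.fromSpec_preimage_basicOpen]
      show hW.fromSpec _ ∈ X.basicOpen a
      rw [hW.fromSpec_primeIdealOf]
      exact hy
    exact h2 (h1 ha)
  · have h2 : q i ∈ hW.fromSpec ⁻¹ᵁ X.basicOpen a := by
      rw [hW.fromSpec_preimage_basicOpen]
      intro h
      exact ha' (Set.mem_biUnion (Finset.mem_coe.2 (Finset.mem_univ i)) h)
    have h3 : hW.fromSpec (q i) ∈ X.basicOpen a := h2
    rwa [hW.fromSpec_primeIdealOf] at h3

variable {X S : Scheme.{u}} {f : X ⟶ S}

variable (f) in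
/-- The chart of compatible affine opens. -/
def mkCh (U : S.affineOpens) (W : {W : X.affineOpens // (W : X.Opens) ≤ f ⁻¹ᵁ U}) : Ch f :=
  letI : Algebra Γ(S, U) Γ(X, W.1) := (f.appLE U W.1 W.2).hom.toAlgebra
  { A := Γ(S, U)
    B := Γ(X, W.1)
    iU := U.2.fromSpec
    iW := W.1.2.fromSpec
    fac := (U.2.SpecMap_appLE_fromSpec f W.1.2 W.2).symm }

variable (f) (d : ℕ) in
/-- The indices of the charts. -/
abbrev Idx : Type u := Σ (U : S.affineOpens) (W : {W : X.affineOpens // (W : X.Opens) ≤ f ⁻¹ᵁ U}), Fin d → Γ(X, W.1)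

variable [IsSeparated f] {d : ℕ}

set_option maxHeartbeats 1000000 in
theorem exists_inAt (h : ∀ (s : S) (x : Fin d → X), (∀ i, f.base (x i) = s) → ∃ U : X.Opens, IsAffineOpen U ∧ ∀ i, x i ∈ U)
    {T : Scheme.{u}} (P : HPt f d T) (t : T) : ∃ i : Idx f d, InAt (mkCh f i.1 i.2.1) i.2.2 P t := by
  obtain ⟨U, hU, hsU, -⟩ := exists_isAffineOpen_mem_and_subset (x := P.g t) (U := ⊤) trivial
  let K : Type u := T.residueField t
  let k : Spec (.of K) ⟶ T := T.fromSpecResidueField t
  have hk : ∀ z, k z = t := fun z => T.fromSpecResidueField_apply t z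
  obtain ⟨e, he⟩ := exists_fin_surj (K := T.residueField t) _ (P.map k).prop
  let φX := (P.map k).I.subschemeι ≫ pullback.fst f (P.map k).g
  have hfib : ∀ z, f.base (φX z) = P.g t := fun z => by
    have e1 : φX ≫ f = ((P.map k).I.subschemeι ≫ pullback.snd f (P.map k).g ≫ k) ≫ P.g := by
      show ((P.map k).I.subschemeι ≫ pullback.fst f (P.map k).g) ≫ f = _
      rw [Category.assoc, pullback.condition]
      simp [Category.assoc]
    refine (congrArg (fun g : _ ⟶ S => g z) e1).trans ?_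
    exact congrArg P.g (hk _)
  obtain ⟨W₀, hW₀, hW₀x⟩ := h (P.g t) (fun i => φX (e i)) fun i => hfib _
  obtain ⟨W, hW, hWle, hWx⟩ := exists_affine_le hW₀ (f ⁻¹ᵁ U) (fun i => φX (e i)) hW₀x fun i => by
    show f (φX (e i)) ∈ U
    rw [show f (φX (e i)) = P.g t from hfib _]
    exact hsU
  let p : Ch f := mkCh f ⟨U, hU⟩ ⟨⟨W, hW⟩, hWle⟩
  have hr : Set.range (k ≫ P.g) ⊆ Set.range p.iU := by
    rintro _ ⟨z, rfl⟩
    refine hU.range_fromSpec.ge ?_
    show P.g (k z) ∈ U
    rw [hk]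
    exact hsU
  let b := IsOpenImmersion.lift p.iU (k ≫ P.g) hr
  letI : Algebra p.A K := (Spec.preimage b).hom.toAlgebra
  have hg : (P.map k).g = gR p K := by
    show k ≫ P.g = Spec.map (Spec.preimage b) ≫ p.iU
    rw [Spec.map_preimage, IsOpenImmersion.lift_fac]
  obtain ⟨I, hI, hP⟩ := exists_comap p (P.map k) hg
  have hs : Supp p I := by
    have : Supp p (P.map k).I := by
      rintro _ ⟨z, rfl⟩
      obtain ⟨i, rfl⟩ := he z
      exact hW.range_fromSpec.ge (hWx i)
    rw [hP] at this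
    exact this
  obtain ⟨J, hJ⟩ := exists_sid (I.comap (eR p K))
  obtain ⟨f1, f2, f3⟩ := rank_of_supp p hI hs hJ
  obtain ⟨x, hx⟩ := exists_isIn (toGrass J f3)
  rw [isIn_toGrass_iff] at hx
  refine ⟨⟨⟨U, hU⟩, ⟨⟨W, hW⟩, hWle⟩, x⟩, ?_⟩
  obtain ⟨φ, hφ⟩ := exists_ptsHom hx
  have key := inAt_of_field p x P (K := T.residueField t) k (Spec.map (CommRingCat.ofHom φ.toRingHom))
    ((map_univPt p x φ).trans ((pt_congr p x hφ _ hx).trans ((eq_pt_of_supp p x hI hs hJ hx).symm.trans hP.symm)))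
  rwa [hk] at key

end HilbPts

end
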