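import Groth.Agent.HilbPtsLib.DivDeg
import Groth.Prelude.Def_W4c6dblnestedhilbptsFlags

/-!
# Flags of relative divisors
-/

set_option autoImplicit false
set_option linter.style.haveILetI false
set_option backward.isDefEq.respectTransparency false
set_option backward.isDefEq.respectTransparency.types false

universe u

open CategoryTheory CategoryTheory.Limits AlgebraicGeometry TopologicalSpace

noncomputable section

namespace HilbPts.SC

variable {X S : Scheme.{u}} (f : X ⟶ S) [SmoothOfRelativeDimension 1 f]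

theorem eq_top_of_deg_zero (D : X.IdealSheafData) (h : Mor2.IsFinLocFreeOfDeg 0 (D.subschemeι ≫ f)) : D = ⊤ := by
  obtain ⟨⟨h1, h2, h3⟩, h4⟩ := h
  rw [← Scheme.IdealSheafData.support_eq_bot_iff]
  refine SetLike.ext fun x => iff_of_false (fun hx => ?_) (fun hx => hx)
  rw [← SetLike.mem_coe, ← Scheme.IdealSheafData.range_subschemeι] at hx
  obtain ⟨z, -⟩ := hx
  haveI := h1
  haveI := h2
  have := Scheme.Hom.one_le_finrank_map (D.subschemeι ≫ f) z
  rw [h4] at this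
  omega

theorem eq_of_le_of_deg (I J : X.IdealSheafData) (hle : I ≤ J) (d : ℕ)
    (hI : Mor2.IsFinLocFreeOfDeg d (I.subschemeι ≫ f)) (hJ : Mor2.IsFinLocFreeOfDeg d (J.subschemeι ≫ f)) : I = J := by
  obtain ⟨D, hD, hIJ⟩ := exists_div f J I hle d d hJ hI
  rw [Nat.sub_self] at hD
  rw [hIJ, eq_top_of_deg_zero f D hD, ← Scheme.IdealSheafData.one_eq_top, mul_one]

theorem cancel_left {M K E : X.IdealSheafData} (hE : Mor2.IsFinLocFree (E.subschemeι ≫ f)) (h : E * M = E * K) :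
    M = K :=
  ModPairLib.mul_cancel (effCartier_of_finLocFree f E hE).1 (by rw [mul_comm M, mul_comm K, h])

omit [SmoothOfRelativeDimension 1 f] in
theorem mul_le_left' (I J : X.IdealSheafData) : I * J ≤ I := fun U => by
  rw [Scheme.IdealSheafData.ideal_mul, Pi.mul_apply]; exact Ideal.mul_le_left

variable (μ : YoungDiagram) (n : ℕ × ℕ → ℕ)

theorem deg_add (hn : HilbD.IsRevPlanePartition μ n) {c' c : ℕ × ℕ} (h' : c' ∈ μ) (hc : c ∈ μ) (h : c' ≤ c) :
    n c' + (n c - n c') = n c := by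
  have := hn h' hc h
  omega

theorem edges_exists_unique (h00 : ((0, 0) : ℕ × ℕ) ∈ μ)
    (Z : ∀ c : ℕ × ℕ, c ∈ μ → X.IdealSheafData) (hZ : HilbD.IsDnFlag f μ n Z) :
    (∃! E : HilbD.DnEdgeData μ X, E.IsOfType f n ∧ E.IsEdgesOf h00 Z) ∧
      ∀ E : HilbD.DnEdgeData μ X, E.IsOfType f n → E.IsEdgesOf h00 Z →
        ∀ (c : ℕ × ℕ) (hc : c ∈ μ) (hi : 1 ≤ c.1) (hj : 1 ≤ c.2), E.gammaOne c hc hi hj = E.gammaTwo c hc hi hj := by
  obtain ⟨hdeg, hmono⟩ := hZ
  have hu : ∀ c : ℕ × ℕ, ((c.1 - 1, c.2) : ℕ × ℕ) ≤ c := fun c => ⟨Nat.sub_le _ _, le_rfl⟩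
  have hl : ∀ c : ℕ × ℕ, ((c.1, c.2 - 1) : ℕ × ℕ) ≤ c := fun c => ⟨le_rfl, Nat.sub_le _ _⟩
  refine ⟨?_, ?_⟩
  · choose V hV hV' using fun (c : ℕ × ℕ) (hc : c ∈ μ) =>
      exists_div f _ _ (hmono (c.1 - 1, c.2) c (HilbD.mem_up hc) hc (hu c)) _ _ (hdeg _ (HilbD.mem_up hc)) (hdeg c hc)
    choose H hH hH' using fun (c : ℕ × ℕ) (hc : c ∈ μ) =>
      exists_div f _ _ (hmono (c.1, c.2 - 1) c (HilbD.mem_left hc) hc (hl c)) _ _ (hdeg _ (HilbD.mem_left hc)) (hdeg c hc)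
    refine ⟨⟨Z (0, 0) h00, fun c hc _ => V c hc, fun c hc _ => H c hc⟩,
      ⟨⟨hdeg _ h00, fun c hc _ => hV c hc, fun c hc _ => hH c hc⟩, rfl, fun c hc _ => hV' c hc, fun c hc _ => hH' c hc⟩, ?_⟩
    rintro E ⟨-, hb, hv, hh⟩
    refine HilbD.DnEdgeData.ext hb.symm ?_ ?_
    · funext c hc hi
      exact cancel_left f (hdeg _ (HilbD.mem_up hc)).1 ((hv c hc hi).symm.trans (hV' c hc))
    · funext c hc hj
      exact cancel_left f (hdeg _ (HilbD.mem_left hc)).1 ((hh c hc hj).symm.trans (hH' c hc))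
  · rintro E - ⟨-, hv, hh⟩ c hc hi hj
    refine cancel_left f (hdeg (c.1 - 1, c.2 - 1) (HilbD.mem_left (HilbD.mem_up hc))).1 ?_
    have e1 : Z c hc = Z (c.1 - 1, c.2 - 1) (HilbD.mem_left (HilbD.mem_up hc)) *
        E.gammaOne c hc hi hj := by
      rw [hv c hc hi, hh (c.1 - 1, c.2) (HilbD.mem_up hc) hj, mul_assoc, mul_comm (E.horiz _ _ _)]
      rfl
    have e2 : Z c hc = Z (c.1 - 1, c.2 - 1) (HilbD.mem_left (HilbD.mem_up hc)) *
        E.gammaTwo c hc hi hj := by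
      rw [hh c hc hj, hv (c.1, c.2 - 1) (HilbD.mem_left hc) hi, mul_assoc, mul_comm (E.vert _ _ _)]
      rfl
    exact e1.symm.trans e2

open Classical in
/-- The vertical step, extended by the unit ideal. -/
def vertT (E : HilbD.DnEdgeData μ X) (c : ℕ × ℕ) : X.IdealSheafData :=
  if h : c ∈ μ ∧ 1 ≤ c.1 then E.vert c h.1 h.2 else 1

open Classical in
/-- The horizontal step, extended by the unit ideal. -/
def horizT (E : HilbD.DnEdgeData μ X) (c : ℕ × ℕ) : X.IdealSheafData :=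
  if h : c ∈ μ ∧ 1 ≤ c.2 then E.horiz c h.1 h.2 else 1

/-- The flag obtained by adding the steps. -/
def flagT (E : HilbD.DnEdgeData μ X) : ℕ → ℕ → X.IdealSheafData
  | 0, 0 => E.base
  | i + 1, 0 => flagT E i 0 * vertT μ E (i + 1, 0)
  | i, j + 1 => flagT E i j * horizT μ E (i, j + 1)

omit [SmoothOfRelativeDimension 1 f] in
theorem flagT_succ (E : HilbD.DnEdgeData μ X) (i j : ℕ) :
    flagT μ E i (j + 1) = flagT μ E i j * horizT μ E (i, j + 1) := by
  cases i <;> rw [flagT]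

theorem flag_exists_unique (h00 : ((0, 0) : ℕ × ℕ) ∈ μ) (hn : HilbD.IsRevPlanePartition μ n)
    (E : HilbD.DnEdgeData μ X) (hE : E.IsOfType f n)
    (hcomm : ∀ (c : ℕ × ℕ) (hc : c ∈ μ) (hi : 1 ≤ c.1) (hj : 1 ≤ c.2), E.gammaOne c hc hi hj ≤ E.gammaTwo c hc hi hj) :
    ∃! Z : ∀ c : ℕ × ℕ, c ∈ μ → X.IdealSheafData, HilbD.IsDnFlag f μ n Z ∧ E.IsEdgesOf h00 Z := by
  obtain ⟨hb, hv, hh⟩ := hE
  have hsq : ∀ i j, ((i + 1, j + 1) : ℕ × ℕ) ∈ μ →
      vertT μ E (i + 1, j + 1) * horizT μ E (i, j + 1) = horizT μ E (i + 1, j + 1) * vertT μ E (i + 1, j) := by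
    intro i j hc
    have hup : ((i, j + 1) : ℕ × ℕ) ∈ μ := HilbD.mem_up (c := (i + 1, j + 1)) hc
    have hle : ((i + 1, j) : ℕ × ℕ) ∈ μ := HilbD.mem_left (c := (i + 1, j + 1)) hc
    rw [vertT, horizT, horizT, vertT, dif_pos ⟨hc, Nat.succ_pos _⟩, dif_pos ⟨hup, Nat.succ_pos _⟩,
      dif_pos ⟨hc, Nat.succ_pos _⟩, dif_pos ⟨hle, Nat.succ_pos _⟩]
    have h1 := isFinLocFreeOfDeg_mul f _ _ _ _ (hv (i + 1, j + 1) hc (Nat.succ_pos _)) (hh (i, j + 1) hup (Nat.succ_pos _))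
    have h2 := isFinLocFreeOfDeg_mul f _ _ _ _ (hh (i + 1, j + 1) hc (Nat.succ_pos _)) (hv (i + 1, j) hle (Nat.succ_pos _))
    simp only [Nat.add_sub_cancel] at h1 h2
    have hd : ((i, j) : ℕ × ℕ) ∈ μ := HilbD.mem_left (c := (i, j + 1)) hup
    have e1 := hn hd hup ⟨le_rfl, Nat.le_succ _⟩
    have e2 := hn hd hle ⟨Nat.le_succ _, le_rfl⟩
    have e3 := hn hup hc ⟨Nat.le_succ _, le_rfl⟩
    have e4 := hn hle hc ⟨le_rfl, Nat.le_succ _⟩
    refine eq_of_le_of_deg f _ _ (hcomm (i + 1, j + 1) hc (Nat.succ_pos _) (Nat.succ_pos _)) _ h1 ?_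
    convert h2 using 1
    omega
  have hstep : ∀ j i, ((i + 1, j) : ℕ × ℕ) ∈ μ → flagT μ E (i + 1) j = flagT μ E i j * vertT μ E (i + 1, j) := by
    intro j
    induction j with
    | zero => intro i _; rw [flagT]
    | succ j ih =>
      intro i hc
      rw [flagT, ih i (HilbD.mem_left (c := (i + 1, j + 1)) hc), flagT, mul_assoc, mul_assoc,
        mul_comm (horizT μ E (i, j + 1)), hsq i j hc, mul_comm (vertT μ E (i + 1, j))]
  have hdeg : ∀ j i, ((i, j) : ℕ × ℕ) ∈ μ → Mor2.IsFinLocFreeOfDeg (n (i, j)) ((flagT μ E i j).subschemeι ≫ f) := by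
    intro j
    induction j with
    | zero =>
      intro i
      induction i with
      | zero => intro _; rw [flagT]; exact hb
      | succ i ih =>
        intro hc
        have hup : ((i, 0) : ℕ × ℕ) ∈ μ := HilbD.mem_up (c := (i + 1, 0)) hc
        rw [flagT, vertT, dif_pos ⟨hc, Nat.succ_pos _⟩, ← deg_add μ n hn hup hc ⟨Nat.le_succ _, le_rfl⟩]
        exact isFinLocFreeOfDeg_mul f _ _ _ _ (ih hup) (hv (i + 1, 0) hc (Nat.succ_pos _))
    | succ j ih =>
      intro i hc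
      have hle : ((i, j) : ℕ × ℕ) ∈ μ := HilbD.mem_left (c := (i, j + 1)) hc
      rw [flagT, horizT, dif_pos ⟨hc, Nat.succ_pos _⟩, ← deg_add μ n hn hle hc ⟨le_rfl, Nat.le_succ _⟩]
      exact isFinLocFreeOfDeg_mul f _ _ _ _ (ih i hle) (hh (i, j + 1) hc (Nat.succ_pos _))
  have hmono : ∀ i j i' j', i ≤ i' → j ≤ j' → ((i', j') : ℕ × ℕ) ∈ μ → flagT μ E i' j' ≤ flagT μ E i j := by
    intro i j i' j' hi hj
    induction j', hj using Nat.le_induction with
    | base =>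
      induction i', hi using Nat.le_induction with
      | base => exact fun _ => le_rfl
      | succ i' _ ih =>
        intro hc
        rw [hstep j i' hc]
        exact (mul_le_left' _ _).trans (ih (HilbD.mem_up (c := (i' + 1, j)) hc))
    | succ j' _ ih =>
      intro hc
      rw [flagT_succ]
      exact (mul_le_left' _ _).trans (ih (HilbD.mem_left (c := (i', j' + 1)) hc))
  refine ⟨fun c _ => flagT μ E c.1 c.2, ⟨⟨fun c hc => hdeg c.2 c.1 hc, fun c c' _ hc' h => hmono _ _ _ _ h.1 h.2 hc'⟩,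
    by show flagT μ E 0 0 = E.base; rw [flagT], ?_, ?_⟩, ?_⟩
  · rintro ⟨i, j⟩ hc hi
    obtain ⟨i, rfl⟩ := Nat.exists_eq_add_of_le' hi
    show flagT μ E (i + 1) j = flagT μ E (i + 1 - 1) j * _
    rw [hstep j i hc, vertT, dif_pos ⟨hc, hi⟩]
    rfl
  · rintro ⟨i, j⟩ hc hj
    obtain ⟨j, rfl⟩ := Nat.exists_eq_add_of_le' hj
    show flagT μ E i (j + 1) = flagT μ E i (j + 1 - 1) * _
    rw [flagT_succ, horizT, dif_pos ⟨hc, hj⟩]
    rfl
  · rintro Z ⟨-, hZ0, hZv, hZh⟩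
    have key : ∀ j i (hc : ((i, j) : ℕ × ℕ) ∈ μ), Z (i, j) hc = flagT μ E i j := by
      intro j
      induction j with
      | zero =>
        intro i
        induction i with
        | zero => intro hc; rw [flagT]; exact hZ0
        | succ i ih =>
          intro hc
          rw [flagT, vertT, dif_pos ⟨hc, Nat.succ_pos _⟩, ← ih (HilbD.mem_up (c := (i + 1, 0)) hc)]
          exact hZv (i + 1, 0) hc (Nat.succ_pos _)
      | succ j ih =>
        intro i hc
        rw [flagT, horizT, dif_pos ⟨hc, Nat.succ_pos _⟩, ← ih i (HilbD.mem_left (c := (i, j + 1)) hc)]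
        exact hZh (i, j + 1) hc (Nat.succ_pos _)
    funext c hc
    exact key c.2 c.1 hc

end HilbPts.SC

end
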