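import Groth.Agent.HilbPtsLib.ReducedPt
import Groth.Agent.HilbPtsLib.ConnHilb
import Groth.Agent.CommAlgDim.Regular
import Groth.Agent.CommAlgDim.GlobalDim
import Groth.Agent.FibDimLib.Comps
import Groth.Agent.FibDimLib.Formula
import Groth.Agent.WeilResLib.Fibre

/-!
# Hilbert schemes of points of smooth surfaces
-/

set_option autoImplicit false
set_option linter.style.haveILetI false
set_option linter.unusedSectionVars false
set_option backward.isDefEq.respectTransparency false
set_option backward.isDefEq.respectTransparency.types false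

universe u

open CategoryTheory CategoryTheory.Limits AlgebraicGeometry TopologicalSpace TensorProduct GrassLib

noncomputable section

namespace HilbPts.Fogarty

theorem nonempty_stalk_equiv {A : Type u} [CommRing A] {X : Scheme.{u}} (j : Spec (CommRingCat.of A) ⟶ X)
    [IsOpenImmersion j] (P : PrimeSpectrum A) :
    Nonempty (Localization.AtPrime P.asIdeal ≃+* X.presheaf.stalk (j P)) := by
  letI := StructureSheaf.stalkAlgebra A P
  exact ⟨(IsLocalization.algEquiv P.asIdeal.primeCompl (Localization.AtPrime P.asIdeal)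
    ((Spec.structureSheaf A).presheaf.stalk P)).toRingEquiv.trans
    (asIso (j.stalkMap P)).symm.commRingCatIsoToRingEquiv⟩

theorem twoReg_of_regular {R : Type u} [CommRing R] [IsRegularLocalRing R] (h : ringKrullDim R = 2) :
    Tangent.TwoReg R := by
  have hs : (IsLocalRing.maximalIdeal R).spanFinrank = 2 := by
    have := IsRegularLocalRing.spanFinrank_maximalIdeal (R := R)
    rw [h] at this
    exact_mod_cast this
  haveI := CommAlgDim.isDomain_of_isRegularLocalRing R
  obtain ⟨G, hGc, hG⟩ := Submodule.FG.exists_span_set_encard_eq_spanFinrank (IsNoetherian.noetherian (IsLocalRing.maximalIdeal R))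
  rw [hs] at hGc
  obtain ⟨u, v, huv, rfl⟩ := Set.encard_eq_two.1 (by exact_mod_cast hGc)
  have hm : IsLocalRing.maximalIdeal R = Ideal.span {u, v} := hG.symm
  have hone : ∀ w : R, IsLocalRing.maximalIdeal R ≠ Ideal.span {w} := fun w hw => by
    have := Submodule.spanFinrank_span_le_ncard_of_finite (R := R) (M := R) (Set.finite_singleton w)
    change (Ideal.span {w}).spanFinrank ≤ _ at this
    rw [← hw, hs, Set.ncard_singleton] at this
    omega
  have hu : u ∈ IsLocalRing.maximalIdeal R := hm ▸ Ideal.subset_span (by simp)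
  have hu2 : u ∉ IsLocalRing.maximalIdeal R ^ 2 := fun hmem => by
    refine hone v (le_antisymm ?_ ((Ideal.span_singleton_le_iff_mem _).2 (hm ▸ Ideal.subset_span (by simp))))
    refine Submodule.le_of_le_smul_of_le_jacobson_bot (I := IsLocalRing.maximalIdeal R) (IsNoetherian.noetherian _)
      (IsLocalRing.jacobson_eq_maximalIdeal _ bot_ne_top).ge ?_
    conv_lhs => rw [hm]
    refine Ideal.span_le.2 ?_
    rintro x (rfl | rfl)
    · exact Submodule.mem_sup_right (by rw [smul_eq_mul, ← pow_two]; exact hmem)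
    · exact Submodule.mem_sup_left (Ideal.mem_span_singleton_self _)
  haveI := CommAlgDim.isRegularLocalRing_quotient_singleton hu hu2
  haveI := CommAlgDim.isDomain_of_isRegularLocalRing (R ⧸ Ideal.span {u})
  haveI : (Ideal.span {u}).IsPrime := (Ideal.Quotient.isDomain_iff_prime _).1 inferInstance
  refine ⟨u, v, IsRegular.of_ne_zero (fun h0 => hu2 (by simp [h0])), fun a ha => ?_, hm⟩
  refine ((Ideal.IsPrime.mem_or_mem ‹_› ha).resolve_left fun hv => hone u ?_)
  rw [hm]
  exact le_antisymm (Ideal.span_le.2 (by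
    rintro x (rfl | rfl)
    · exact Ideal.mem_span_singleton_self _
    · exact hv)) (Ideal.span_mono (by simp))

variable {k : Type u} [Field k] {X : Scheme.{u}} {f : X ⟶ Spec (CommRingCat.of k)}

/-- Closed points of the source are regular of dimension two. -/
def IsSurf (f : X ⟶ Spec (CommRingCat.of k)) : Prop :=
  ∀ x : X, IsClosed ({x} : Set X) → IsRegularLocalRing (X.presheaf.stalk x) ∧ ringKrullDim (X.presheaf.stalk x) = 2

variable [LocallyOfFiniteType f]

theorem isClosed_image {A : Type u} [CommRing A] {Y : Scheme.{u}} [JacobsonSpace Y] (j : Spec (CommRingCat.of A) ⟶ Y)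
    [IsOpenImmersion j] (P : PrimeSpectrum A) [P.asIdeal.IsMaximal] : IsClosed ({j P} : Set Y) := by
  refine isClosed_singleton_of_isLocallyClosed_singleton ?_
  rw [← Set.image_singleton]
  exact ((PrimeSpectrum.isClosed_singleton_iff_isMaximal P).2 ‹_›).isLocallyClosed.image
    j.isOpenEmbedding.isInducing j.isOpenEmbedding.isOpen_range.isLocallyClosed

variable {B : Type u} [CommRing B] [Algebra k B]

include f in
theorem height_char (iW : Spec (CommRingCat.of B) ⟶ X) [IsOpenImmersion iW] (hs : IsSurf f) (χ : B →ₐ[k] k) : ((2 : ℕ) : ℕ∞) ≤ (RingHom.ker χ).height := by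
  haveI : JacobsonSpace X := LocallyOfFiniteType.jacobsonSpace f
  haveI hmax : (RingHom.ker χ).IsMaximal :=
    RingHom.ker_isMaximal_of_surjective _ fun c => ⟨algebraMap k B c, χ.commutes c⟩
  let P : PrimeSpectrum B := ⟨RingHom.ker χ, hmax.isPrime⟩
  haveI : P.asIdeal.IsMaximal := hmax
  obtain ⟨e⟩ := nonempty_stalk_equiv iW P
  have h := IsLocalization.AtPrime.ringKrullDim_eq_height P.asIdeal (Localization.AtPrime P.asIdeal)
  rw [ringKrullDim_eq_of_ringEquiv e, (hs _ (isClosed_image iW P)).2] at h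
  have h2 : ((2 : ℕ∞) : WithBot ℕ∞) = (RingHom.ker χ).height := h
  exact (WithBot.coe_eq_coe.1 h2).le

include f in
theorem twoReg_chart (hs : IsSurf f) (P : Ideal (k ⊗[k] B)) [hP : P.IsMaximal] (j : Spec (CommRingCat.of B) ⟶ X)
    [IsOpenImmersion j] : Tangent.TwoReg (Localization.AtPrime P) := by
  haveI : JacobsonSpace X := LocallyOfFiniteType.jacobsonSpace f
  let ι : Spec (CommRingCat.of (k ⊗[k] B)) ⟶ X :=
    Spec.map (Algebra.TensorProduct.lid k B).symm.toRingEquiv.toCommRingCatIso.hom ≫ j
  let Q : PrimeSpectrum (k ⊗[k] B) := ⟨P, hP.isPrime⟩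
  haveI : Q.asIdeal.IsMaximal := hP
  obtain ⟨e⟩ := nonempty_stalk_equiv ι Q
  obtain ⟨hreg, hd⟩ := hs _ (isClosed_image ι Q)
  haveI := hreg
  haveI : IsRegularLocalRing (Localization.AtPrime P) := IsRegularLocalRing.of_ringEquiv e.symm
  exact twoReg_of_regular ((ringKrullDim_eq_of_ringEquiv e).trans hd)

/-- Generators of the maximal ideal of a localisation from the cotangent space. -/
theorem spanFinrank_le_cotangent {A : Type u} [CommRing A] [Algebra k A] [IsNoetherianRing A] (M : Ideal A)
    [M.IsMaximal] [Module.Finite k M.Cotangent] :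
    (IsLocalRing.maximalIdeal (Localization.AtPrime M)).spanFinrank ≤ Module.finrank k M.Cotangent := by
  classical
  let R := Localization.AtPrime M
  let b := Module.finBasis k M.Cotangent
  choose m hm using fun i => M.toCotangent_surjective (b i)
  let S : Set R := Set.range fun i => algebraMap A R (m i)
  have hle : IsLocalRing.maximalIdeal R ≤ Ideal.span S := by
    refine Submodule.le_of_le_smul_of_le_jacobson_bot (I := IsLocalRing.maximalIdeal R) (IsNoetherian.noetherian _)
      (IsLocalRing.jacobson_eq_maximalIdeal _ bot_ne_top).ge ?_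
    conv_lhs => rw [← Localization.AtPrime.map_eq_maximalIdeal]
    refine Ideal.map_le_iff_le_comap.2 fun a ha => ?_
    have h1 : M.toCotangent ⟨a, ha⟩ = M.toCotangent (∑ i, algebraMap k A (b.repr (M.toCotangent ⟨a, ha⟩) i) • m i) := by
      rw [map_sum]
      conv_lhs => rw [← b.sum_repr (M.toCotangent ⟨a, ha⟩)]
      refine Finset.sum_congr rfl fun i _ => ?_
      rw [map_smul, hm, algebraMap_smul]
    rw [Ideal.toCotangent_eq] at h1
    rw [Ideal.mem_comap]
    refine Submodule.mem_sup.2 ⟨algebraMap A R (∑ i, algebraMap k A (b.repr (M.toCotangent ⟨a, ha⟩) i) * (m i : A)), ?_,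
      algebraMap A R (a - ∑ i, algebraMap k A (b.repr (M.toCotangent ⟨a, ha⟩) i) * (m i : A)), ?_, ?_⟩
    · rw [map_sum]
      exact Submodule.sum_mem _ fun i _ => by rw [map_mul]; exact Ideal.mul_mem_left _ _ (Ideal.subset_span ⟨i, rfl⟩)
    · rw [smul_eq_mul, ← Localization.AtPrime.map_eq_maximalIdeal, ← Ideal.map_mul, ← pow_two]
      refine Ideal.mem_map_of_mem _ ?_
      simpa [Algebra.smul_def] using h1
    · rw [← map_add, add_sub_cancel]
  have heq : IsLocalRing.maximalIdeal R = Ideal.span S := le_antisymm hle (Ideal.span_le.2 (by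
    rintro _ ⟨i, rfl⟩
    exact (IsLocalization.AtPrime.to_map_mem_maximal_iff R M _).2 (m i).2))
  show (IsLocalRing.maximalIdeal R).spanFinrank ≤ _
  rw [heq]
  refine (Submodule.spanFinrank_span_le_ncard_of_finite (Set.finite_range _)).trans ?_
  refine (Finite.card_range_le _).trans ?_
  simp

variable [IsAlgClosed k] [IsSeparated f] {n : ℕ} {H : Over (Spec (CommRingCat.of k))} {Z : HilbD.Obj f n H}

set_option maxHeartbeats 4000000 in
/-- Every closed point of the Hilbert scheme lies in a chart at a rational point. -/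
theorem exists_chart (hAF : SymProd.IsAF f) (hZ : HilbD.IsUniversal f n H Z) [LocallyOfFiniteType H.hom]
    (h : H.left) (hh : IsClosed ({h} : Set H.left)) :
    ∃ (B : Type u) (_ : CommRing B) (_ : Algebra k B) (iW : Spec (CommRingCat.of B) ⟶ X) (_ : IsOpenImmersion iW)
      (_ : iW ≫ f = Spec.map (CommRingCat.ofHom (algebraMap k B))) (_ : Algebra.FiniteType k B) (x : Fin n → B)
      (φ : PtsRing k x →ₐ[k] k) (j : Spec (CommRingCat.of (PtsRing k x)) ⟶ H.left) (_ : IsOpenImmersion j),
      j (⟨RingHom.ker φ, RingHom.ker_isPrime _⟩ : PrimeSpectrum (PtsRing k x)) = h := by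
  let a := pointOfClosedPoint H.hom h hh
  have ha0 : a ≫ H.hom = 𝟙 _ := pointOfClosedPoint_comp H.hom h hh
  have hI0 : Mor2.IsFinLocFreeOfDeg n ((Z.1.comap (m f a ha0)).subschemeι ≫ pullback.snd f (𝟙 _)) :=
    isFinLocFreeOfDeg_of_isPullback (isPullback_comap_m f a ha0 Z.1) Z.2
  obtain ⟨B, _, _, iW, _, w, hft, hF⟩ := Conn.exists_kCh hAF (Conn.finite_range hI0)
  let p := Conn.kCh B iW w
  let P : HPt f n H.left := ⟨H.hom, Z.1, Z.2⟩
  have hg : (P.map a).g = gR p k := ha0.trans Conn.gR_self.symm
  obtain ⟨I, hI, hP⟩ := exists_comap p (P.map a) hg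
  have hs : Supp p I := by
    have h1 : Supp p (P.map a).I := by
      have hs1 : ∀ (g : Spec (CommRingCat.of k) ⟶ Spec (CommRingCat.of k)) (hgg : a ≫ H.hom = g), g = 𝟙 _ →
          Supp p (Z.1.comap (m f a hgg)) := fun g hgg e => by
        subst e
        exact hF
      exact hs1 _ rfl ha0
    rw [hP] at h1
    exact h1
  obtain ⟨J, hJ⟩ := exists_sid (I.comap (eR p k))
  obtain ⟨h1, h2⟩ := Conn.finrank_of_supp hI hs hJ
  obtain ⟨x, hx⟩ := ConnAlg.exists_basis_lift h2
  obtain ⟨ψ, hψ⟩ := exists_ptsHom hx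
  have key : InAt p x P (a (IsLocalRing.closedPoint k)) :=
    inAt_of_field p x P (K := k) a (Spec.map (CommRingCat.ofHom ψ.toRingHom))
      ((map_univPt p x ψ).trans ((pt_congr p x hψ _ hx).trans
        ((eq_pt_of_supp p x hI hs hJ hx).symm.trans hP.symm)))
  rw [pointOfClosedPoint_apply] at key
  obtain ⟨α, hα, -⟩ := SC.exists_locIso' p x hZ
  haveI := hα
  let V := locOpen p x P
  let j : Spec (CommRingCat.of (PtsRing k x)) ⟶ H.left := inv α ≫ V.ι
  let q : Spec (CommRingCat.of (PtsRing k x)) := α ⟨h, key⟩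
  have hq : j q = h := by
    show (inv α ≫ V.ι) (α ⟨h, key⟩) = h
    rw [← Scheme.Hom.comp_apply, IsIso.hom_inv_id_assoc]
    rfl
  haveI := hft
  haveI := finiteType_ptsRing (A := k) x
  have hqc : IsClosed ({q} : Set ↥(Spec (CommRingCat.of (PtsRing k x)))) := by
    have h0 := hh.preimage j.continuous
    rw [← hq, ← Set.image_singleton, Set.preimage_image_eq _ j.isOpenEmbedding.injective] at h0
    exact h0
  haveI : (q : PrimeSpectrum (PtsRing k x)).asIdeal.IsMaximal := (PrimeSpectrum.isClosed_singleton_iff_isMaximal q).1 hqc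
  let M : Ideal (PtsRing k x) := (q : PrimeSpectrum (PtsRing k x)).asIdeal
  haveI : M.IsMaximal := ‹_›
  letI := Ideal.Quotient.field M
  haveI : Module.Finite k (PtsRing k x ⧸ M) := finite_of_finite_type_of_isJacobsonRing k _
  have hb : Function.Bijective (algebraMap k (PtsRing k x ⧸ M)) :=
    IsAlgClosed.ringHom_bijective_of_isIntegral _ (algebraMap_isIntegral_iff.2 inferInstance)
  let φ : PtsRing k x →ₐ[k] k :=
    (AlgEquiv.ofBijective (Algebra.ofId k _) hb).symm.toAlgHom.comp (Ideal.Quotient.mkₐ k M)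
  refine ⟨B, inferInstance, inferInstance, iW, inferInstance, w, hft, x, φ, j, inferInstance, ?_⟩
  rw [← hq]
  congr 1
  refine PrimeSpectrum.ext (Ideal.ext fun z => ?_)
  rw [RingHom.mem_ker]
  exact (map_eq_zero_iff _ (AlgEquiv.ofBijective (Algebra.ofId k (PtsRing k x ⧸ M)) hb).symm.injective).trans
    Ideal.Quotient.eq_zero_iff_mem

set_option maxHeartbeats 2000000 in
/-- At a closed point, dimension at least `2n` forces regularity. -/
theorem regular_of_le (hAF : SymProd.IsAF f) (hs : IsSurf f) (hZ : HilbD.IsUniversal f n H Z)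
    [LocallyOfFiniteType H.hom] (h : H.left) (hh : IsClosed ({h} : Set H.left))
    (hd : ((2 * n : ℕ) : WithBot ℕ∞) ≤ ringKrullDim (H.left.presheaf.stalk h)) :
    IsRegularLocalRing (H.left.presheaf.stalk h) ∧ ringKrullDim (H.left.presheaf.stalk h) = (2 * n : ℕ) := by
  obtain ⟨B, _, _, iW, _, w, hft, x, φ, j, _, rfl⟩ := exists_chart hAF hZ h hh
  haveI := hft
  haveI := finiteType_ptsRing (A := k) x
  haveI : IsNoetherianRing (PtsRing k x) := Algebra.FiniteType.isNoetherianRing k _
  haveI : IsNoetherianRing (k ⊗[k] B) := by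
    haveI : IsNoetherianRing B := Algebra.FiniteType.isNoetherianRing k B
    exact isNoetherianRing_of_ringEquiv B (Algebra.TensorProduct.lid k B).symm.toRingEquiv
  haveI hJ := (ConnAlg.finrank_of_bijective (bijective_comb_pts φ)).1
  have hJd := (ConnAlg.finrank_of_bijective (bijective_comb_pts φ)).2
  obtain ⟨hhom, hle⟩ := Tangent.finrank_hom_le (k := k) ((univIdeal k x).map (tmap B φ))
    fun P _ _ => twoReg_chart (f := f) hs P iW
  haveI := hhom
  obtain ⟨hc, hcle⟩ := Tangent.finrank_cotangent_le x φ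
  haveI := hc
  haveI hmax : (RingHom.ker φ).IsMaximal :=
    RingHom.ker_isMaximal_of_surjective _ fun c => ⟨algebraMap k _ c, φ.commutes c⟩
  let P : PrimeSpectrum (PtsRing k x) := ⟨RingHom.ker φ, RingHom.ker_isPrime _⟩
  obtain ⟨e⟩ := nonempty_stalk_equiv j P
  have hsp : (IsLocalRing.maximalIdeal (Localization.AtPrime P.asIdeal)).spanFinrank ≤ 2 * n := by
    refine (spanFinrank_le_cotangent (k := k) (RingHom.ker φ)).trans (hcle.trans (hle.trans ?_))
    rw [hJd]
  rw [← ringKrullDim_eq_of_ringEquiv e] at hd ⊢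
  haveI : IsRegularLocalRing (Localization.AtPrime P.asIdeal) :=
    IsRegularLocalRing.of_spanFinrank_maximalIdeal_le _ (le_trans (by exact_mod_cast hsp) hd)
  refine ⟨IsRegularLocalRing.of_ringEquiv e, le_antisymm ?_ hd⟩
  rw [← IsRegularLocalRing.spanFinrank_maximalIdeal]
  exact_mod_cast hsp

set_option maxHeartbeats 2000000 in
/-- Some closed point has dimension at least `2n`. -/
theorem exists_big (hs : IsSurf f) [Nonempty X] (hZ : HilbD.IsUniversal f n H Z) [LocallyOfFiniteType H.hom] :
    ∃ h : H.left, IsClosed ({h} : Set H.left) ∧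
      ((2 * n : ℕ) : WithBot ℕ∞) ≤ ringKrullDim (H.left.presheaf.stalk h) := by
  classical
  haveI : JacobsonSpace X := LocallyOfFiniteType.jacobsonSpace f
  obtain ⟨y, -, hy⟩ := nonempty_inter_closedPoints (Z := (Set.univ : Set X)) Set.univ_nonempty isClosed_univ.isLocallyClosed
  obtain ⟨U, hU, hyU, -⟩ := exists_isAffineOpen_mem_and_subset (X := X) (x := y) (U := ⊤) trivial
  obtain ⟨φ, hφ⟩ := Spec.map_surjective (hU.fromSpec ≫ f)
  letI : Algebra k Γ(X, U) := φ.hom.toAlgebra
  have hft : Algebra.FiniteType k Γ(X, U) := by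
    have h : LocallyOfFiniteType (Spec.map φ) := by rw [hφ]; infer_instance
    rw [HasRingHomProperty.Spec_iff (P := @LocallyOfFiniteType)] at h
    exact h
  have w : hU.fromSpec ≫ f = Spec.map (CommRingCat.ofHom (algebraMap k Γ(X, U))) := hφ.symm
  haveI := hft
  haveI : IsNoetherianRing Γ(X, U) := Algebra.FiniteType.isNoetherianRing k _
  have hB := fun χ => height_char (f := f) (B := Γ(X, U)) hU.fromSpec hs χ
  obtain ⟨q, hq⟩ := hU.range_fromSpec.ge hyU
  haveI : (q : PrimeSpectrum Γ(X, U)).asIdeal.IsMaximal := by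
    refine (PrimeSpectrum.isClosed_singleton_iff_isMaximal q).1 ?_
    have h0 := (show IsClosed ({y} : Set X) from hy).preimage hU.fromSpec.continuous
    rw [← hq, ← Set.image_singleton, Set.preimage_image_eq _ hU.fromSpec.isOpenEmbedding.injective] at h0
    exact h0
  haveI : Infinite (Γ(X, U) →ₐ[k] k) := by
    refine not_finite_iff_infinite.1 fun hfin => ?_
    haveI := hfin
    have h0 := ReducedPt.height_eq_zero_of_finite_points (k := k) (q : PrimeSpectrum Γ(X, U)).asIdeal
    obtain ⟨e⟩ := nonempty_stalk_equiv hU.fromSpec q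
    have h1 := IsLocalization.AtPrime.ringKrullDim_eq_height (q : PrimeSpectrum Γ(X, U)).asIdeal
      (Localization.AtPrime (q : PrimeSpectrum Γ(X, U)).asIdeal)
    rw [ringKrullDim_eq_of_ringEquiv e, hq, (hs y hy).2, h0] at h1
    simp at h1
  obtain ⟨x, ψ, hψ⟩ := ReducedPt.exists_point 2 hB (fun i : Fin n => Infinite.natEmbedding _ i.1)
    (fun a b h => Fin.ext ((Infinite.natEmbedding _).injective h))
  let p := Conn.kCh Γ(X, U) hU.fromSpec w
  let P : HPt f n H.left := ⟨H.hom, Z.1, Z.2⟩
  obtain ⟨α, hα, -⟩ := SC.exists_locIso' p x hZ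
  haveI := hα
  let j : Spec (CommRingCat.of (PtsRing k x)) ⟶ H.left := inv α ≫ (locOpen p x P).ι
  haveI : JacobsonSpace ↥H.left := LocallyOfFiniteType.jacobsonSpace H.hom
  let M : PrimeSpectrum (PtsRing k x) := ⟨RingHom.ker ψ, RingHom.ker_isPrime _⟩
  haveI : M.asIdeal.IsMaximal := RingHom.ker_isMaximal_of_surjective _ fun c => ⟨algebraMap k _ c, ψ.commutes c⟩
  refine ⟨j M, isClosed_image j M, ?_⟩
  obtain ⟨e⟩ := nonempty_stalk_equiv j M
  rw [← ringKrullDim_eq_of_ringEquiv e, IsLocalization.AtPrime.ringKrullDim_eq_height M.asIdeal]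
  exact (WithBot.coe_le_coe.2 hψ)

theorem isRegularLocalRing_of_le {A : Type u} [CommRing A] {q P : Ideal A} [q.IsPrime] [P.IsPrime] (h : q ≤ P)
    [IsRegularLocalRing (Localization.AtPrime P)] : IsRegularLocalRing (Localization.AtPrime q) := by
  let R := Localization.AtPrime P
  let q' : Ideal R := q.map (algebraMap _ R)
  have hdisj : Disjoint (P.primeCompl : Set A) (q : Set A) := Set.disjoint_left.2 fun z hz hzq => hz (h hzq)
  haveI : q'.IsPrime := IsLocalization.isPrime_of_isPrime_disjoint P.primeCompl R q inferInstance hdisj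
  haveI := CommAlgDim.isRegularLocalRing_localization R q'
  have := IsLocalization.isLocalization_isLocalization_atPrime_isLocalization (M := P.primeCompl) (Localization.AtPrime q') q'
  simp_rw [q', IsLocalization.under_map_of_isPrime_disjoint P.primeCompl R _ hdisj] at this
  exact IsRegularLocalRing.of_ringEquiv (IsLocalization.algEquiv q.primeCompl (Localization.AtPrime q') (Localization.AtPrime q)).toRingEquiv

theorem exists_irreducible_nhd {Y : Scheme.{u}} [NoetherianSpace Y] (h : Y) (hd : IsDomain (Y.presheaf.stalk h)) :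
    ∃ U : Y.Opens, h ∈ U ∧ _root_.IsIrreducible (U : Set Y) := by
  let C := irreducibleComponent h
  have huniq : ∀ W ∈ irreducibleComponents Y, h ∈ W → W = C := by
    have key : ∀ W ∈ irreducibleComponents Y, h ∈ W →
        W = closure {Y.fromSpecStalk h (⟨⊥, Ideal.isPrime_bot⟩ : PrimeSpectrum (Y.presheaf.stalk h))} := by
      intro W hW hxW
      obtain ⟨ξ, hξ⟩ := QuasiSober.sober hW.1 (isClosed_of_mem_irreducibleComponents W hW)
      obtain ⟨a, ha⟩ : ξ ∈ Set.range (Y.fromSpecStalk h) := by
        rw [Scheme.range_fromSpecStalk]; exact hξ.specializes hxW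
      let z : Spec (Y.presheaf.stalk h) := (⟨⊥, Ideal.isPrime_bot⟩ : PrimeSpectrum (Y.presheaf.stalk h))
      have hza : z ⤳ a := (PrimeSpectrum.le_iff_specializes _ _).mp bot_le
      have hsub : W ⊆ closure {Y.fromSpecStalk h z} := by
        rw [← hξ, ← ha]
        exact closure_minimal (Set.singleton_subset_iff.mpr
          (hza.map (Y.fromSpecStalk h).continuous).mem_closure) isClosed_closure
      exact hW.eq_of_le isIrreducible_singleton.closure hsub
    exact fun W hW hhW => (key W hW hhW).trans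
      (key C (irreducibleComponent_mem_irreducibleComponents h) mem_irreducibleComponent).symm
  have hfin := NoetherianSpace.finite_irreducibleComponents (α := Y)
  let U : Y.Opens := ⟨(⋃ V ∈ irreducibleComponents Y \ {C}, V)ᶜ,
    ((hfin.subset Set.sdiff_subset).isClosed_biUnion fun V hV => isClosed_of_mem_irreducibleComponents V hV.1).isOpen_compl⟩
  have hhU : h ∈ U := by
    show h ∈ (⋃ V ∈ irreducibleComponents Y \ {C}, V)ᶜ
    simp only [Set.mem_compl_iff, Set.mem_iUnion, not_exists]
    exact fun V hV hhV => hV.2 (huniq V hV.1 hhV)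
  refine ⟨U, hhU, ⟨⟨h, hhU⟩, ?_⟩⟩
  have hUC : (U : Set Y) ⊆ C := fun z hz => by
    by_contra hzC
    exact hz (Set.mem_biUnion (x := irreducibleComponent z)
      ⟨irreducibleComponent_mem_irreducibleComponents z, fun e => hzC (e ▸ mem_irreducibleComponent)⟩
      mem_irreducibleComponent)
  intro O₁ O₂ h1 h2 hne1 hne2
  obtain ⟨a, ha, ha1⟩ := hne1
  obtain ⟨b, hb, hb2⟩ := hne2
  obtain ⟨z, -, ⟨hz1, hzU⟩, hz2⟩ := isIrreducible_irreducibleComponent.2 (O₁ ∩ U) O₂ (h1.inter U.2) h2
    ⟨a, hUC ha, ha1, ha⟩ ⟨b, hUC hb, hb2⟩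
  exact ⟨z, hzU, hz1, hz2⟩

set_option maxHeartbeats 2000000 in
/-- A connected Hilbert scheme of points of a smooth surface is regular and irreducible of dimension `2n`. -/
theorem regular_irreducible_dim (hAF : SymProd.IsAF f) (hs : IsSurf f) [Nonempty X]
    (hZ : HilbD.IsUniversal f n H Z) [LocallyOfFiniteType H.hom] [QuasiCompact H.hom] [ConnectedSpace H.left] :
    (∀ h : H.left, IsRegularLocalRing (H.left.presheaf.stalk h)) ∧ IrreducibleSpace H.left ∧
      topologicalKrullDim H.left = (2 * n : ℕ) := by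
  haveI : JacobsonSpace ↥H.left := LocallyOfFiniteType.jacobsonSpace H.hom
  haveI : IsLocallyNoetherian H.left := LocallyOfFiniteType.isLocallyNoetherian H.hom
  haveI : CompactSpace H.left := QuasiCompact.compactSpace_of_compactSpace H.hom
  haveI : AlgebraicGeometry.IsNoetherian H.left := { }
  let G : Set H.left := {x | ((2 * n : ℕ) : WithBot ℕ∞) ≤ FlatMor.localDim H.left x}
  have hGc : IsClosed G := upperSemicontinuous_iff_isClosed_preimage.1 FibDimLib.upperSemicontinuous_localDim _
  have hreg : ∀ h, IsClosed ({h} : Set H.left) → h ∈ G →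
      IsRegularLocalRing (H.left.presheaf.stalk h) ∧ ringKrullDim (H.left.presheaf.stalk h) = (2 * n : ℕ) := fun h hh hG => by
    refine regular_of_le hAF hs hZ h hh ?_
    rw [← FibDimLib.localDim_eq_stalk_of_isClosed H.hom hh]
    exact hG
  have hint : ∀ h, IsClosed ({h} : Set H.left) → h ∈ G → h ∈ interior G := fun h hh hG => by
    haveI := (hreg h hh hG).1
    obtain ⟨U, hhU, hirr⟩ := exists_irreducible_nhd h (CommAlgDim.isDomain_of_isRegularLocalRing _)
    haveI : IrreducibleSpace U.toScheme :=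
      { toPreirreducibleSpace := Subtype.preirreducibleSpace hirr.2, toNonempty := hirr.1.to_subtype }
    refine mem_interior.2 ⟨U, fun z hz => ?_, U.2, hhU⟩
    have key : ∀ z : U.toScheme, FlatMor.localDim H.left z.1 = topologicalKrullDim U.toScheme := fun z => by
      rw [← FibDimLib.localDim_of_irreducible (U.ι ≫ H.hom) z]
      exact (FibDimLib.localDim_eq_of_isOpenEmbedding U.ι.isOpenEmbedding z)
    show _ ≤ FlatMor.localDim H.left z
    rw [key ⟨z, hz⟩, ← key ⟨h, hhU⟩]
    exact hG
  have hopen : IsOpen G := by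
    rw [← subset_interior_iff_isOpen]
    by_contra hnot
    obtain ⟨z, hzG, hzI⟩ := Set.not_subset.1 hnot
    obtain ⟨h, hh1, hh2⟩ := nonempty_inter_closedPoints (Z := G \ interior G) ⟨z, hzG, hzI⟩
      (hGc.sdiff isOpen_interior).isLocallyClosed
    exact hh1.2 (hint h hh2 hh1.1)
  obtain ⟨h0, hh0, hbig⟩ := exists_big hs hZ
  have huniv : G = Set.univ := (show IsClopen G from ⟨hGc, hopen⟩).eq_univ ⟨h0, by
    show _ ≤ FlatMor.localDim H.left h0
    rw [FibDimLib.localDim_eq_stalk_of_isClosed H.hom hh0]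
    exact hbig⟩
  have hall : ∀ h, IsClosed ({h} : Set H.left) → IsRegularLocalRing (H.left.presheaf.stalk h) ∧
      ringKrullDim (H.left.presheaf.stalk h) = (2 * n : ℕ) := fun h hh => hreg h hh (huniv.ge trivial)
  have hregall : ∀ x : H.left, IsRegularLocalRing (H.left.presheaf.stalk x) := fun x => by
    obtain ⟨h, hh1, hh2⟩ := nonempty_inter_closedPoints (Z := closure ({x} : Set H.left))
      ⟨x, subset_closure rfl⟩ isClosed_closure.isLocallyClosed
    obtain ⟨B, _, _, iW, _, w, hft, y, φ, j, _, rfl⟩ := exists_chart hAF hZ h hh2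
    obtain ⟨p, rfl⟩ : x ∈ Set.range j :=
      (specializes_iff_mem_closure.2 hh1).mem_open j.isOpenEmbedding.isOpen_range ⟨_, rfl⟩
    let P : PrimeSpectrum (PtsRing k y) := ⟨RingHom.ker φ, RingHom.ker_isPrime _⟩
    have hle : (p : PrimeSpectrum (PtsRing k y)).asIdeal ≤ P.asIdeal :=
      (PrimeSpectrum.le_iff_specializes p P).2 (j.isOpenEmbedding.isInducing.specializes_iff.1 (specializes_iff_mem_closure.2 hh1))
    obtain ⟨eP⟩ := nonempty_stalk_equiv j P
    obtain ⟨ep⟩ := nonempty_stalk_equiv j p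
    haveI := (hall _ hh2).1
    haveI : P.asIdeal.IsPrime := P.isPrime
    haveI : IsRegularLocalRing (Localization.AtPrime P.asIdeal) := IsRegularLocalRing.of_ringEquiv eP.symm
    haveI : (p : PrimeSpectrum (PtsRing k y)).asIdeal.IsPrime := PrimeSpectrum.isPrime _
    haveI := isRegularLocalRing_of_le (A := PtsRing k y) (q := (p : PrimeSpectrum (PtsRing k y)).asIdeal) (P := P.asIdeal) hle
    exact IsRegularLocalRing.of_ringEquiv ep
  refine ⟨hregall, ?_, ?_⟩
  · haveI : ∀ x : H.left, IsDomain (H.left.presheaf.stalk x) := fun x =>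
      haveI := hregall x
      CommAlgDim.isDomain_of_isRegularLocalRing _
    exact Groth.Agent.WeilRes.irreducibleSpace_of_isDomain_stalks
  · rw [FibDimLib.topologicalKrullDim_le_iSup_closed]
    refine le_antisymm (iSup₂_le fun x hx => ?_) (le_iSup₂_of_le h0 hh0 ?_)
    · rw [FibDimLib.localDim_eq_stalk_of_isClosed H.hom hx, (hall x hx).2]
    · rw [FibDimLib.localDim_eq_stalk_of_isClosed H.hom hh0, (hall h0 hh0).2]

end HilbPts.Fogarty

end
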