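import Groth.Agent.HilbPtsLib.LinData

/-!
# The determinant linear system is good
-/

set_option autoImplicit false
set_option linter.style.haveILetI false
set_option linter.unusedSectionVars false
set_option backward.isDefEq.respectTransparency false
set_option backward.isDefEq.respectTransparency.types false

universe u

open CategoryTheory CategoryTheory.Limits AlgebraicGeometry TensorProduct TopologicalSpace GrassLib
open LinSysLib (rs rs_rs rs_refl LocData LinSys)

noncomputable section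

namespace HilbPts

variable {X S : Scheme.{u}} {f : X ⟶ S} [IsFinite f] {d : ℕ} {H : Over S} {Z : HilbD.Obj f d H}
variable (hZ : HilbD.IsUniversal f d H Z)

include hZ in
theorem isAffineOpen_locOpen (p : Ch f) (x : Fin d → p.B) : IsAffineOpen (locOpen p x (uPt Z)) := by
  obtain ⟨a, ha, -⟩ := exists_locIso p x hZ
  haveI := ha
  exact IsAffine.of_isIso a

theorem exists_tuple (U : S.affineOpens) (h : H.left) (hU : H.hom h ∈ U.1) :
    ∃ j : Fin (Fintype.card (Fin d → Fin (gensN (f := f) U))),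
      InAt (fullCh f U) (fun k => gensY U (gensJ U j k)) (uPt Z) h := by
  obtain ⟨J, hJ⟩ := exists_inAt_full (uPt Z) h U hU (gensY U) (gensY_span U)
  refine ⟨Fintype.equivFin _ J, ?_⟩
  simpa [gensJ] using hJ

include hZ in
theorem quasiCompact_hom : QuasiCompact H.hom := by
  refine quasiCompact_iff_forall_isAffineOpen.2 fun U hU => ?_
  have e : ((H.hom ⁻¹ᵁ U : H.left.Opens) : Set H.left) =
      ⋃ j : Fin (Fintype.card (Fin d → Fin (gensN (f := f) ⟨U, hU⟩))),
        (locOpen (fullCh f ⟨U, hU⟩) (fun k => gensY ⟨U, hU⟩ (gensJ ⟨U, hU⟩ j k)) (uPt Z) : Set H.left) := by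
    ext h
    simp only [Set.mem_iUnion]
    exact ⟨fun hh => exists_tuple ⟨U, hU⟩ h hh, fun ⟨j, hj⟩ => le_preimage_of_inAt ⟨U, hU⟩ _ (uPt Z) hj⟩
  rw [e]
  exact isCompact_iUnion fun j => (isAffineOpen_locOpen hZ _ _).isCompact

include hZ in
set_option maxHeartbeats 1000000 in
/-- The functions on a chart are generated by the base and the coordinates of the generators. -/
theorem closure_coords (U : S.affineOpens) (x : Fin d → (fullCh f U).B)
    (hle : locOpen (fullCh f U) x (uPt Z) ≤ H.hom ⁻¹ᵁ U.1) :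
    Subring.closure (Set.range (H.hom.appLE U.1 (locOpen (fullCh f U) x (uPt Z)) hle).hom ∪
      {c | ∃ i k, crd (isFrame_sec (uPt Z) U x) le_rfl (sec (uPt Z) U hle (gensY U i)) k = c}) = ⊤ := by
  classical
  let p := fullCh f U
  let O := locOpen p x (uPt Z)
  let G : Subring Γ(H.left, O) := Subring.closure (Set.range (H.hom.appLE U.1 O hle).hom ∪
      {c | ∃ i k, crd (isFrame_sec (uPt Z) U x) le_rfl (sec (uPt Z) U hle (gensY U i)) k = c})
  have hO : IsAffineOpen O := isAffineOpen_locOpen hZ p x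
  obtain ⟨a, ha, haP⟩ := exists_locIso p x hZ
  letI : Algebra p.A Γ(H.left, O) := (H.hom.appLE U.1 O hle).hom.toAlgebra
  obtain ⟨I, hI, J, ρ, hP, hs, hJ, hr, hb⟩ := exists_bridge (uPt Z) U hO hle (fun _ => rfl)
  have ha' : (univPt p x).map (hO.isoSpec.inv ≫ a) = (uPt Z).map hO.fromSpec := by
    rw [← HPt.map_map, haP, HPt.map_map]
    rfl
  obtain ⟨φ, hφ⟩ := exists_hom_of_map_eq p x (congrArg HPt.g (ha'.trans hP))
  haveI := ha
  haveI : IsIso (Spec.map (CommRingCat.ofHom φ.toRingHom)) := by rw [← hφ]; infer_instance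
  have hbij : Function.Bijective φ := by
    haveI : IsIso (Scheme.Spec.map (CommRingCat.ofHom φ.toRingHom).op) := ‹IsIso (Spec.map (CommRingCat.ofHom φ.toRingHom))›
    haveI := isIso_of_reflects_iso (CommRingCat.ofHom φ.toRingHom).op Scheme.Spec
    haveI : IsIso (CommRingCat.ofHom φ.toRingHom) := isIso_of_op _
    exact ConcreteCategory.bijective_of_isIso (CommRingCat.ofHom φ.toRingHom)
  rw [hφ, map_univPt, hP] at ha'
  have hJe : J = (univIdeal p.A x).map (tmap p.B φ) := ideal_of_eq p x ha'.symm hJ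
  rw [univIdeal, map_coordIdeal _ (normal_ptsCoord x)] at hJe
  have hcrd : ∀ (b : p.B) (k : Fin d), φ (ptsCoord p.A x b k) =
      crd (isFrame_sec (uPt Z) U x) le_rfl (sec (uPt Z) U hle b) k := by
    intro b k
    let u := mapCoord φ (ptsCoord p.A x)
    have hmem : (1 : Γ(H.left, O)) ⊗ₜ[p.A] b - ∑ i, u b i ⊗ₜ[p.A] x i ∈ J := by
      rw [hJe, mem_coordIdeal, map_sub, lift_sum (normal_mapCoord φ (normal_ptsCoord x)), lift_tmul, one_smul, sub_self]
    have h1 := congrArg ρ ((Ideal.Quotient.eq).2 hmem)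
    rw [hb, map_sum, map_sum] at h1
    rw [crd_eq (isFrame_sec (uPt Z) U x) le_rfl (c := u b) ?_]
    · rfl
    · rw [h1, cmb]
      refine Finset.sum_congr rfl fun i _ => ?_
      rw [show u b i ⊗ₜ[p.A] x i = (u b i ⊗ₜ[p.A] (1 : p.B)) * ((1 : Γ(H.left, O)) ⊗ₜ[p.A] x i) by simp, map_mul, map_mul,
        hr, hb, rs_refl]
  have hA : ∀ a : p.A, algebraMap p.A Γ(H.left, O) a ∈ G := fun a => Subring.subset_closure (Or.inl ⟨a, rfl⟩)
  have hvar : ∀ (b : p.B) (k : Fin d), φ (ptsCoord p.A x b k) ∈ G := by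
    intro b k
    obtain ⟨c, hc⟩ := (Submodule.mem_span_range_iff_exists_fun _).1 ((gensY_span (f := f) U).ge (Submodule.mem_top (x := b)))
    rw [← hc, map_sum, Finset.sum_apply, map_sum]
    refine sum_mem fun i _ => ?_
    rw [map_smul, Pi.smul_apply, Algebra.smul_def, map_mul, AlgHom.commutes, hcrd]
    exact mul_mem (hA _) (Subring.subset_closure (Or.inr ⟨i, k, rfl⟩))
  refine eq_top_iff.2 fun r hr' => ?_
  clear hr'
  obtain ⟨q, rfl⟩ := hbij.2 r
  obtain ⟨q, rfl⟩ := Ideal.Quotient.mk_surjective q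
  obtain ⟨q, rfl⟩ := Ideal.Quotient.mk_surjective q
  show φ (ptsMk p.A x (Ideal.Quotient.mk _ q)) ∈ G
  induction q using MvPolynomial.induction_on with
  | C a =>
    rw [show ptsMk p.A x (Ideal.Quotient.mk _ (MvPolynomial.C a)) = algebraMap p.A (PtsRing p.A x) a from
      (ptsMk p.A x).commutes a, AlgHom.commutes]
    exact hA a
  | add q q' hq hq' => rw [map_add, map_add, map_add]; exact add_mem hq hq'
  | mul_X q v hq =>
    rw [map_mul, map_mul, map_mul]
    exact mul_mem hq (hvar v.1 v.2)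

include hZ in
set_option maxHeartbeats 1000000 in
theorem isGood_detData [QuasiCompact H.hom] : ((detData Z).toLinSys).IsGood := by
  classical
  let T := detData Z
  let L := T.toLinSys
  refine L.isGood_of_local fun h => ?_
  obtain ⟨U, hU, hhU, -⟩ := exists_isAffineOpen_mem_and_subset (x := H.hom h) (U := ⊤) trivial
  refine ⟨U, hU, hhU, ?_⟩
  let U₀ : S.affineOpens := ⟨U, hU⟩
  obtain ⟨j₀, hj₀⟩ := exists_tuple (Z := Z) U₀ h hhU
  have fam : ∀ j, ∃ s : L.alg U, s ∈ L.deg U 1 ∧ ∀ c, PowerSeries.coeff 1 (s.1 c) = T.t U₀ j c := by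
    intro j
    let r : Fin (T.n U₀) → Γ(S, U) := Pi.single j 1
    have he : T.comb (a := U₀) (le_refl U) r ∈ L.E U := T.comb_mem_E _ r
    refine ⟨L.sec he, L.sec_mem_deg he, fun c => ?_⟩
    show PowerSeries.coeff 1 (L.mon _ c) = _
    rw [L.coeff_mon, if_pos rfl]
    show (∑ i, _ * rs _ (T.t U₀ i c)) = _
    rw [Finset.sum_eq_single j]
    · simp only [r, Pi.single_eq_same, map_one, one_mul]
      exact rs_refl _
    · intro i _ hi; simp [r, Pi.single_eq_of_ne hi]
    · simp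
  obtain ⟨e, he, hec⟩ := fam j₀
  let x : Fin d → (fullCh f U₀).B := fun k => gensY U₀ (gensJ U₀ j₀ k)
  let O := locOpen (fullCh f U₀) x (uPt Z)
  have hOle : O ≤ H.hom ⁻¹ᵁ U := le_preimage_of_inAt U₀ x (uPt Z)
  let c₀ : T.ι := ⟨⟨O, fun i => sec (uPt Z) U₀ hOle (x i)⟩, isFrame_sec (uPt Z) U₀ x⟩
  have hc₀ : T.t U₀ j₀ c₀ = 1 := by
    have := crdDet_self c₀.2 (inf_le_left : c₀.1.1 ⊓ H.hom ⁻¹ᵁ U ≤ c₀.1.1)
    refine Eq.trans ?_ this
    show crdDet c₀.2 _ _ = crdDet c₀.2 _ _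
    congr 1
    funext k
    exact (rs_sec (uPt Z) U₀ hOle inf_le_left (x k)).symm
  have hlocEq : L.loc U 1 e = O := by
    refine le_antisymm (iSup_le fun c z hz => ?_) fun z hz => ?_
    · have hz0 : z ∈ c.1.1 ⊓ H.hom ⁻¹ᵁ U := H.left.basicOpen_le _ hz
      rw [hec c] at hz
      obtain ⟨O', hO', hzO', hle'⟩ := exists_isAffineOpen_mem_and_subset (x := z) (U := H.left.basicOpen (T.t U₀ j₀ c)) hz
      have hb : O' ≤ H.left.basicOpen (T.t U₀ j₀ c) := fun y hy => hle' hy
      have hle'' : O' ≤ c.1.1 ⊓ H.hom ⁻¹ᵁ U := hb.trans (H.left.basicOpen_le _)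
      have hu : IsUnit (rs hle'' (T.t U₀ j₀ c)) := by
        have := (RingedSpace.isUnit_res_basicOpen H.left.toRingedSpace (T.t U₀ j₀ c)).map (rs hb)
        exact (congrArg IsUnit (rs_rs hb (H.left.basicOpen_le _) _)).mp this
      have hfr : IsFrame (fun k => sec (uPt Z) U₀ (hle''.trans inf_le_right) (x k)) := by
        refine isFrame_of_isUnit c.2 (hle''.trans inf_le_left) _ ?_
        have e1 : rs hle'' (T.t U₀ j₀ c) =
            crdDet c.2 (hle''.trans inf_le_left) (fun k => sec (uPt Z) U₀ (hle''.trans inf_le_right) (x k)) := by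
          refine (rs_crdDet c.2 inf_le_left hle'' _).trans ?_
          congr 1
          funext k
          exact rs_sec (uPt Z) U₀ inf_le_right hle'' (x k)
        rwa [e1] at hu
      exact (bijective_cmb_iff (uPt Z) U₀ hO' (hle''.trans inf_le_right) x).1 (hfr O' le_rfl) z hzO'
    · refine Opens.mem_iSup.mpr ⟨c₀, ?_⟩
      rw [hec c₀, hc₀]
      show z ∈ H.left.basicOpen (1 : Γ(H.left, c₀.1.1 ⊓ H.hom ⁻¹ᵁ U))
      rw [Scheme.basicOpen_of_isUnit _ isUnit_one]
      exact ⟨hz, hOle hz⟩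
  refine ⟨e, he, hlocEq.ge hj₀, hlocEq ▸ isAffineOpen_locOpen hZ (fullCh f U₀) x, ?_⟩
  have hle : L.loc U 1 e ≤ H.hom ⁻¹ᵁ U := L.loc_le 1 e
  refine L.gen_of_generators he
    {c | ∃ i k, rs hlocEq.le (crd (isFrame_sec (uPt Z) U₀ x) le_rfl (sec (uPt Z) U₀ hOle (gensY U₀ i)) k) = c} ?_ ?_
  · have key : ∀ (O' : H.left.Opens) (hO' : O' = O) (hO'' : O' ≤ H.hom ⁻¹ᵁ U),
        Subring.closure (Set.range (H.hom.appLE U O' hO'').hom ∪
          {c | ∃ i k, rs hO'.le (crd (isFrame_sec (uPt Z) U₀ x) le_rfl (sec (uPt Z) U₀ hOle (gensY U₀ i)) k) = c}) = ⊤ := by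
      rintro O' rfl hO''
      simp only [rs_refl]
      exact closure_coords hZ U₀ x hO''
    exact key _ hlocEq hle
  · rintro _ ⟨i, k, rfl⟩
    let J' : Fin d → Fin (gensN (f := f) U₀) := Function.update (gensJ U₀ j₀) k i
    obtain ⟨s, hs, hsc⟩ := fam (Fintype.equivFin _ J')
    refine ⟨1, s, hs, fun c => ?_⟩
    rw [pow_one]
    have hB : H.left.basicOpen (PowerSeries.coeff 1 (e.1 c)) ≤ L.pc c U := H.left.basicOpen_le _
    let W := H.left.basicOpen (PowerSeries.coeff 1 (e.1 c))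
    have hWc : W ≤ c.1.1 := hB.trans inf_le_left
    have hWU : W ≤ H.hom ⁻¹ᵁ U := hB.trans inf_le_right
    have hWO : W ≤ O := (L.loc_sub 1 e c).trans hlocEq.le
    rw [congrArg (rs hB) (hec c), congrArg (rs hB) (hsc c), rs_rs]
    have t1 : ∀ J : Fin (Fintype.card (Fin d → Fin (gensN (f := f) U₀))), rs hB (T.t U₀ J c) =
        crdDet c.2 hWc (fun l => sec (uPt Z) U₀ hWU (gensY U₀ (gensJ U₀ J l))) := fun J => by
      refine (rs_crdDet c.2 inf_le_left hB _).trans ?_
      congr 1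
      funext l
      exact rs_sec (uPt Z) U₀ inf_le_right hB _
    rw [t1, t1]
    have hx : ∀ l, sec (uPt Z) U₀ hWU (x l) = rs ((tot (uPt Z)).preimage_mono hWO) (sec (uPt Z) U₀ hOle (x l)) :=
      fun l => (rs_sec (uPt Z) U₀ hOle hWO (x l)).symm
    rw [show (fun l => sec (uPt Z) U₀ hWU (gensY U₀ (gensJ U₀ (Fintype.equivFin _ J') l))) =
        Function.update (fun l => sec (uPt Z) U₀ hWU (x l)) k (sec (uPt Z) U₀ hWU (gensY U₀ i)) from funext fun l => by
      rcases eq_or_ne l k with rfl | hne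
      · simp [gensJ, J']
      · simp [gensJ, J', Function.update_of_ne hne, x]]
    rw [crdDet_trans c.2 (isFrame_sec (uPt Z) U₀ x) hWc hWO
      (Function.update (fun l => sec (uPt Z) U₀ hWU (x l)) k (sec (uPt Z) U₀ hWU (gensY U₀ i))),
      crdDet_update (isFrame_sec (uPt Z) U₀ x) hWO _ hx k, mul_comm]
    congr 1
    · congr 1
      funext l
      exact hx l
    · rw [← congrFun (crd_rs (isFrame_sec (uPt Z) U₀ x) le_rfl hWO (sec (uPt Z) U₀ hOle (gensY U₀ i))) k, rs_sec (uPt Z) U₀ hOle hWO]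

end HilbPts

end
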