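import Groth.Agent.HilbPtsLib.Closed

/-!
# The locus of containment of a finite flat closed subscheme
-/

set_option autoImplicit false
set_option linter.style.haveILetI false
set_option backward.isDefEq.respectTransparency false
set_option backward.isDefEq.respectTransparency.types false

universe u

open CategoryTheory CategoryTheory.Limits AlgebraicGeometry TopologicalSpace

noncomputable section

namespace HilbPts

variable {X S : Scheme.{u}} (f : X ⟶ S)

theorem exists_le_locus (I I' : X.IdealSheafData) (h : Mor2.IsFinLocFree (I'.subschemeι ≫ f)) :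
    ∃ K : S.IdealSheafData, ∀ (T : Scheme.{u}) (g : T ⟶ S),
      K.comap g = ⊥ ↔ I.comap (pullback.fst f g) ≤ I'.comap (pullback.fst f g) := by
  let p := pullback.fst f (𝟙 S)
  have hI : Mor2.IsFinLocFree ((I'.comap p).subschemeι ≫ pullback.snd f (𝟙 S)) := by
    have sq := (isPullback_comap I' p).paste_vert (IsPullback.of_hasPullback f (𝟙 S))
    obtain ⟨h1, h2, h3⟩ := h
    exact ⟨MorphismProperty.of_isPullback (P := @IsFinite) sq h1, MorphismProperty.of_isPullback (P := @Flat) sq h2,
      MorphismProperty.of_isPullback (P := @LocallyOfFinitePresentation) sq h3⟩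
  obtain ⟨K, hK⟩ := exists_containment f (I'.comap p) (I.comap p) hI
  refine ⟨K, fun T g => ?_⟩
  rw [← hK g (Category.comp_id g), ← Scheme.IdealSheafData.comap_comp, ← Scheme.IdealSheafData.comap_comp, m_fst]

theorem factors_iff {K : S.IdealSheafData} {T : Scheme.{u}} (g : T ⟶ S) :
    (∃ t : T ⟶ K.subscheme, t ≫ K.subschemeι = g) ↔ K.comap g = ⊥ := by
  rw [comap_eq_bot_iff]
  constructor
  · rintro ⟨t, rfl⟩
    exact (Scheme.IdealSheafData.ker_subschemeι K).symm.le.trans (Scheme.Hom.le_ker_comp t _)
  · intro h
    exact ⟨IsClosedImmersion.lift K.subschemeι g ((Scheme.IdealSheafData.ker_subschemeι K).le.trans h),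
      IsClosedImmersion.lift_fac _ _ _⟩

end HilbPts

end
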