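import Groth.Agent.HilbPtsLib.Bridge
import Groth.Agent.LinSysLib.Criterion
import Mathlib.LinearAlgebra.Matrix.Adjugate

/-!
# The determinant linear system on a universal pair
-/

set_option autoImplicit false
set_option linter.style.haveILetI false
set_option linter.unusedSectionVars false
set_option backward.isDefEq.respectTransparency false
set_option backward.isDefEq.respectTransparency.types false

universe u

open CategoryTheory CategoryTheory.Limits AlgebraicGeometry TensorProduct TopologicalSpace GrassLib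
open LinSysLib (rs rs_rs rs_refl LocData)

noncomputable section

namespace HilbPts

section Frame

variable {Z T : Scheme.{u}} {π : Z ⟶ T} {d : ℕ} {V : T.Opens} {e : Fin d → Γ(Z, π ⁻¹ᵁ V)}

theorem crd_sum (he : IsFrame e) {O : T.Opens} (h : O ≤ V) {ι : Type*} (s : Finset ι) (r : ι → Γ(T, O))
    (τ : ι → Γ(Z, π ⁻¹ᵁ O)) :
    crd he h (∑ i ∈ s, (π.app O).hom (r i) * τ i) = ∑ i ∈ s, r i • crd he h (τ i) := by
  refine crd_eq he h ?_
  conv_rhs => enter [2, i]; rw [← cmb_crd he h (τ i), cmb, Finset.mul_sum]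
  rw [cmb, Finset.sum_comm]
  refine Finset.sum_congr rfl fun k _ => ?_
  rw [Finset.sum_apply, map_sum, Finset.sum_mul]
  refine Finset.sum_congr rfl fun i _ => ?_
  rw [Pi.smul_apply, smul_eq_mul, map_mul, mul_assoc]

theorem crdDet_sum (he : IsFrame e) {O : T.Opens} (h : O ≤ V) {ι : Type*} [Fintype ι] (r : Fin d → ι → Γ(T, O))
    (τ' : ι → Γ(Z, π ⁻¹ᵁ O)) :
    crdDet he h (fun k => ∑ i, (π.app O).hom (r k i) * τ' i) =
      ∑ J : Fin d → ι, (∏ k, r k (J k)) * crdDet he h (fun k => τ' (J k)) := by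
  classical
  have e1 : crdMat he h (fun k => ∑ i, (π.app O).hom (r k i) * τ' i) =
      Matrix.of fun k => ∑ i, r k i • crd he h (τ' i) := by
    refine congrArg Matrix.of (funext fun k => ?_)
    exact crd_sum he h Finset.univ (r k) τ'
  rw [crdDet, e1]
  refine ((Matrix.detRowAlternating (n := Fin d) (R := Γ(T, O))).toMultilinearMap.map_sum
    (fun k i => r k i • crd he h (τ' i))).trans ?_
  refine Finset.sum_congr rfl fun J _ => ?_
  exact (Matrix.detRowAlternating (n := Fin d) (R := Γ(T, O))).toMultilinearMap.map_smul_univ _ _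

theorem crdDet_update (he : IsFrame e) {O : T.Opens} (h : O ≤ V) (τ : Fin d → Γ(Z, π ⁻¹ᵁ O))
    (hτ : ∀ i, τ i = rs (π.preimage_mono h) (e i)) (k : Fin d) (w : Γ(Z, π ⁻¹ᵁ O)) :
    crdDet he h (Function.update τ k w) = crd he h w k := by
  classical
  have h1 : crdMat he h τ = 1 := by
    have := crdDet_self he h
    refine Matrix.ext fun a b => ?_
    show crd he h (τ a) b = _
    rw [hτ, crd_eq he h (c := Pi.single a 1) ?_]
    · simp [Matrix.one_apply, Pi.single_apply, eq_comm]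
    · rw [cmb, Finset.sum_eq_single a]
      · simp
      · intro j _ hj; simp [Pi.single_eq_of_ne hj]
      · simp
  have h2 : crdMat he h (Function.update τ k w) = Matrix.updateRow (crdMat he h τ) k (crd he h w) := by
    refine Matrix.ext fun a b => ?_
    show crd he h (Function.update τ k w a) b = _
    rcases eq_or_ne a k with rfl | hne
    · simp
    · simp [Function.update_of_ne hne, Matrix.updateRow_ne hne, crdMat]
  rw [crdDet, h2, h1, ← Matrix.transpose_one, ← Matrix.cramer_transpose_apply]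
  simp

end Frame

variable {X S : Scheme.{u}} {f : X ⟶ S} [IsFinite f] {d : ℕ} {H : Over S} (Z : HilbD.Obj f d H)

/-- The universal point. -/
abbrev uPt : HPt f d H.left := ⟨H.hom, Z.1, Z.2⟩

theorem le_preimage_of_inAt (U : S.affineOpens) (x : Fin d → (fullCh f U).B) {T : Scheme.{u}} (P : HPt f d T) :
    locOpen (fullCh f U) x P ≤ P.g ⁻¹ᵁ U.1 := by
  rintro t ⟨R, j, hj, a, ⟨z, hz⟩, ha⟩
  show P.g t ∈ U.1
  have e : a ≫ gR (fullCh f U) (PtsRing (fullCh f U).A x) = j ≫ P.g := congrArg HPt.g ha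
  rw [← hz, ← Scheme.Hom.comp_apply, ← e, Scheme.Hom.comp_apply]
  exact range_gR U _ ⟨_, rfl⟩

theorem cmb_sec {T : Scheme.{u}} (P : HPt f d T) (U : S.affineOpens) {V O : T.Opens} (h : V ≤ P.g ⁻¹ᵁ U.1) (hO : O ≤ V)
    (x : Fin d → (fullCh f U).B) :
    cmb (fun i => sec P U h (x i)) hO = cmb (fun i => sec P U (hO.trans h) (x i)) (le_refl O) := by
  funext c
  simp only [cmb]
  refine Finset.sum_congr rfl fun i _ => ?_
  rw [rs_sec P U h hO, rs_refl]

theorem isFrame_sec {T : Scheme.{u}} (P : HPt f d T) (U : S.affineOpens) (x : Fin d → (fullCh f U).B) :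
    IsFrame (fun i => sec P U (le_preimage_of_inAt U x P) (x i)) :=
  isFrame_of_local _ fun t ht => ⟨_, ht, fun O hO hle hOV => by
    rw [cmb_sec P U _ hOV x]
    exact (bijective_cmb_iff P U hO _ x).2 fun t ht => hle ht⟩

/-- Chosen generators. -/
def gensN (U : S.affineOpens) : ℕ := (exists_generators (f := f) U).choose

/-- Chosen generators. -/
def gensY (U : S.affineOpens) : Fin (gensN (f := f) U) → (fullCh f U).B :=
  (exists_generators (f := f) U).choose_spec.choose

theorem gensY_span (U : S.affineOpens) : Submodule.span (fullCh f U).A (Set.range (gensY (f := f) U)) = ⊤ :=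
  (exists_generators (f := f) U).choose_spec.choose_spec

/-- The tuples of generators. -/
def gensJ (U : S.affineOpens) (j : Fin (Fintype.card (Fin d → Fin (gensN (f := f) U)))) : Fin d → Fin (gensN (f := f) U) :=
  (Fintype.equivFin _).symm j

theorem exists_frame_at (h : H.left) : ∃ c : {c : Σ V : H.left.Opens, Fin d → Γ((uPt Z).I.subscheme, (tot (uPt Z)) ⁻¹ᵁ V) // IsFrame c.2}, h ∈ c.1.1 := by
  obtain ⟨U, hU, hhU, -⟩ := exists_isAffineOpen_mem_and_subset (x := H.hom h) (U := ⊤) trivial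
  obtain ⟨j, hj⟩ := exists_inAt_full (uPt Z) h ⟨U, hU⟩ hhU (gensY ⟨U, hU⟩) (gensY_span ⟨U, hU⟩)
  exact ⟨⟨⟨_, _⟩, isFrame_sec (uPt Z) ⟨U, hU⟩ fun k => gensY ⟨U, hU⟩ (j k)⟩, hj⟩

theorem sec_mul {T : Scheme.{u}} (P : HPt f d T) (U : S.affineOpens) {O : T.Opens} (h : O ≤ P.g ⁻¹ᵁ U.1)
    (a b : (fullCh f U).B) : sec P U h (a * b) = sec P U h a * sec P U h b :=
  map_mul ((P.I.subschemeι ≫ pullback.fst f P.g).appLE (f ⁻¹ᵁ U.1) ((tot P) ⁻¹ᵁ O) (preimage_le P U h)).hom a b

theorem sec_alg {T : Scheme.{u}} (P : HPt f d T) (U : S.affineOpens) {O : T.Opens} (h : O ≤ P.g ⁻¹ᵁ U.1)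
    (r : (fullCh f U).A) : sec P U h (algebraMap (fullCh f U).A (fullCh f U).B r) =
      ((tot P).app O).hom ((P.g.appLE U.1 O h).hom r) := by
  have e : f.appLE U.1 (f ⁻¹ᵁ U.1) le_rfl ≫
      (P.I.subschemeι ≫ pullback.fst f P.g).appLE (f ⁻¹ᵁ U.1) ((tot P) ⁻¹ᵁ O) (preimage_le P U h) =
      P.g.appLE U.1 O h ≫ (tot P).app O := by
    rw [Scheme.Hom.appLE_comp_appLE, Scheme.Hom.app_eq_appLE, Scheme.Hom.appLE_comp_appLE]
    congr 1
    simp [Category.assoc, pullback.condition]
  exact congrArg (fun ψ : Γ(S, U.1) ⟶ Γ(P.I.subscheme, (tot P) ⁻¹ᵁ O) => ψ.hom r) e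

theorem sec_comb {T : Scheme.{u}} (P : HPt f d T) (U : S.affineOpens) {O : T.Opens} (h : O ≤ P.g ⁻¹ᵁ U.1)
    {ι : Type*} (s : Finset ι) (r : ι → (fullCh f U).A) (b : ι → (fullCh f U).B) :
    sec P U h (∑ i ∈ s, r i • b i) = ∑ i ∈ s, ((tot P).app O).hom ((P.g.appLE U.1 O h).hom (r i)) * sec P U h (b i) := by
  refine (map_sum ((P.I.subschemeι ≫ pullback.fst f P.g).appLE (f ⁻¹ᵁ U.1) ((tot P) ⁻¹ᵁ O) (preimage_le P U h)).hom _ _).trans ?_
  refine Finset.sum_congr rfl fun i _ => ?_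
  show sec P U h (r i • b i) = _
  rw [Algebra.smul_def, sec_mul, sec_alg]

variable (f) in
/-- Restriction between the rings of two charts. -/
def resB {U V : S.affineOpens} (h : V.1 ≤ U.1) : (fullCh f U).B →+* (fullCh f V).B := rs (f.preimage_mono h)

variable (f) in
/-- Restriction between the rings of two charts. -/
def resA {U V : S.affineOpens} (h : V.1 ≤ U.1) : (fullCh f U).A →+* (fullCh f V).A := rs h

theorem resB_alg {U V : S.affineOpens} (h : V.1 ≤ U.1) (a : (fullCh f U).A) :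
    resB f h (algebraMap (fullCh f U).A (fullCh f U).B a) = algebraMap (fullCh f V).A (fullCh f V).B (resA f h a) := by
  show rs (f.preimage_mono h) ((f.appLE U.1 (f ⁻¹ᵁ U.1) le_rfl).hom a) = (f.appLE V.1 (f ⁻¹ᵁ V.1) le_rfl).hom (rs h a)
  rw [← Scheme.Hom.app_eq_appLE, ← Scheme.Hom.app_eq_appLE]
  exact (app_rs f h a).symm

theorem isLocalization_resB {U V : S.affineOpens} (q : (fullCh f U).A) (hV : V.1 = S.basicOpen q) (h : V.1 ≤ U.1) :
    @IsLocalization.Away _ _ (algebraMap (fullCh f U).A (fullCh f U).B q) (fullCh f V).B _ (resB f h).toAlgebra :=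
  (U.2.preimage f).isLocalization_of_eq_basicOpen ((f.appLE U.1 (f ⁻¹ᵁ U.1) le_rfl).hom q)
    (homOfLE (f.preimage_mono h)) (by rw [← Scheme.Hom.app_eq_appLE, ← Scheme.preimage_basicOpen, hV])

theorem exists_change (U U' : S.affineOpens) {x : S} (hx : x ∈ U.1) (hx' : x ∈ U'.1) :
    ∃ (V : S.affineOpens) (hV : V.1 ≤ U.1) (hV' : V.1 ≤ U'.1), x ∈ V.1 ∧
      ∀ b : (fullCh f U).B, ∃ r : Fin (gensN (f := f) U') → (fullCh f V).A,
        resB f hV b = ∑ i, r i • resB f hV' (gensY U' i) := by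
  obtain ⟨q, q', hqq, hxq⟩ := exists_basicOpen_le_affine_inter U.2 U'.2 x ⟨hx, hx'⟩
  let V : S.affineOpens := ⟨S.basicOpen q', U'.2.basicOpen q'⟩
  have hV : V.1 ≤ U.1 := hqq.ge.trans (S.basicOpen_le q)
  have hV' : V.1 ≤ U'.1 := S.basicOpen_le q'
  refine ⟨V, hV, hV', hqq.le hxq, fun b => ?_⟩
  letI : Algebra (fullCh f U').B (fullCh f V).B := (resB f hV').toAlgebra
  haveI := isLocalization_resB (f := f) (U := U') (V := V) q' rfl hV'
  obtain ⟨N, c, hc⟩ := IsLocalization.Away.surj (algebraMap (fullCh f U').A (fullCh f U').B q') (resB f hV b)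
  have hcs : c ∈ Submodule.span (fullCh f U').A (Set.range (gensY (f := f) U')) := by rw [gensY_span]; trivial
  obtain ⟨a, ha⟩ := (Submodule.mem_span_range_iff_exists_fun _).1 hcs
  have hunit : IsUnit (resA f hV' q') := RingedSpace.isUnit_res_basicOpen S.toRingedSpace q'
  obtain ⟨w, hw⟩ := hunit.pow N
  refine ⟨fun i => (↑w⁻¹ : (fullCh f V).A) * resA f hV' (a i), ?_⟩
  have hc' : resB f hV b * algebraMap (fullCh f V).A (fullCh f V).B (resA f hV' q' ^ N) = resB f hV' c := by
    rw [map_pow, ← resB_alg]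
    exact hc
  have e : resB f hV' c = ∑ i, resA f hV' (a i) • resB f hV' (gensY (f := f) U' i) := by
    rw [← ha, map_sum]
    refine Finset.sum_congr rfl fun i _ => ?_
    rw [Algebra.smul_def, Algebra.smul_def, map_mul, resB_alg]
  simp only [← smul_smul, ← Finset.smul_sum]
  rw [← e, ← hc', ← hw, Algebra.smul_def, mul_comm (resB f hV b), ← mul_assoc, ← map_mul, Units.inv_mul, map_one, one_mul]

set_option maxHeartbeats 1000000 in
/-- The linear system of determinants. -/
def detData : LocData H.hom where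
  ι := {c : Σ V : H.left.Opens, Fin d → Γ((uPt Z).I.subscheme, (tot (uPt Z)) ⁻¹ᵁ V) // IsFrame c.2}
  D c := c.1.1
  cover h := exists_frame_at Z h
  g c c' := crdDet c.2 (inf_le_left : c.1.1 ⊓ c'.1.1 ≤ c.1.1) fun i => rs ((tot (uPt Z)).preimage_mono inf_le_right) (c'.1.2 i)
  κ := S.affineOpens
  W U := U.1
  affine U := U.2
  coverS x := by
    obtain ⟨U, hU, hxU, -⟩ := exists_isAffineOpen_mem_and_subset (x := x) (U := ⊤) trivial
    exact ⟨⟨U, hU⟩, hxU⟩
  n U := Fintype.card (Fin d → Fin (gensN (f := f) U))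
  t U j c := crdDet c.2 inf_le_left fun k => sec (uPt Z) U inf_le_right (gensY U (gensJ U j k))
  compat U j c c' O hc hd := by
    rw [rs_crdDet, rs_crdDet, rs_crdDet]
    have e : ∀ {O' : H.left.Opens} (h' : O' ≤ H.hom ⁻¹ᵁ U.1) (hh : O ≤ O'),
        (fun k => rs ((tot (uPt Z)).preimage_mono hh) (sec (uPt Z) U h' (gensY U (gensJ U j k)))) =
          fun k => sec (uPt Z) U (hh.trans h') (gensY U (gensJ U j k)) := fun h' hh =>
      funext fun k => rs_sec (uPt Z) U h' hh _
    rw [e inf_le_right hc, e inf_le_right hd]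
    simp only [rs_rs]
    exact crdDet_trans c.2 c'.2 (hc.trans inf_le_left) (hd.trans inf_le_left) _
  overlap U U' j x hx hx' := by
    classical
    obtain ⟨V, hV, hV', hxV, hch⟩ := exists_change (f := f) U U' hx hx'
    choose r hr using fun k => hch (gensY U (gensJ U j k))
    refine ⟨V.1, hV, hV', fun i => ∏ k, r k (gensJ U' i k), hxV, fun c => ?_⟩
    let O : H.left.Opens := c.1.1 ⊓ H.hom ⁻¹ᵁ V.1
    have hO : O ≤ H.hom ⁻¹ᵁ V.1 := inf_le_right
    have hsec : ∀ {W : S.affineOpens} (hW : V.1 ≤ W.1) (hle : O ≤ c.1.1 ⊓ H.hom ⁻¹ᵁ W.1) (b : (fullCh f W).B),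
        rs ((tot (uPt Z)).preimage_mono hle) (sec (uPt Z) W inf_le_right b) = sec (uPt Z) V hO (resB f hW b) := fun {W} hW hle b =>
      (rs_sec (uPt Z) W inf_le_right hle b).trans (congrArg (fun ψ : Γ(X, f ⁻¹ᵁ W.1) ⟶ _ => ψ.hom b)
        (((uPt Z).I.subschemeι ≫ pullback.fst f (uPt Z).g).map_appLE (preimage_le (uPt Z) V hO)
          (homOfLE (f.preimage_mono hW)).op)).symm
    rw [rs_crdDet]
    simp only [rs_crdDet, map_prod]
    rw [show (fun k => rs ((tot (uPt Z)).preimage_mono (inf_le_inf_left c.1.1 (H.hom.preimage_mono hV)))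
        (sec (uPt Z) U inf_le_right (gensY U (gensJ U j k)))) =
      fun k => ∑ i, ((tot (uPt Z)).app O).hom ((H.hom.appLE V.1 O hO).hom (r k i)) *
        rs ((tot (uPt Z)).preimage_mono (inf_le_inf_left c.1.1 (H.hom.preimage_mono hV')))
          (sec (uPt Z) U' inf_le_right (gensY U' i)) from funext fun k => by
        rw [hsec hV (inf_le_inf_left c.1.1 (H.hom.preimage_mono hV)), hr k, sec_comb]
        exact Finset.sum_congr rfl fun i _ => congrArg _ (hsec hV' (inf_le_inf_left c.1.1 (H.hom.preimage_mono hV')) _).symm]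
    rw [crdDet_sum]
    exact Fintype.sum_equiv (Fintype.equivFin _) _ _ fun J => by
      simp [gensJ, O]

end HilbPts

end
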