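import Groth.Agent.HilbPtsLib.ChartAlg

/-!
# Ideals as points of the Grassmannian
-/

set_option autoImplicit false
set_option linter.style.haveILetI false
set_option linter.unusedSectionVars false

universe u

open TensorProduct GrassLib

noncomputable section

namespace HilbPts

section Algebra

variable {A B : Type u} [CommRing A] [CommRing B] [Algebra A B] {d : ℕ}
variable {R R' : Type u} [CommRing R] [Algebra A R] [CommRing R'] [Algebra A R']

theorem rank_of_equiv {M N : Type u} [AddCommGroup M] [Module R M] [AddCommGroup N] [Module R N] (e : M ≃ₗ[R] N)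
    {k : ℕ} (h : ∀ q, Module.rankAtStalk (R := R) N q = k) (q : PrimeSpectrum R) :
    Module.rankAtStalk (R := R) M q = k := by
  rw [Module.rankAtStalk_eq_of_equiv e]
  exact h q

/-- An ideal with finite projective quotient of rank `d` as a point of the Grassmannian. -/
def toGrass (J : Ideal (R ⊗[A] B)) [Module.Finite R ((R ⊗[A] B) ⧸ J)] [Module.Projective R ((R ⊗[A] B) ⧸ J)]
    (h : ∀ q, Module.rankAtStalk (R := R) ((R ⊗[A] B) ⧸ J) q = d) : Pt A B d R where
  toSubmodule := J.restrictScalars R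
  finite_quotient := Module.Finite.equiv (Submodule.Quotient.restrictScalarsEquiv R J).symm
  projective_quotient := Module.Projective.of_equiv (Submodule.Quotient.restrictScalarsEquiv R J).symm
  rankAtStalk_eq := rank_of_equiv (Submodule.Quotient.restrictScalarsEquiv R J) h

theorem isIn_toGrass_iff (x : Fin d → B) (J : Ideal (R ⊗[A] B)) [Module.Finite R ((R ⊗[A] B) ⧸ J)]
    [Module.Projective R ((R ⊗[A] B) ⧸ J)] (h : ∀ q, Module.rankAtStalk (R := R) ((R ⊗[A] B) ⧸ J) q = d) :
    IsIn x (toGrass J h) ↔ Function.Bijective (comb A x J) := by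
  have hmk : ∀ y z : R ⊗[A] B, (toGrass J h).toSubmodule.mkQ y = (toGrass J h).toSubmodule.mkQ z ↔
      Ideal.Quotient.mk J y = Ideal.Quotient.mk J z := fun y z => by
    rw [Submodule.mkQ_apply, Submodule.mkQ_apply, Submodule.Quotient.eq, Ideal.Quotient.eq]
    exact Iff.rfl
  have hsum : ∀ c : Fin d → R, psi x (toGrass J h) c = (toGrass J h).toSubmodule.mkQ (∑ i, c i ⊗ₜ[A] x i) := fun c => by
    rw [psi_apply, map_sum]
    refine Finset.sum_congr rfl fun i _ => ?_
    rw [← map_smul, TensorProduct.smul_tmul', smul_eq_mul, mul_one]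
  constructor
  · intro hin
    refine ⟨fun c c' hc => (bijective_psi hin).1 ?_, fun z => ?_⟩
    · rw [hsum, hsum, hmk, ← comb_apply, ← comb_apply]
      exact hc
    · obtain ⟨z, rfl⟩ := Ideal.Quotient.mk_surjective z
      obtain ⟨c, hc⟩ := hin ((toGrass J h).toSubmodule.mkQ z)
      rw [hsum, hmk] at hc
      exact ⟨c, (comb_apply x J c).trans hc⟩
  · intro hb z
    obtain ⟨z, rfl⟩ := Submodule.mkQ_surjective _ z
    obtain ⟨c, hc⟩ := hb.2 (Ideal.Quotient.mk J z)
    exact ⟨c, by rw [hsum, hmk, ← comb_apply]; exact hc⟩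

theorem map_toGrass (φ : R →ₐ[A] R') (J : Ideal (R ⊗[A] B)) [Module.Finite R ((R ⊗[A] B) ⧸ J)]
    [Module.Projective R ((R ⊗[A] B) ⧸ J)] (h : ∀ q, Module.rankAtStalk (R := R) ((R ⊗[A] B) ⧸ J) q = d)
    [Module.Finite R' ((R' ⊗[A] B) ⧸ J.map (tmap B φ))] [Module.Projective R' ((R' ⊗[A] B) ⧸ J.map (tmap B φ))]
    (h' : ∀ q, Module.rankAtStalk (R := R') ((R' ⊗[A] B) ⧸ J.map (tmap B φ)) q = d) :
    Module.Grassmannian.map φ (toGrass J h) = toGrass (J.map (tmap B φ)) h' := by
  refine eq_of_le ?_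
  rw [map_toSubmodule_eq, Submodule.span_le]
  rintro _ ⟨z, hz, rfl⟩
  have e : mapM φ z = tmap B φ z := by
    clear hz
    induction z using TensorProduct.induction_on with
    | zero => simp
    | add a b ha hb => rw [map_add, map_add, ha, hb]
    | tmul a b => simp
  show mapM φ z ∈ J.map (tmap B φ)
  rw [e]
  exact Ideal.mem_map_of_mem _ hz

end Algebra

end HilbPts

end
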