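import Groth.Agent.HilbPtsLib.Chart
import Groth.Agent.HilbPtsLib.ToGrass
import Mathlib.RingTheory.Finiteness.ModuleFinitePresentation
import Mathlib.RingTheory.Flat.EquationalCriterion

/-!
# The open locus of a chart
-/

set_option autoImplicit false
set_option linter.style.haveILetI false
set_option linter.unusedSectionVars false
set_option backward.isDefEq.respectTransparency false
set_option backward.isDefEq.respectTransparency.types false

universe u

open CategoryTheory CategoryTheory.Limits AlgebraicGeometry TensorProduct GrassLib Opposite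

noncomputable section

namespace HilbPts


variable {X S : Scheme.{u}} {f : X ⟶ S} [IsSeparated f] (p : Ch f) {d : ℕ}
variable {R : Type u} [CommRing R] [Algebra p.A R]

/-- The quotient of the ring of a chart by a closed subscheme supported there. -/
theorem rank_of_supp {I : (pullback f (gR p R)).IdealSheafData}
    (hI : Mor2.IsFinLocFreeOfDeg d (I.subschemeι ≫ pullback.snd f (gR p R))) (hs : Supp p I)
    {J : Ideal (R ⊗[p.A] p.B)} (hJ : sid J = I.comap (eR p R)) :
    Module.Finite R ((R ⊗[p.A] p.B) ⧸ J) ∧ Module.Projective R ((R ⊗[p.A] p.B) ⧸ J) ∧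
      ∀ q, Module.rankAtStalk (R := R) ((R ⊗[p.A] p.B) ⧸ J) q = d := by
  let l := IsOpenImmersion.lift (eR p R) I.subschemeι (range_subschemeι_subset p hs)
  have hl : l ≫ eR p R = I.subschemeι := IsOpenImmersion.lift_fac _ _ _
  haveI : IsClosedImmersion (l ≫ eR p R) := by rw [hl]; infer_instance
  haveI : IsClosedImmersion l := IsClosedImmersion.of_comp l (eR p R)
  let c : Spec (.of ((R ⊗[p.A] p.B) ⧸ J)) ⟶ Spec (.of (R ⊗[p.A] p.B)) :=
    Spec.map (CommRingCat.ofHom (Ideal.Quotient.mk J))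
  haveI : IsClosedImmersion c := IsClosedImmersion.spec_of_surjective _ Ideal.Quotient.mk_surjective
  have hk : c.ker = l.ker := by
    have h1 := comap_ker_comp l (eR p R)
    rw [hl, Scheme.IdealSheafData.ker_subschemeι] at h1
    exact (show c.ker = sid J from rfl).trans (hJ.trans h1)
  let i := IsClosedImmersion.lift c l hk.le
  let i' := IsClosedImmersion.lift l c hk.ge
  have hi : i ≫ c = l := IsClosedImmersion.lift_fac _ _ _
  have hi' : i' ≫ l = c := IsClosedImmersion.lift_fac _ _ _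
  haveI : IsIso i' := ⟨i, by rw [← cancel_mono c, Category.assoc, hi, hi', Category.id_comp],
    by rw [← cancel_mono l, Category.assoc, hi', hi, Category.id_comp]⟩
  have hπ : i' ≫ I.subschemeι ≫ pullback.snd f (gR p R) =
      Spec.map (CommRingCat.ofHom (algebraMap R ((R ⊗[p.A] p.B) ⧸ J))) := by
    rw [← hl, ← clo_snd, Category.assoc, ← Category.assoc i', hi', clo, Category.assoc]
  have key : Mor2.IsFinLocFreeOfDeg d (i' ≫ I.subschemeι ≫ pullback.snd f (gR p R)) :=
    isFinLocFreeOfDeg_of_isPullback (a := i') (h := 𝟙 _) (IsPullback.of_horiz_isIso ⟨by simp⟩) hI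
  rw [hπ] at key
  obtain ⟨⟨h1, h2, h3⟩, h4⟩ := key
  haveI hfin : Module.Finite R ((R ⊗[p.A] p.B) ⧸ J) := RingHom.finite_algebraMap.1 ((IsFinite.SpecMap_iff _).1 h1)
  haveI hflat : Module.Flat R ((R ⊗[p.A] p.B) ⧸ J) := RingHom.flat_algebraMap_iff.1 (Flat.SpecMap_iff.1 h2)
  rw [HasRingHomProperty.Spec_iff (P := @LocallyOfFinitePresentation)] at h3
  haveI : Algebra.FinitePresentation R ((R ⊗[p.A] p.B) ⧸ J) := RingHom.finitePresentation_algebraMap.1 h3
  haveI : Module.FinitePresentation R ((R ⊗[p.A] p.B) ⧸ J) :=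
    Module.FinitePresentation.of_finite_of_finitePresentation R _
  exact ⟨hfin, Module.Flat.projective_of_finitePresentation,
    fun q => (Scheme.Hom.finrank_SpecMap_algebraMap R _ q).symm.trans (h4 q)⟩

/-- A point over an affine scheme supported in the chart. -/
theorem eq_pt_of_supp (x : Fin d → p.B) {I : (pullback f (gR p R)).IdealSheafData}
    (hI : Mor2.IsFinLocFreeOfDeg d (I.subschemeι ≫ pullback.snd f (gR p R))) (hs : Supp p I)
    {J : Ideal (R ⊗[p.A] p.B)} (hJ : sid J = I.comap (eR p R)) (h : Function.Bijective (comb p.A x J)) :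
    (⟨gR p R, I, hI⟩ : HPt f d (Spec (.of R))) = pt p x J h := by
  refine HPt.ext' rfl ?_
  show I = (clo p R J).ker.comap (m f (𝟙 _) _)
  have h2 : m f (𝟙 (Spec (.of R))) (Category.id_comp (gR p R)) = 𝟙 _ := m_id f _
  refine Eq.trans ?_ ((congrArg ((clo p R J).ker.comap ·) h2).trans (Scheme.IdealSheafData.comap_id _)).symm
  rw [ker_clo]
  exact eq_map_of_supp p hs hJ

variable (x : Fin d → p.B)

/-- The points near which a point of the functor lies in the chart. -/
def InAt {T : Scheme.{u}} (P : HPt f d T) (t : T) : Prop :=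
  ∃ (R : CommRingCat.{u}) (j : Spec R ⟶ T) (_ : IsOpenImmersion j) (a : Spec R ⟶ Spec (.of (PtsRing p.A x))),
    t ∈ Set.range j ∧ (univPt p x).map a = P.map j

theorem inAt_of_map {T T' : Scheme.{u}} (j : T' ⟶ T) [IsOpenImmersion j] {P : HPt f d T} {t' : T'}
    (h : InAt p x (P.map j) t') : InAt p x P (j t') := by
  obtain ⟨R, j', hj', a, ⟨z, hz⟩, ha⟩ := h
  exact ⟨R, j' ≫ j, inferInstance, a, ⟨z, by rw [Scheme.Hom.comp_apply, hz]⟩, ha.trans (HPt.map_map j j' P)⟩

theorem inAt_map {T T' : Scheme.{u}} (h : T' ⟶ T) {P : HPt f d T} {t' : T'}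
    (H : InAt p x P (h t')) : InAt p x (P.map h) t' := by
  obtain ⟨R, j, hj, a, hr, ha⟩ := H
  obtain ⟨V, hV, htV, hVle⟩ := exists_isAffineOpen_mem_and_subset (x := t') (U := h ⁻¹ᵁ j.opensRange) hr
  have hrange : Set.range (hV.fromSpec ≫ h) ⊆ Set.range j := by
    rintro _ ⟨z, rfl⟩
    exact hVle (hV.range_fromSpec.le ⟨z, rfl⟩)
  have hl := IsOpenImmersion.lift_fac j (hV.fromSpec ≫ h) hrange
  refine ⟨_, hV.fromSpec, inferInstance, IsOpenImmersion.lift j (hV.fromSpec ≫ h) hrange ≫ a,
    hV.range_fromSpec.ge htV, ?_⟩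
  rw [← HPt.map_map, ha, HPt.map_map, HPt.map_map, hl]

/-- The open set of such points. -/
def locOpen {T : Scheme.{u}} (P : HPt f d T) : T.Opens :=
  ⟨{t | InAt p x P t}, isOpen_iff_forall_mem_open.2 fun t ht => by
    obtain ⟨R, j, hj, a, hr, ha⟩ := ht
    exact ⟨Set.range j, fun t' ht' => ⟨R, j, hj, a, ht', ha⟩, j.isOpenEmbedding.isOpen_range, hr⟩⟩

theorem exists_ch {T : Scheme.{u}} (P : HPt f d T) (h : ∀ t, InAt p x P t) :
    ∃ a : T ⟶ Spec (.of (PtsRing p.A x)), (univPt p x).map a = P := by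
  choose R j hj a hr ha using h
  let 𝒰 : Scheme.OpenCover.{u} T :=
    { I₀ := T
      X := fun t => Spec (R t)
      f := j
      mem₀ := by
        rw [Scheme.presieve₀_mem_precoverage_iff]
        exact ⟨fun t => ⟨t, hr t⟩, hj⟩ }
  let b : T ⟶ Spec (.of (PtsRing p.A x)) := 𝒰.glueMorphisms a fun t t' => ch_ext p x (by
    rw [← HPt.map_map, ← HPt.map_map, ha, ha, HPt.map_map, HPt.map_map]
    exact congrArg (P.map ·) pullback.condition)
  refine ⟨b, HPt.eq_of_cover 𝒰 fun t => ?_⟩
  rw [HPt.map_map, Scheme.Cover.ι_glueMorphisms 𝒰 _ _ t]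
  exact ha t

/-- The fibre over a point of a field lies in the chart if that of the point does. -/
theorem supp_fibre {T : Scheme.{u}} (P : HPt f d T) {K : Type u} [Field K] (k : Spec (.of K) ⟶ T)
    (hk : Supp p (P.map k).I) (z : P.I.subscheme)
    (hz : (P.I.subschemeι ≫ pullback.snd f P.g) z = k (IsLocalRing.closedPoint K)) :
    (P.I.subschemeι ≫ pullback.fst f P.g) z ∈ Set.range p.iW := by
  have sq := isPullback_comap_m f k (rfl : k ≫ P.g = (P.map k).g) P.I
  obtain ⟨w, hw, -⟩ := Scheme.Pullback.exists_preimage_pullback (f := P.I.subschemeι ≫ pullback.snd f P.g)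
    (g := k) z (IsLocalRing.closedPoint K) hz
  have e := (isPullback_comap P.I (m f k (rfl : k ≫ P.g = (P.map k).g))).w
  have h1 := congrArg (fun q => sq.isoPullback.inv ≫ q ≫ pullback.fst f P.g) e
  simp only [Category.assoc, m_fst] at h1
  have H : sq.isoPullback.inv ≫ (P.I.comap (m f k (rfl : k ≫ P.g = (P.map k).g))).subschemeι ≫ pullback.fst f (P.map k).g =
      pullback.fst (P.I.subschemeι ≫ pullback.snd f P.g) k ≫ P.I.subschemeι ≫ pullback.fst f P.g := by
    rw [← sq.isoPullback_inv_fst]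
    simp only [Category.assoc]
    exact h1.symm
  rw [← hw]
  exact hk ⟨sq.isoPullback.inv w, congrArg (fun q : _ ⟶ X => q w) H⟩

/-- Near a point whose fibre lies over the open of the source, so does the subscheme. -/
theorem exists_basicOpen_supp {I : (pullback f (gR p R)).IdealSheafData}
    [UniversallyClosed (I.subschemeι ≫ pullback.snd f (gR p R))] (t : Spec (.of R))
    (h : ∀ z, (I.subschemeι ≫ pullback.snd f (gR p R)) z = t →
      (I.subschemeι ≫ pullback.fst f (gR p R)) z ∈ Set.range p.iW) :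
    ∃ r : R, t ∈ PrimeSpectrum.basicOpen r ∧ ∀ z, (I.subschemeι ≫ pullback.snd f (gR p R)) z ∈ PrimeSpectrum.basicOpen r →
      (I.subschemeι ≫ pullback.fst f (gR p R)) z ∈ Set.range p.iW := by
  let π := I.subschemeι ≫ pullback.snd f (gR p R)
  let bad := π '' ((I.subschemeι ≫ pullback.fst f (gR p R)) ⁻¹' Set.range p.iW)ᶜ
  have hbad : IsClosed bad := π.isClosedMap _
    (p.iW.isOpenEmbedding.isOpen_range.preimage (I.subschemeι ≫ pullback.fst f (gR p R)).continuous).isClosed_compl
  have ht : t ∈ badᶜ := by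
    rintro ⟨z, hz, hzt⟩
    exact hz (h z hzt)
  obtain ⟨_, ⟨r, rfl⟩, htr, hr⟩ := PrimeSpectrum.isTopologicalBasis_basic_opens.exists_subset_of_mem_open ht
    hbad.isOpen_compl
  exact ⟨r, htr, fun z hz => by_contra fun hn => hr hz ⟨z, hn, rfl⟩⟩

end HilbPts

end
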