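import Groth.Agent.HilbPtsLib.Cover
import Mathlib.AlgebraicGeometry.Sites.Representability

/-!
# Representability of the Hilbert functor of points
-/

set_option autoImplicit false
set_option linter.style.haveILetI false
set_option linter.unusedSectionVars false
set_option backward.isDefEq.respectTransparency false
set_option backward.isDefEq.respectTransparency.types false

universe u

open CategoryTheory CategoryTheory.Limits AlgebraicGeometry TensorProduct GrassLib Opposite

noncomputable section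

namespace HilbPts

variable {X S : Scheme.{u}} {f : X ⟶ S} [IsSeparated f] {d : ℕ}

/-- The map from a chart to the functor. -/
def chMap (p : Ch f) (x : Fin d → p.B) : yoneda.obj (Spec (.of (PtsRing p.A x))) ⟶ hilbF f d :=
  yonedaEquiv.symm (show (hilbF f d).obj (op (Spec (.of (PtsRing p.A x)))) from univPt p x)

theorem chMap_app (p : Ch f) (x : Fin d → p.B) {Z : Scheme.{u}} (a : Z ⟶ Spec (.of (PtsRing p.A x))) :
    (chMap p x).app (op Z) a = (univPt p x).map a :=
  yonedaEquiv_symm_app_apply (F := hilbF f d) _ (op Z) a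

theorem inAt_map_univPt (p : Ch f) (x : Fin d → p.B) {Z : Scheme.{u}} (a : Z ⟶ Spec (.of (PtsRing p.A x))) (z : Z) :
    InAt p x ((univPt p x).map a) z :=
  inAt_map p x a ⟨_, 𝟙 _, inferInstance, 𝟙 _, ⟨a z, rfl⟩, rfl⟩

theorem chMap_relative (p : Ch f) (x : Fin d → p.B) : IsOpenImmersion.presheaf (chMap p x) := by
  refine MorphismProperty.relative.of_exists fun T g => ?_
  let P : HPt f d T := yonedaEquiv g
  let V := locOpen p x P
  obtain ⟨a, ha⟩ := exists_ch p x (P.map V.ι) fun z => (inAt_map_iff p x V.ι P z).2 z.2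
  have hg : ∀ (Z : Scheme.{u}) (h : Z ⟶ T), g.app (op Z) h = P.map h := fun Z h =>
    (map_yonedaEquiv g h).symm
  refine ⟨V.toScheme, yoneda.map a, V.ι, ?_, inferInstanceAs (IsOpenImmersion V.ι)⟩
  refine IsPullback.of_forall_isPullback_app fun Z => ?_
  rw [Types.isPullback_iff]
  refine ⟨?_, ?_, ?_⟩
  · ext (h : Z.unop ⟶ V.toScheme)
    show (chMap p x).app Z (h ≫ a) = g.app Z (h ≫ V.ι)
    refine (chMap_app p x (h ≫ a)).trans (Eq.trans ?_ (hg Z.unop (h ≫ V.ι)).symm)
    rw [← HPt.map_map, ha, HPt.map_map]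
  · rintro x₁ x₂ ⟨-, h2⟩
    exact (cancel_mono V.ι).1 (show x₁ ≫ V.ι = x₂ ≫ V.ι from h2)
  · intro (x₂ : Z.unop ⟶ Spec (.of (PtsRing p.A x))) (x₃ : Z.unop ⟶ T) hx
    have hrel : (univPt p x).map x₂ = P.map x₃ := (chMap_app p x x₂).symm.trans (hx.trans (hg Z.unop x₃))
    have hr : Set.range x₃ ⊆ Set.range V.ι := by
      rw [Scheme.Opens.range_ι]
      rintro _ ⟨z, rfl⟩
      exact (inAt_map_iff p x x₃ P z).1 (hrel ▸ inAt_map_univPt p x x₂ z)
    let l : Z.unop ⟶ V.toScheme := IsOpenImmersion.lift V.ι x₃ hr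
    have hl : l ≫ V.ι = x₃ := IsOpenImmersion.lift_fac _ _ _
    refine ⟨l, ?_, hl⟩
    show l ≫ a = x₂
    refine ch_ext p x ?_
    rw [← HPt.map_map, ha, HPt.map_map, hl, hrel]

/-- The coordinates of an index. -/
abbrev Idx.x (i : Idx f d) : Fin d → (mkCh f i.1 i.2.1).B := i.2.2

/-- If any `d` points of a fibre lie in an affine open, the Hilbert functor of points is representable. -/
theorem representable (h : ∀ (s : S) (x : Fin d → X), (∀ i, f.base (x i) = s) → ∃ U : X.Opens, IsAffineOpen U ∧ ∀ i, x i ∈ U) :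
    HilbD.Representable f d := by
  classical
  let Yc : Idx f d → Scheme.{u} := fun i => Spec (.of (PtsRing (mkCh f i.1 i.2.1).A (Idx.x i)))
  let F : Sheaf Scheme.zariskiTopology.{u} (Type u) := ⟨hilbF f d, isSheaf_hilbF f d⟩
  let g : ∀ i : Idx f d, yoneda.obj (Yc i) ⟶ F.1 := fun i => chMap (mkCh f i.1 i.2.1) (Idx.x i)
  have hg : ∀ i, IsOpenImmersion.presheaf (g i) := fun i => chMap_relative _ _
  haveI : Presheaf.IsLocallySurjective Scheme.zariskiTopology (Sigma.desc g) := ⟨fun {T} (P : HPt f d T) => by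
    choose i hi using exists_inAt h P
    let V : T → T.Opens := fun t => locOpen (mkCh f (i t).1 (i t).2.1) (Idx.x (i t)) P
    let 𝒰 : T.OpenCover := T.openCoverOfIsOpenCover V
      (top_le_iff.1 fun t _ => TopologicalSpace.Opens.mem_iSup.2 ⟨t, hi t⟩)
    refine GrothendieckTopology.superset_covering _ ?_ 𝒰.mem_grothendieckTopology
    rw [Sieve.generate_le_iff]
    rintro _ _ ⟨t⟩
    obtain ⟨a, ha⟩ := exists_ch (mkCh f (i t).1 (i t).2.1) (Idx.x (i t)) (P.map (V t).ι)
      fun w => (inAt_map_iff _ _ (V t).ι P w).2 w.2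
    refine ⟨(Sigma.ι (fun i => yoneda.obj (Yc i)) (i t)).app _ a, ?_⟩
    show ((Sigma.ι _ (i t)) ≫ Sigma.desc g).app _ a = _
    rw [Sigma.ι_desc]
    exact (chMap_app _ _ a).trans ha⟩
  exact representable_of_representableBy f d (Scheme.LocalRepresentability.representableBy (F := F) hg)

end HilbPts

end
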