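import Groth.Agent.HilbPtsLib.Local

/-!
# A fibre in the chart gives a neighbourhood in the chart
-/

set_option autoImplicit false
set_option linter.style.haveILetI false
set_option linter.unusedSectionVars false
set_option backward.isDefEq.respectTransparency false
set_option backward.isDefEq.respectTransparency.types false

universe u

open CategoryTheory CategoryTheory.Limits AlgebraicGeometry TensorProduct GrassLib

noncomputable section

namespace HilbPts

variable {X S : Scheme.{u}} {f : X ⟶ S} [IsSeparated f] (p : Ch f) {d : ℕ} (x : Fin d → p.B)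
variable {R R' : Type u} [CommRing R] [Algebra p.A R] [CommRing R'] [Algebra p.A R']

theorem exists_comap (P : HPt f d (Spec (.of R))) (hg : P.g = gR p R) :
    ∃ (I : (pullback f (gR p R)).IdealSheafData)
      (hI : Mor2.IsFinLocFreeOfDeg d (I.subschemeι ≫ pullback.snd f (gR p R))), P = ⟨gR p R, I, hI⟩ := by
  obtain ⟨g, I, hI⟩ := P
  obtain rfl : g = gR p R := hg
  exact ⟨I, hI, rfl⟩

theorem comap_map (φ : R →ₐ[p.A] R') (I : (pullback f (gR p R)).IdealSheafData) {J : Ideal (R ⊗[p.A] p.B)}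
    (hJ : sid J = I.comap (eR p R)) :
    sid (J.map (tmap p.B φ)) = (I.comap (m f (Spec.map (CommRingCat.ofHom φ.toRingHom)) (gR_map p φ))).comap (eR p R') := by
  rw [← Scheme.IdealSheafData.comap_comp, ← eR_nat, Scheme.IdealSheafData.comap_comp, ← hJ, comap_sid]
  rfl

theorem map_mk_eq (φ : R →ₐ[p.A] R') (I : (pullback f (gR p R)).IdealSheafData)
    (hI : Mor2.IsFinLocFreeOfDeg d (I.subschemeι ≫ pullback.snd f (gR p R))) :
    ∃ hI', (⟨gR p R, I, hI⟩ : HPt f d (Spec (.of R))).map (Spec.map (CommRingCat.ofHom φ.toRingHom)) =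
      ⟨gR p R', I.comap (m f (Spec.map (CommRingCat.ofHom φ.toRingHom)) (gR_map p φ)), hI'⟩ := by
  have hI' := isFinLocFreeOfDeg_of_isPullback (isPullback_comap_m f _ (gR_map p φ) I) hI
  refine ⟨hI', HPt.ext' (gR_map p φ) ?_⟩
  show I.comap (m f _ rfl) = (I.comap (m f _ (gR_map p φ))).comap (m f (𝟙 _) _)
  rw [← Scheme.IdealSheafData.comap_comp, m_comp]
  congr 2

theorem ideal_of_eq {I : (pullback f (gR p R)).IdealSheafData}
    {hI : Mor2.IsFinLocFreeOfDeg d (I.subschemeι ≫ pullback.snd f (gR p R))} {J J₀ : Ideal (R ⊗[p.A] p.B)}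
    {h : Function.Bijective (comb p.A x J₀)} (e : (⟨gR p R, I, hI⟩ : HPt f d (Spec (.of R))) = pt p x J₀ h)
    (hJ : sid J = I.comap (eR p R)) : J = J₀ := by
  refine sid_injective ?_
  have h1 := HPt.I_eq e (Category.id_comp _)
  have h2 : m f (𝟙 (Spec (.of R))) (Category.id_comp (pt p x J₀ h).g) = 𝟙 _ := m_id f _
  have h3 : I = (pt p x J₀ h).I :=
    h1.trans ((congrArg ((pt p x J₀ h).I.comap ·) h2).trans (Scheme.IdealSheafData.comap_id _))
  exact hJ.trans ((congrArg (·.comap (eR p R)) h3).trans (comap_pt p x J₀ h))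

set_option maxHeartbeats 1000000 in
theorem inAt_of_supp {I : (pullback f (gR p R)).IdealSheafData}
    (hI : Mor2.IsFinLocFreeOfDeg d (I.subschemeι ≫ pullback.snd f (gR p R))) (hs : Supp p I)
    {K : Type u} [Field K] (k : Spec (.of K) ⟶ Spec (.of R)) (a : Spec (.of K) ⟶ Spec (.of (PtsRing p.A x)))
    (ha : (univPt p x).map a = (⟨gR p R, I, hI⟩ : HPt f d (Spec (.of R))).map k) :
    InAt p x (⟨gR p R, I, hI⟩ : HPt f d (Spec (.of R))) (k (IsLocalRing.closedPoint K)) := by
  obtain ⟨χ₀, rfl⟩ := Spec.map_surjective k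
  letI : Algebra p.A K := (χ₀.hom.comp (algebraMap p.A R)).toAlgebra
  let χ : R →ₐ[p.A] K := { χ₀.hom with commutes' := fun _ => rfl }
  have hχ : Spec.map χ₀ = Spec.map (CommRingCat.ofHom χ.toRingHom) := rfl
  rw [hχ] at ha ⊢
  obtain ⟨φ, rfl⟩ := exists_hom_of_map_eq p x ((congrArg HPt.g ha).trans (gR_map p χ))
  obtain ⟨J, hJ⟩ := exists_sid (I.comap (eR p R))
  obtain ⟨hI', hmap⟩ := map_mk_eq p χ I hI
  rw [map_univPt, hmap] at ha
  have hJK := ideal_of_eq p x ha.symm (comap_map p χ I hJ)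
  obtain ⟨f1, f2, f3⟩ := rank_of_supp p hI hs hJ
  obtain ⟨g1, g2, g3⟩ := rank_of_supp p hI' (supp_comap p _ _ hs) (comap_map p χ I hJ)
  have hbK : IsIn x (toGrass (J.map (tmap p.B χ)) g3) := by
    rw [isIn_toGrass_iff, hJK]; exact bijective_comb_pts φ
  rw [← map_toGrass χ J f3 g3] at hbK
  have hob := obstr_of_isIn χ hbK
  obtain ⟨r, hr, hrK⟩ : ∃ r ∈ obstr x (toGrass J f3), χ r ≠ 0 := by
    by_contra hc
    push_neg at hc
    have : (obstr x (toGrass J f3)).map χ.toRingHom = ⊥ := (Ideal.map_eq_bot_iff_le_ker _).2 fun r hr => hc r hr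
    rw [hob] at this
    exact top_ne_bot this
  let L := Localization.Away r
  let φ₁ : R →ₐ[p.A] L := IsScalarTower.toAlgHom p.A R L
  obtain ⟨hI₁, hmap₁⟩ := map_mk_eq p φ₁ I hI
  obtain ⟨l1, l2, l3⟩ := rank_of_supp p hI₁ (supp_comap p _ _ hs) (comap_map p φ₁ I hJ)
  have hL : (obstr x (toGrass J f3)).map φ₁.toRingHom = ⊤ :=
    Ideal.eq_top_of_isUnit_mem _ (Ideal.mem_map_of_mem _ hr) (IsLocalization.Away.algebraMap_isUnit r)
  have hbL := isIn_of_obstr φ₁ hL
  rw [map_toGrass φ₁ J f3 l3, isIn_toGrass_iff] at hbL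
  obtain ⟨ψ, hψ⟩ := exists_ptsHom hbL
  haveI : IsOpenImmersion (Spec.map (CommRingCat.ofHom φ₁.toRingHom)) :=
    IsOpenImmersion.of_isLocalization (S := L) r
  refine ⟨CommRingCat.of L, Spec.map (CommRingCat.ofHom φ₁.toRingHom), inferInstance,
    Spec.map (CommRingCat.ofHom ψ.toRingHom), ?_, ?_⟩
  · show _ ∈ Set.range (PrimeSpectrum.comap (algebraMap R L))
    rw [PrimeSpectrum.localization_away_comap_range L r]
    show r ∉ ((IsLocalRing.closedPoint K).asIdeal.comap χ.toRingHom)
    rw [Ideal.mem_comap]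
    intro h
    have : (IsLocalRing.closedPoint K).asIdeal = ⊥ := IsLocalRing.maximalIdeal_eq_bot
    rw [this] at h
    exact hrK h
  · rw [map_univPt, hmap₁]
    refine (pt_congr p x hψ _ hbL).trans ?_
    exact (eq_pt_of_supp p x hI₁ (supp_comap p _ _ hs) (comap_map p φ₁ I hJ) hbL).symm

theorem exists_lift_away {K : Type u} [Field K] (r : R) (k : Spec (.of K) ⟶ Spec (.of R))
    (h : k (IsLocalRing.closedPoint K) ∈ PrimeSpectrum.basicOpen r) :
    ∃ k' : Spec (.of K) ⟶ Spec (.of (Localization.Away r)),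
      k' ≫ Spec.map (CommRingCat.ofHom (algebraMap R (Localization.Away r))) = k := by
  haveI : IsOpenImmersion (Spec.map (CommRingCat.ofHom (algebraMap R (Localization.Away r)))) :=
    IsOpenImmersion.of_isLocalization (S := Localization.Away r) r
  have hr : Set.range k ⊆ Set.range (Spec.map (CommRingCat.ofHom (algebraMap R (Localization.Away r)))) := by
    rintro _ ⟨z, rfl⟩
    rw [show z = IsLocalRing.closedPoint K from Subsingleton.elim (α := PrimeSpectrum K) _ _]
    exact (PrimeSpectrum.localization_away_comap_range (Localization.Away r) r).ge h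
  exact ⟨IsOpenImmersion.lift _ k hr, IsOpenImmersion.lift_fac _ _ _⟩

set_option maxHeartbeats 1000000 in
theorem inAt_affine {I : (pullback f (gR p R)).IdealSheafData}
    (hI : Mor2.IsFinLocFreeOfDeg d (I.subschemeι ≫ pullback.snd f (gR p R)))
    {K : Type u} [Field K] (k : Spec (.of K) ⟶ Spec (.of R)) (a : Spec (.of K) ⟶ Spec (.of (PtsRing p.A x)))
    (ha : (univPt p x).map a = (⟨gR p R, I, hI⟩ : HPt f d (Spec (.of R))).map k) :
    InAt p x (⟨gR p R, I, hI⟩ : HPt f d (Spec (.of R))) (k (IsLocalRing.closedPoint K)) := by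
  have hk : Supp p ((⟨gR p R, I, hI⟩ : HPt f d (Spec (.of R))).map k).I := by
    rw [← ha]
    exact supp_comap p _ _ (supp_pt p x _ _)
  haveI := hI.1.1
  obtain ⟨r, htr, hr⟩ := exists_basicOpen_supp p (k (IsLocalRing.closedPoint K))
    (supp_fibre p (⟨gR p R, I, hI⟩ : HPt f d (Spec (.of R))) k hk)
  obtain ⟨k', hk'⟩ := exists_lift_away r k htr
  let L := Localization.Away r
  let φ₁ : R →ₐ[p.A] L := IsScalarTower.toAlgHom p.A R L
  let j := Spec.map (CommRingCat.ofHom φ₁.toRingHom)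
  haveI : IsOpenImmersion j := IsOpenImmersion.of_isLocalization (S := L) r
  have hj : k' ≫ j = k := hk'
  obtain ⟨hI', hmap⟩ := map_mk_eq p φ₁ I hI
  have hs : Supp p (I.comap (m f j (gR_map p φ₁))) := by
    rintro _ ⟨z, rfl⟩
    have sq := isPullback_comap_m f j (gR_map p φ₁) I
    let q := ((I.comapIso (m f j (gR_map p φ₁))).hom ≫ pullback.snd (m f j (gR_map p φ₁)) I.subschemeι) z
    have h1 : (I.subschemeι ≫ pullback.snd f (gR p R)) q ∈ PrimeSpectrum.basicOpen r := by
      have e : (I.subschemeι ≫ pullback.snd f (gR p R)) q =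
          j (((I.comap (m f j (gR_map p φ₁))).subschemeι ≫ pullback.snd f (gR p L)) z) :=
        congrArg (fun g : _ ⟶ Spec (CommRingCat.of R) => g z) sq.w
      rw [e]
      exact (PrimeSpectrum.localization_away_comap_range L r).le ⟨_, rfl⟩
    have e2 : ((I.comapIso (m f j (gR_map p φ₁))).hom ≫ pullback.snd (m f j (gR_map p φ₁)) I.subschemeι) ≫
        I.subschemeι ≫ pullback.fst f (gR p R) =
        (I.comap (m f j (gR_map p φ₁))).subschemeι ≫ pullback.fst f (gR p L) := by
      rw [← Category.assoc, (isPullback_comap I (m f j (gR_map p φ₁))).w, Category.assoc, m_fst]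
    rw [show ((I.comap (m f j (gR_map p φ₁))).subschemeι ≫ pullback.fst f (gR p L)) z =
      (I.subschemeι ≫ pullback.fst f (gR p R)) q from congrArg (fun g : _ ⟶ X => g z) e2.symm]
    exact hr q h1
  rw [← hj, ← HPt.map_map, hmap] at ha
  have h2 := inAt_of_supp p x hI' hs k' a ha
  rw [← hmap] at h2
  have h3 := inAt_of_map p x j h2
  rw [← hj]
  exact h3

/-- A point over a field in the chart gives a neighbourhood in the chart. -/
theorem inAt_of_field {T : Scheme.{u}} (P : HPt f d T) {K : Type u} [Field K] (k : Spec (.of K) ⟶ T)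
    (a : Spec (.of K) ⟶ Spec (.of (PtsRing p.A x))) (ha : (univPt p x).map a = P.map k) :
    InAt p x P (k (IsLocalRing.closedPoint K)) := by
  have hU : k (IsLocalRing.closedPoint K) ∈ P.g ⁻¹ᵁ p.iU.opensRange :=
    ⟨(a ≫ Spec.map (CommRingCat.ofHom (algebraMap p.A (PtsRing p.A x)))) (IsLocalRing.closedPoint K),
      congrArg (fun g : _ ⟶ S => g (IsLocalRing.closedPoint K))
        (show (a ≫ Spec.map (CommRingCat.ofHom (algebraMap p.A (PtsRing p.A x)))) ≫ p.iU = k ≫ P.g from
          (Category.assoc _ _ _).trans (congrArg HPt.g ha))⟩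
  obtain ⟨V, hV, htV, hVle⟩ := exists_isAffineOpen_mem_and_subset hU
  have hrange : Set.range (hV.fromSpec ≫ P.g) ⊆ Set.range p.iU := by
    rintro _ ⟨z, rfl⟩
    exact hVle (hV.range_fromSpec.le ⟨z, rfl⟩)
  let b := IsOpenImmersion.lift p.iU (hV.fromSpec ≫ P.g) hrange
  letI : Algebra p.A Γ(T, V) := (Spec.preimage b).hom.toAlgebra
  have hg : (P.map hV.fromSpec).g = gR p Γ(T, V) := by
    show hV.fromSpec ≫ P.g = Spec.map (Spec.preimage b) ≫ p.iU
    rw [Spec.map_preimage, IsOpenImmersion.lift_fac]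
  obtain ⟨I, hI, hP⟩ := exists_comap p (P.map hV.fromSpec) hg
  have hr : Set.range k ⊆ Set.range hV.fromSpec := by
    rintro _ ⟨z, rfl⟩
    rw [show z = IsLocalRing.closedPoint K from Subsingleton.elim (α := PrimeSpectrum K) _ _]
    exact hV.range_fromSpec.ge htV
  let k' := IsOpenImmersion.lift hV.fromSpec k hr
  have hk' : k' ≫ hV.fromSpec = k := IsOpenImmersion.lift_fac _ _ _
  rw [← hk', ← HPt.map_map, hP] at ha
  have h2 := inAt_affine p x hI k' a ha
  rw [← hP] at h2
  rw [← hk']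
  exact inAt_of_map p x hV.fromSpec h2

/-- The locus of the chart is compatible with base change. -/
theorem inAt_map_iff {T T' : Scheme.{u}} (h : T' ⟶ T) (P : HPt f d T) (t' : T') :
    InAt p x (P.map h) t' ↔ InAt p x P (h t') := by
  refine ⟨fun H => ?_, inAt_map p x h⟩
  obtain ⟨R, j, hj, a, hr, ha⟩ := H
  obtain ⟨z, hz⟩ := hr
  let k := (Spec R).fromSpecResidueField z
  have key := inAt_of_field p x P (K := (Spec R).residueField z) (k ≫ j ≫ h) (k ≫ a)
    (by rw [← HPt.map_map, ha, HPt.map_map, HPt.map_map, Category.assoc])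
  convert key using 1
  show h t' = (k ≫ j ≫ h) _
  rw [← hz, Scheme.Hom.comp_apply, Scheme.Hom.comp_apply]
  congr 2
  exact ((Spec R).fromSpecResidueField_apply z _).symm

end HilbPts

end
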