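import Groth.Agent.HilbPtsLib.Good
import Groth.Agent.HilbPtsLib.Nbhd
import Groth.Agent.HilbPtsLib.Closed
import Mathlib.AlgebraicGeometry.ValuativeCriterion
import Mathlib.RingTheory.Flat.TorsionFree
import Mathlib.RingTheory.LocalRing.Module
import Mathlib.LinearAlgebra.Basis.VectorSpace
import Mathlib.RingTheory.Localization.Module

/-!
# The Hilbert scheme of points of a finite morphism is universally closed
-/

set_option autoImplicit false
set_option linter.style.haveILetI false
set_option linter.unusedSectionVars false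
set_option backward.isDefEq.respectTransparency false
set_option backward.isDefEq.respectTransparency.types false

universe u

open CategoryTheory CategoryTheory.Limits AlgebraicGeometry TensorProduct GrassLib

noncomputable section

namespace HilbPts

section Alg

variable {A B R K : Type u} [CommRing A] [CommRing B] [Algebra A B] [CommRing R] [IsDomain R] [Algebra A R]
variable [Field K] [Algebra A K] [Algebra R K] [IsFractionRing R K] [IsScalarTower A R K]

theorem tmap_smul (c : R) (v : R ⊗[A] B) :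
    tmap B (IsScalarTower.toAlgHom A R K) (c • v) = algebraMap R K c • tmap B (IsScalarTower.toAlgHom A R K) v := by
  induction v using TensorProduct.induction_on with
  | zero => simp
  | tmul r b => simp [TensorProduct.smul_tmul', Algebra.smul_def]
  | add u v hu hv => rw [smul_add, map_add, map_add, hu, hv, smul_add]

theorem exists_smul_eq_tmap (w : K ⊗[A] B) :
    ∃ (s : R) (_ : s ≠ 0) (z : R ⊗[A] B), algebraMap R K s • w = tmap B (IsScalarTower.toAlgHom A R K) z := by
  induction w using TensorProduct.induction_on with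
  | zero => exact ⟨1, one_ne_zero, 0, by simp⟩
  | tmul k b =>
    obtain ⟨r, s, hs, hk⟩ := IsFractionRing.div_surjective (A := R) k
    refine ⟨s, nonZeroDivisors.ne_zero hs, r ⊗ₜ b, ?_⟩
    have hs' : algebraMap R K s ≠ 0 := IsFractionRing.to_map_ne_zero_of_mem_nonZeroDivisors hs
    rw [Algebra.TensorProduct.map_tmul, TensorProduct.smul_tmul', smul_eq_mul, ← hk, mul_div_cancel₀ _ hs']
    rfl
  | add a b ha hb =>
    obtain ⟨s, hs, z, hz⟩ := ha
    obtain ⟨t, ht, y, hy⟩ := hb
    refine ⟨s * t, mul_ne_zero hs ht, t • z + s • y, ?_⟩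
    rw [map_add, tmap_smul, tmap_smul, ← hz, ← hy, smul_smul, smul_smul, ← map_mul, ← map_mul, smul_add, mul_comm t s]

theorem map_comap_tmap (J : Ideal (K ⊗[A] B)) :
    (J.comap (tmap B (IsScalarTower.toAlgHom A R K))).map (tmap B (IsScalarTower.toAlgHom A R K)) = J := by
  refine le_antisymm Ideal.map_comap_le fun w hw => ?_
  obtain ⟨s, hs, z, hz⟩ := exists_smul_eq_tmap (R := R) w
  have hz' : z ∈ J.comap (tmap B (IsScalarTower.toAlgHom A R K)) := by
    rw [Ideal.mem_comap, ← hz]
    exact Submodule.smul_of_tower_mem J _ hw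
  have h1 := Ideal.mem_map_of_mem (tmap B (IsScalarTower.toAlgHom A R K)) hz'
  rw [← hz] at h1
  have h2 := Submodule.smul_of_tower_mem _ (algebraMap R K s)⁻¹ h1
  rwa [smul_smul, inv_mul_cancel₀ (by rwa [ne_eq, IsFractionRing.to_map_eq_zero_iff]), one_smul] at h2

/-- The closure of a point over the fraction field of a valuation ring. -/
theorem exists_closure [ValuationRing R] [Module.Finite A B] (J : Ideal (K ⊗[A] B)) {d : ℕ}
    [Module.Finite K ((K ⊗[A] B) ⧸ J)]
    (hJ : ∀ q, Module.rankAtStalk (R := K) ((K ⊗[A] B) ⧸ J) q = d) :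
    Module.Finite R ((R ⊗[A] B) ⧸ J.comap (tmap B (IsScalarTower.toAlgHom A R K))) ∧
      Module.Projective R ((R ⊗[A] B) ⧸ J.comap (tmap B (IsScalarTower.toAlgHom A R K))) ∧
      ∀ q, Module.rankAtStalk (R := R) ((R ⊗[A] B) ⧸ J.comap (tmap B (IsScalarTower.toAlgHom A R K))) q = d := by
  let τ := tmap B (IsScalarTower.toAlgHom A R K)
  let M := (R ⊗[A] B) ⧸ J.comap τ
  let N := (K ⊗[A] B) ⧸ J
  let ψ : M →ₗ[R] N :=
    { toFun := Ideal.quotientMap J (τ : R ⊗[A] B →+* K ⊗[A] B) le_rfl
      map_add' := map_add _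
      map_smul' := fun c v => by
        obtain ⟨v, rfl⟩ := Ideal.Quotient.mk_surjective v
        show Ideal.quotientMap J (τ : R ⊗[A] B →+* K ⊗[A] B) le_rfl (Ideal.Quotient.mk _ (c • v)) =
          c • Ideal.quotientMap J (τ : R ⊗[A] B →+* K ⊗[A] B) le_rfl (Ideal.Quotient.mk _ v)
        rw [Ideal.quotientMap_mk, Ideal.quotientMap_mk]
        show Ideal.Quotient.mk J (τ (c • v)) = _
        rw [tmap_smul, algebraMap_smul]
        rfl }
  have hψ : Function.Injective ψ := Ideal.quotientMap_injective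
  haveI hfin : Module.Finite R M := inferInstance
  have htors : Submodule.torsion R M = ⊥ := by
    rw [eq_bot_iff]
    rintro v ⟨a, ha⟩
    have h0 : algebraMap R K (a : R) • ψ v = 0 := by
      rw [algebraMap_smul, ← map_smul]
      exact (congrArg ψ ha).trans (map_zero ψ)
    refine (Submodule.mem_bot R).2 (hψ (Eq.trans ?_ (map_zero ψ).symm))
    exact (smul_eq_zero.1 h0).resolve_left (IsFractionRing.to_map_ne_zero_of_mem_nonZeroDivisors a.2)
  haveI : Module.Flat R M := Module.Flat.flat_iff_torsion_eq_bot_of_isBezout.2 htors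
  haveI : Module.Free R M := Module.free_of_flat_of_isLocalRing
  refine ⟨hfin, inferInstance, fun q => ?_⟩
  rw [Module.rankAtStalk_eq_finrank_of_free]
  show Module.finrank R M = d
  let b := Module.Free.chooseBasis R M
  have hli : LinearIndependent K (ψ ∘ b) :=
    (LinearIndependent.iff_fractionRing R K).1 (b.linearIndependent.map' ψ (LinearMap.ker_eq_bot.2 hψ))
  have hsp : ⊤ ≤ Submodule.span K (Set.range (ψ ∘ b)) := fun n _ => by
    obtain ⟨w, rfl⟩ := Ideal.Quotient.mk_surjective n
    obtain ⟨s, hs, z, hz⟩ := exists_smul_eq_tmap (R := R) w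
    have h1 : ψ (Ideal.Quotient.mk _ z) ∈ Submodule.span K (Set.range (ψ ∘ b)) := by
      rw [← b.sum_repr (Ideal.Quotient.mk _ z), map_sum]
      refine sum_mem fun i _ => ?_
      rw [map_smul, ← IsScalarTower.algebraMap_smul K]
      exact Submodule.smul_mem _ _ (Submodule.subset_span ⟨i, rfl⟩)
    have h2 : ψ (Ideal.Quotient.mk _ z) = algebraMap R K s • Ideal.Quotient.mk J w := by
      show Ideal.Quotient.mk J (τ z) = _
      rw [← hz]
      rfl
    rw [h2] at h1
    have h3 := Submodule.smul_mem _ (algebraMap R K s)⁻¹ h1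
    rwa [smul_smul, inv_mul_cancel₀ (by rwa [ne_eq, IsFractionRing.to_map_eq_zero_iff]), one_smul] at h3
  have h4 := Module.finrank_eq_card_basis (Module.Basis.mk hli hsp)
  have h5 := hJ ⟨⊥, Ideal.isPrime_bot⟩
  rw [Module.rankAtStalk_eq_finrank_of_free] at h5
  rw [Module.finrank_eq_card_basis b, ← h4]
  exact h5

end Alg

variable {X S : Scheme.{u}} {f : X ⟶ S} [IsFinite f] {d : ℕ} {H : Over S} {Z : HilbD.Obj f d H}

set_option maxHeartbeats 1000000 in
theorem existence (hZ : HilbD.IsUniversal f d H Z) : ValuativeCriterion.Existence H.hom := by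
  rintro ⟨R, K, i₁, i₂, ⟨w⟩⟩
  obtain ⟨U, hU, hsU, -⟩ := exists_isAffineOpen_mem_and_subset (x := i₂ (IsLocalRing.closedPoint R)) (U := ⊤) trivial
  let U₀ : S.affineOpens := ⟨U, hU⟩
  let p := fullCh f U₀
  have hr : Set.range i₂ ⊆ Set.range p.iU := by
    rintro _ ⟨z, rfl⟩
    refine hU.range_fromSpec.ge ?_
    exact ((IsLocalRing.specializes_closedPoint z).map i₂.continuous).mem_open U.2 hsU
  let b := IsOpenImmersion.lift p.iU i₂ hr
  letI : Algebra p.A R := (Spec.preimage b).hom.toAlgebra
  letI : Algebra p.A K := ((algebraMap R K).comp (algebraMap p.A R)).toAlgebra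
  haveI : IsScalarTower p.A R K := IsScalarTower.of_algebraMap_eq fun _ => rfl
  haveI : Module.Finite p.A p.B := by
    have h : RingHom.Finite (f.appLE U (f ⁻¹ᵁ U) le_rfl).hom := by
      rw [← Scheme.Hom.app_eq_appLE]; exact f.finite_app U hU
    exact h
  have hgR : i₂ = gR p R := by
    show i₂ = Spec.map (Spec.preimage b) ≫ p.iU
    rw [Spec.map_preimage, IsOpenImmersion.lift_fac]
  let ι : R →ₐ[p.A] K := IsScalarTower.toAlgHom p.A R K
  have hgK : ((uPt Z).map i₁).g = gR p K := by
    show i₁ ≫ H.hom = _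
    rw [w, hgR]
    exact gR_map p ι
  obtain ⟨I, hI, hP⟩ := exists_comap p ((uPt Z).map i₁) hgK
  have hs : Supp p I := supp_full U₀ (range_gR U₀ K) I
  obtain ⟨J, hJ⟩ := exists_sid (I.comap (eR p K))
  obtain ⟨f1, f2, f3⟩ := rank_of_supp p hI hs hJ
  obtain ⟨g1, g2, g3⟩ := exists_closure (R := R) J f3
  let J' := J.comap (tmap p.B ι)
  haveI := g1
  haveI := g2
  haveI := isClosedImmersion_clo p J'
  have hprop : Mor2.IsFinLocFreeOfDeg d ((clo p R J').ker.subschemeι ≫ pullback.snd f (gR p R)) := by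
    refine (prop_ker (clo p R J') (pullback.snd f (gR p R))).2 ?_
    rw [clo_snd]
    exact isFinLocFreeOfDeg_spec g3
  obtain ⟨l, hl, -⟩ := existsUnique_map hZ (⟨gR p R, (clo p R J').ker, hprop⟩ : HPt f d (Spec (.of R)))
  refine ⟨⟨⟨l, ?_, (congrArg HPt.g hl).trans hgR.symm⟩⟩⟩
  refine (existsUnique_map hZ ((uPt Z).map i₁)).unique ?_ rfl
  obtain ⟨hI', hmap⟩ := map_mk_eq p ι (clo p R J').ker hprop
  rw [← HPt.map_map, hl, hP]
  refine hmap.trans ?_
  have hs₀ : Supp p (clo p R J').ker := supp_full U₀ (range_gR U₀ R) _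
  have hJ₀ : sid J' = (clo p R J').ker.comap (eR p R) := by
    haveI : IsClosedImmersion (Spec.map (CommRingCat.ofHom (Ideal.Quotient.mk J')) ≫ eR p R) := isClosedImmersion_clo p J'
    exact (comap_ker_comp (Spec.map (CommRingCat.ofHom (Ideal.Quotient.mk J'))) (eR p R)).symm
  have h1 := eq_map_of_supp p (supp_comap p _ _ hs₀) (comap_map p ι _ hJ₀)
  have hJJ : J'.map (tmap p.B ι) = J := map_comap_tmap J
  have h2 : (clo p R J').ker.comap (m f _ (gR_map p ι)) = I :=
    h1.trans ((congrArg (fun J => (sid J).map (eR p K)) hJJ).trans (eq_map_of_supp p hs hJ).symm)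
  refine HPt.ext' rfl ?_
  show _ = I.comap (m f (𝟙 _) _)
  refine h2.trans ?_
  exact ((congrArg (I.comap ·) (m_id f _)).trans (Scheme.IdealSheafData.comap_id _)).symm

/-- The Hilbert scheme of points of a finite morphism is projective. -/
theorem isProjective_hom (hZ : HilbD.IsUniversal f d H Z) : RelProj.IsProjective H.hom := by
  haveI := quasiCompact_hom hZ
  haveI : UniversallyClosed H.hom := UniversallyClosed.of_valuativeCriterion H.hom (existence hZ)
  exact LinSysLib.isProjective_of_isGood _ (isGood_detData hZ)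

end HilbPts

end
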