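import Groth.Agent.HilbPtsLib.Tangent
import Groth.Agent.HilbPtsLib.ProperHilb
import Mathlib.RingTheory.FiniteStability
import Mathlib.RingTheory.Localization.InvSubmonoid
import Mathlib.RingTheory.Ideal.KrullsHeightTheorem
import Mathlib.RingTheory.Flat.FaithfullyFlat.Algebra
import Mathlib.RingTheory.Jacobson.Ring
import Mathlib.RingTheory.RingHom.Flat
import Mathlib.LinearAlgebra.Matrix.NonsingularInverse

/-!
# Distinct points give a point where the chart of the Hilbert scheme has large dimension
-/

set_option autoImplicit false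
set_option linter.style.haveILetI false
set_option linter.unusedSectionVars false
set_option backward.isDefEq.respectTransparency false
set_option backward.isDefEq.respectTransparency.types false

universe u

open TensorProduct GrassLib

noncomputable section

namespace HilbPts.ReducedPt

variable {k B : Type u} [Field k] [CommRing B] [Algebra k B]

theorem eq_of_ker_eq {C : Type u} [CommRing C] [Algebra k C] {a b : C →ₐ[k] k}
    (h : RingHom.ker a = RingHom.ker b) : a = b := AlgHom.ext fun c => by
  have h1 : c - algebraMap k C (b c) ∈ RingHom.ker a := h.ge (by simp [RingHom.mem_ker])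
  simpa [RingHom.mem_ker, sub_eq_zero] using h1

set_option maxHeartbeats 1000000 in
/-- The ring of a power, with the height of a rational point. -/
theorem exists_power [Algebra.FiniteType k B] [IsNoetherianRing B] (e : ℕ)
    (hB : ∀ χ : B →ₐ[k] k, (e : ℕ∞) ≤ (RingHom.ker χ).height) :
    ∀ (n : ℕ) (χ : Fin n → (B →ₐ[k] k)), ∃ (A : Type u) (_ : CommRing A) (_ : Algebra k A) (_ : Algebra.FiniteType k A)
      (ev : Fin n → (B →ₐ[k] A)) (ρ : A →ₐ[k] k), (∀ j, ρ.comp (ev j) = χ j) ∧
        ((e * n : ℕ) : ℕ∞) ≤ (RingHom.ker ρ).height ∧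
        ∀ ρ₁ ρ₂ : A →ₐ[k] k, (∀ j, ρ₁.comp (ev j) = ρ₂.comp (ev j)) → ρ₁ = ρ₂
  | 0, χ => ⟨k, inferInstance, inferInstance, inferInstance, fun j => j.elim0, AlgHom.id k k, fun j => j.elim0,
      by simp, fun ρ₁ ρ₂ _ => Subsingleton.elim _ _⟩
  | n + 1, χ => by
    obtain ⟨A, _, _, _, ev, ρ, hρ, hht, hext⟩ := exists_power e hB n fun j => χ j.succ
    haveI : Algebra.FiniteType k (A ⊗[k] B) := Algebra.FiniteType.trans (S := A) inferInstance inferInstance
    haveI : IsNoetherianRing A := Algebra.FiniteType.isNoetherianRing k A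
    haveI : IsNoetherianRing (A ⊗[k] B) := Algebra.FiniteType.isNoetherianRing k _
    let ρ' : A ⊗[k] B →ₐ[k] k := Algebra.TensorProduct.productMap ρ (χ 0)
    refine ⟨A ⊗[k] B, inferInstance, inferInstance, inferInstance,
      Fin.cases Algebra.TensorProduct.includeRight (fun j => Algebra.TensorProduct.includeLeft.comp (ev j)), ρ',
      fun j => ?_, ?_, fun ρ₁ ρ₂ h => ?_⟩
    · refine Fin.cases ?_ (fun j => ?_) j
      · exact Algebra.TensorProduct.productMap_right _ _
      · simp only [Fin.cases_succ]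
        rw [← AlgHom.comp_assoc, Algebra.TensorProduct.productMap_left, hρ]
    · let p := RingHom.ker ρ
      let P := RingHom.ker ρ'
      haveI : p.IsPrime := RingHom.ker_isPrime _
      haveI : P.IsPrime := RingHom.ker_isPrime _
      haveI : P.LiesOver p := ⟨Ideal.ext fun a => by
        show ρ a = 0 ↔ ρ' (a ⊗ₜ 1) = 0
        simp [ρ']⟩
      rw [show ((e * (n + 1) : ℕ) : ℕ∞) = ((e * n : ℕ) : ℕ∞) + (e : ℕ∞) by push_cast; ring,
        Ideal.height_eq_height_add_of_liesOver_of_hasGoingDown p P]
      refine add_le_add hht ?_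
      let σ : A ⊗[k] B →ₐ[k] B := Algebra.TensorProduct.productMap ((Algebra.ofId k B).comp ρ) (AlgHom.id k B)
      have hσ : Function.Surjective σ := fun b => ⟨1 ⊗ₜ b, by simp [σ]⟩
      have hk : p.map (algebraMap A (A ⊗[k] B)) = RingHom.ker σ := by
        refine le_antisymm (Ideal.map_le_iff_le_comap.2 fun a ha => ?_) fun z hz => ?_
        · show σ (a ⊗ₜ 1) = 0
          simp [σ, show ρ a = 0 from ha]
        · have key : ∀ z : A ⊗[k] B, z - (1 : A) ⊗ₜ[k] σ z ∈ p.map (algebraMap A (A ⊗[k] B)) := by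
            intro z
            induction z using TensorProduct.induction_on with
            | zero => simp
            | add a b ha hb =>
              rw [map_add, TensorProduct.tmul_add, add_sub_add_comm]
              exact add_mem ha hb
            | tmul a b =>
              have : a ⊗ₜ[k] b - (1 : A) ⊗ₜ[k] σ (a ⊗ₜ b) =
                  ((a - algebraMap k A (ρ a)) ⊗ₜ[k] (1 : B)) * ((1 : A) ⊗ₜ[k] b) := by
                simp only [σ, Algebra.TensorProduct.productMap_apply_tmul, AlgHom.comp_apply, AlgHom.id_apply,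
                  Algebra.ofId_apply, ← Algebra.smul_def, TensorProduct.tmul_smul, Algebra.TensorProduct.tmul_mul_tmul,
                  mul_one, one_mul, TensorProduct.sub_tmul, Algebra.algebraMap_eq_smul_one, TensorProduct.smul_tmul']
                simp [sub_mul, TensorProduct.smul_tmul]
              rw [this]
              exact Ideal.mul_mem_right _ _ (Ideal.mem_map_of_mem _ (show ρ (a - algebraMap k A (ρ a)) = 0 by simp))
          have := key z
          rwa [show σ z = 0 from hz, TensorProduct.tmul_zero, sub_zero] at this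
      let η : ((A ⊗[k] B) ⧸ p.map (algebraMap A (A ⊗[k] B))) ≃+* B :=
        (Ideal.quotEquivOfEq hk).trans (RingHom.quotientKerEquivOfSurjective hσ)
      have he : P.map (Ideal.Quotient.mk (p.map (algebraMap A (A ⊗[k] B)))) = (RingHom.ker (χ 0)).comap η := by
        have hP : ∀ z, ρ' z = χ 0 (σ z) := fun z => AlgHom.congr_fun
          (show ρ' = (χ 0).comp σ from Algebra.TensorProduct.ext'
            fun a b => by simp [ρ', σ]) z
        ext q
        obtain ⟨z, rfl⟩ := Ideal.Quotient.mk_surjective q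
        rw [Ideal.mem_quotient_iff_mem, Ideal.mem_comap, RingHom.mem_ker, RingHom.mem_ker, hP]
        · rfl
        · intro z hz
          show ρ' z = 0
          rw [hP, show σ z = 0 from hk.le hz, map_zero]
      rw [he]
      refine (hB (χ 0)).trans (le_of_eq ?_)
      exact (RingEquiv.height_comap η _).symm
    · refine Algebra.TensorProduct.ext (hext _ _ fun j => ?_) (h 0)
      have := h j.succ
      simp only [Fin.cases_succ, ← AlgHom.comp_assoc] at this
      exact this

variable [IsAlgClosed k]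

theorem finite_algHom {C : Type u} [CommRing C] [Algebra k C] [Module.Finite k C] : Finite (C →ₐ[k] k) := by
  haveI : IsArtinianRing C := IsArtinianRing.of_finite k C
  refine Finite.of_injective (fun a => (⟨RingHom.ker a, RingHom.ker_isPrime _⟩ : PrimeSpectrum C)) fun a b h => ?_
  exact eq_of_ker_eq (congrArg PrimeSpectrum.asIdeal h)

theorem height_eq_zero_of_finite_points {Q : Type u} [CommRing Q] [Algebra k Q] [Algebra.FiniteType k Q]
    [Finite (Q →ₐ[k] k)] (P : Ideal Q) [P.IsPrime] : P.height = 0 := by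
  classical
  haveI : IsJacobsonRing Q := isJacobsonRing_of_finiteType (A := k)
  have hex : ∀ M : {M : Ideal Q // M.IsMaximal}, ∃ a : Q →ₐ[k] k, RingHom.ker a = M.1 := fun M => by
    haveI := M.2
    letI := Ideal.Quotient.field M.1
    haveI : Module.Finite k (Q ⧸ M.1) := finite_of_finite_type_of_isJacobsonRing k (Q ⧸ M.1)
    have hb : Function.Bijective (algebraMap k (Q ⧸ M.1)) :=
      IsAlgClosed.ringHom_bijective_of_isIntegral _ (algebraMap_isIntegral_iff.2 inferInstance)
    refine ⟨(AlgEquiv.ofBijective (Algebra.ofId k _) hb).symm.toAlgHom.comp (Ideal.Quotient.mkₐ k M.1), Ideal.ext fun z => ?_⟩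
    rw [RingHom.mem_ker]
    exact (map_eq_zero_iff _ (AlgEquiv.ofBijective (Algebra.ofId k (Q ⧸ M.1)) hb).symm.injective).trans
      Ideal.Quotient.eq_zero_iff_mem
  choose a ha using hex
  haveI : Finite {M : Ideal Q // M.IsMaximal} :=
    Finite.of_injective a fun M M' h => Subtype.ext ((ha M).symm.trans ((congrArg (fun b : Q →ₐ[k] k => RingHom.ker b) h).trans (ha M')))
  letI := Fintype.ofFinite {M : Ideal Q // M.IsMaximal}
  have hmax : ∀ q : Ideal Q, q.IsPrime → q.IsMaximal := fun q hq => by
    let s : Finset {M : Ideal Q // M.IsMaximal} := Finset.univ.filter fun M => q ≤ M.1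
    have hle : s.inf (fun M => M.1) ≤ q := fun z hz => by
      have hj : q.jacobson = q := IsJacobsonRing.out ‹IsJacobsonRing Q› hq.isRadical
      rw [← hj, Ideal.jacobson, Submodule.mem_sInf]
      rintro M ⟨hqM, hM⟩
      exact (Finset.inf_le (show (⟨M, hM⟩ : {M : Ideal Q // M.IsMaximal}) ∈ s from
        Finset.mem_filter.2 ⟨Finset.mem_univ _, hqM⟩) : s.inf (fun M => M.1) ≤ M) hz
    obtain ⟨M, hM, hMq⟩ := (Ideal.IsPrime.inf_le' hq).1 hle
    rw [le_antisymm (Finset.mem_filter.1 hM).2 hMq]
    exact M.2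
  rw [Ideal.height_eq_zero_iff]
  refine ⟨⟨‹_›, bot_le⟩, fun q hq hle => ?_⟩
  haveI := hmax q hq.1
  exact ((Ideal.IsMaximal.eq_of_le ‹q.IsMaximal› (Ideal.IsPrime.ne_top ‹_›) hle)).ge

set_option maxHeartbeats 1000000 in
/-- At distinct points a chart of the Hilbert scheme has large height. -/
theorem exists_point [Algebra.FiniteType k B] [IsNoetherianRing B] (e : ℕ)
    (hB : ∀ χ : B →ₐ[k] k, (e : ℕ∞) ≤ (RingHom.ker χ).height) {n : ℕ} (χ : Fin n → (B →ₐ[k] k))
    (hinj : Function.Injective χ) :
    ∃ (x : Fin n → B) (ψ : PtsRing k x →ₐ[k] k), ((e * n : ℕ) : ℕ∞) ≤ (RingHom.ker ψ).height := by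
  classical
  obtain ⟨A, _, _, _, ev, ρ, hρ, hht, hext⟩ := exists_power e hB n χ
  haveI hmx : ∀ j, (RingHom.ker (χ j)).IsMaximal := fun j =>
    RingHom.ker_isMaximal_of_surjective _ fun c => ⟨algebraMap k B c, (χ j).commutes c⟩
  have hc : Pairwise (fun i j => IsCoprime (RingHom.ker (χ i)) (RingHom.ker (χ j))) := fun i j hij =>
    Ideal.isCoprime_iff_sup_eq.2 (Ideal.IsMaximal.coprime_of_ne (hmx i) (hmx j) fun h => hij (hinj (eq_of_ker_eq h)))
  have hx : ∀ i, ∃ b : B, ∀ j, χ j b = (Pi.single i (1 : k) : Fin n → k) j := fun i => by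
    obtain ⟨b, hb⟩ := Ideal.pi_quotient_surjective hc
      fun j => Ideal.Quotient.mk _ (algebraMap k B ((Pi.single i (1 : k) : Fin n → k) j))
    refine ⟨b, fun j => ?_⟩
    have := (RingHom.sub_mem_ker_iff (χ j)).1 (Ideal.Quotient.eq.1 (hb j))
    rwa [AlgHom.commutes] at this
  choose x hx using hx
  let M : Matrix (Fin n) (Fin n) A := fun i j => ev j (x i)
  let D : A := M.det
  have hD : ρ D = 1 := by
    rw [AlgHom.map_det, show ρ.mapMatrix M = 1 from Matrix.ext fun i j => by
      show ρ (ev j (x i)) = (1 : Matrix (Fin n) (Fin n) k) i j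
      rw [← AlgHom.comp_apply, hρ, hx, Matrix.one_apply, Pi.single_apply]
      simp [eq_comm], Matrix.det_one]
  let A' := Localization.Away D
  haveI : Algebra.FiniteType A A' := IsLocalization.finiteType_of_monoid_fg (Submonoid.powers D) A'
  haveI : Algebra.FiniteType k A' := Algebra.FiniteType.trans (S := A) inferInstance inferInstance
  haveI : IsNoetherianRing A := Algebra.FiniteType.isNoetherianRing k A
  haveI : IsNoetherianRing A' := Algebra.FiniteType.isNoetherianRing k A'
  let loc : A →ₐ[k] A' := IsScalarTower.toAlgHom k A A'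
  let M' : Matrix (Fin n) (Fin n) A' := M.map loc
  have hM' : IsUnit M'.det := by
    rw [show M'.det = loc D from (AlgHom.map_det loc M).symm]
    exact IsLocalization.Away.algebraMap_isUnit D
  let evb : B →ₗ[k] (Fin n → A') := LinearMap.pi fun j => (loc.comp (ev j)).toLinearMap
  let u : B →ₗ[k] (Fin n → A') :=
    { toFun := fun b => Matrix.vecMul (evb b) M'⁻¹
      map_add' := fun a b => by rw [map_add, Matrix.add_vecMul]
      map_smul' := fun c b => by rw [map_smul, Matrix.smul_vecMul]; rfl }
  have hu : ∀ b j, ∑ i, u b i * loc (ev j (x i)) = loc (ev j b) := fun b j => by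
    have h1 : Matrix.vecMul (u b) M' = evb b := by
      show Matrix.vecMul (Matrix.vecMul (evb b) M'⁻¹) M' = _
      rw [Matrix.vecMul_vecMul, Matrix.nonsing_inv_mul _ hM', Matrix.vecMul_one]
    exact congrFun h1 j
  have hcancel : ∀ a a' : Fin n → A', (∀ j, ∑ i, a i * loc (ev j (x i)) = ∑ i, a' i * loc (ev j (x i))) → a = a' :=
    fun a a' h => by
    have h1 : Matrix.vecMul a M' = Matrix.vecMul a' M' := funext h
    have h2 := congrArg (fun w => Matrix.vecMul w M'⁻¹) h1
    simpa [Matrix.vecMul_vecMul, Matrix.mul_nonsing_inv _ hM'] using h2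
  have hn : Normal x u := fun i => hcancel _ _ fun j => by
    rw [hu]
    exact ((Finset.sum_eq_single i (fun l _ hl => by rw [Pi.single_eq_of_ne hl, zero_mul]) (fun h => absurd (Finset.mem_univ i) h)).trans
      (by rw [Pi.single_eq_same, one_mul])).symm
  have hm : Mult x u := fun b b' l => congrFun (hcancel (u (b * b')) (fun l => ∑ i, u b i * u (x i * b') l) fun j => by
    rw [hu]
    refine Eq.trans ?_ (Finset.sum_congr rfl fun i _ => (Finset.sum_mul _ _ _).symm)
    rw [Finset.sum_comm, map_mul, map_mul, ← hu b j, Finset.sum_mul]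
    refine Finset.sum_congr rfl fun i _ => ?_
    refine Eq.trans ?_ (Finset.sum_congr rfl fun l _ => (mul_assoc _ _ _).symm)
    rw [← Finset.mul_sum, hu, map_mul, map_mul]
    ring) l
  let φ : PtsRing k x →ₐ[k] A' := ptsLift hn hm
  have hρu : ∀ a : Submonoid.powers D, IsUnit (ρ a) := by
    rintro ⟨_, l, rfl⟩
    simp [hD]
  let ρ' : A' →ₐ[k] k := IsLocalization.liftAlgHom (M := Submonoid.powers D) (f := ρ) hρu
  have hρ' : ∀ a : A, ρ' (loc a) = ρ a := fun a => IsLocalization.lift_eq _ a
  let ψ : PtsRing k x →ₐ[k] k := ρ'.comp φ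
  refine ⟨x, ψ, ?_⟩
  haveI := finiteType_ptsRing (A := k) x
  haveI : IsNoetherianRing (PtsRing k x) := Algebra.FiniteType.isNoetherianRing k _
  letI : Algebra (PtsRing k x) A' := φ.toRingHom.toAlgebra
  let P := RingHom.ker ρ'
  let p := RingHom.ker ψ
  haveI : P.IsPrime := RingHom.ker_isPrime _
  haveI : p.IsPrime := RingHom.ker_isPrime _
  haveI : P.LiesOver p := ⟨Ideal.ext fun a => Iff.rfl⟩
  have hP : ((e * n : ℕ) : ℕ∞) ≤ P.height := by
    rw [← IsLocalization.height_under (Submonoid.powers D) P]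
    refine hht.trans (le_of_eq (congrArg Ideal.height (Ideal.ext fun a => ?_)))
    show ρ a = 0 ↔ ρ' (loc a) = 0
    rw [hρ']
  refine hP.trans ((Ideal.height_le_height_add_of_liesOver p P).trans ?_)
  let Q := A' ⧸ p.map (algebraMap (PtsRing k x) A')
  have h0 : (P.map (Ideal.Quotient.mk (p.map (algebraMap (PtsRing k x) A')))).height = 0 := by
    haveI : (P.map (Ideal.Quotient.mk (p.map (algebraMap (PtsRing k x) A')))).IsPrime := by
      refine Ideal.map_isPrime_of_surjective Ideal.Quotient.mk_surjective ?_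
      rw [Ideal.mk_ker]
      exact Ideal.map_le_iff_le_comap.2 fun a ha => ha
    haveI : Algebra.FiniteType k Q := Algebra.FiniteType.of_surjective (Ideal.Quotient.mkₐ k _) Ideal.Quotient.mk_surjective
    let J := coordIdeal x (mapCoord ψ (ptsCoord k x)) (mult_mapCoord ψ (mult_ptsCoord x))
    haveI : Module.Finite k ((k ⊗[k] B) ⧸ J) :=
      (ConnAlg.finrank_of_bijective (bijective_comb_coordIdeal (normal_mapCoord _ (normal_ptsCoord x)) _)).1
    haveI := finite_algHom (k := k) (C := (k ⊗[k] B) ⧸ J)
    have hchar : ∀ (τ : Q →ₐ[k] k) (j : Fin n), ∀ z ∈ J,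
        ConnAlg.chiC ((τ.comp (Ideal.Quotient.mkₐ k _)).comp (loc.comp (ev j))) z = 0 := fun τ j z hz => by
      let τ' : A' →ₐ[k] k := τ.comp (Ideal.Quotient.mkₐ k (p.map (algebraMap (PtsRing k x) A')))
      have hτ : ∀ a, τ' (φ a) = ψ a := fun a => by
        have h1 : φ (a - algebraMap k _ (ψ a)) ∈ p.map (algebraMap (PtsRing k x) A') :=
          Ideal.mem_map_of_mem (algebraMap (PtsRing k x) A') (show a - algebraMap k _ (ψ a) ∈ p by
            show ψ (a - algebraMap k _ (ψ a)) = 0
            simp)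
        have h2 : τ' (φ (a - algebraMap k _ (ψ a))) = 0 := by
          show τ (Ideal.Quotient.mk _ _) = 0
          rw [Ideal.Quotient.eq_zero_iff_mem.2 h1, map_zero]
        simpa [sub_eq_zero] using h2
      obtain ⟨b, rfl⟩ := ConnAlg.exists_eq_one_tmul z
      rw [mem_coordIdeal, lift_tmul, one_smul] at hz
      rw [ConnAlg.chiC_tmul]
      show τ' (loc (ev j b)) = 0
      rw [← hu, map_sum]
      refine Finset.sum_eq_zero fun i _ => ?_
      have : u b i = φ (ptsCoord k x b i) := (congrFun (LinearMap.congr_fun (mapCoord_ptsLift hn hm) b) i).symm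
      rw [map_mul, this, hτ, show ψ (ptsCoord k x b i) = 0 from congrFun hz i, zero_mul]
    haveI : Finite (Q →ₐ[k] k) := Finite.of_injective
      (fun τ (j : Fin n) => (Ideal.Quotient.liftₐ J
        (ConnAlg.chiC ((τ.comp (Ideal.Quotient.mkₐ k _)).comp (loc.comp (ev j)))) (hchar τ j))) fun τ τ' h => by
      refine Ideal.Quotient.algHom_ext k (IsLocalization.algHom_ext (Submonoid.powers D) (hext _ _ fun j => AlgHom.ext fun b => ?_))
      have := AlgHom.congr_fun (congrFun h j) (Ideal.Quotient.mk J ((1 : k) ⊗ₜ b))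
      simp [ConnAlg.chiC_tmul] at this
      exact this
    exact height_eq_zero_of_finite_points (k := k) (Q := Q) _
  rw [h0, add_zero]

end HilbPts.ReducedPt

end
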