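import Groth.Agent.HilbPtsLib.Smooth

/-!
# Splitting a relative divisor after a finite flat base change
-/

set_option autoImplicit false
set_option linter.style.haveILetI false
set_option backward.isDefEq.respectTransparency false
set_option backward.isDefEq.respectTransparency.types false

universe u

open CategoryTheory CategoryTheory.Limits AlgebraicGeometry TopologicalSpace

noncomputable section

namespace HilbPts.SC

variable {X S : Scheme.{u}} (f : X ⟶ S) [IsSeparated f] [SmoothOfRelativeDimension 1 f]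

omit [IsSeparated f] [SmoothOfRelativeDimension 1 f] in
theorem comap_prod {Z Y : Scheme.{u}} (a : Z ⟶ Y) {ι : Type*} (t : Finset ι) (J : ι → Y.IdealSheafData) :
    (∏ i ∈ t, J i).comap a = ∏ i ∈ t, (J i).comap a := by
  classical
  induction t using Finset.induction_on with
  | empty => rw [Finset.prod_empty, Finset.prod_empty, Scheme.IdealSheafData.one_eq_top, Scheme.IdealSheafData.comap_top,
      Scheme.IdealSheafData.one_eq_top]
  | @insert i t hi ih => rw [Finset.prod_insert hi, Finset.prod_insert hi, comap_mul, ih]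

/-- After a finite locally free surjective base change a relative divisor is a sum of sections. -/
theorem exists_split : ∀ (d : ℕ) {T : Scheme.{u}} (g : T ⟶ S) (I : (pullback f g).IdealSheafData),
    Mor2.IsFinLocFreeOfDeg d (I.subschemeι ≫ pullback.snd f g) →
    ∃ (T' : Scheme.{u}) (b : T' ⟶ T) (g' : T' ⟶ S) (w : b ≫ g = g'),
      (Flat b ∧ Surjective b ∧ LocallyOfFinitePresentation b) ∧
      ∃ (x : Fin d → (T' ⟶ X)) (hx : ∀ i, x i ≫ f = g'),
        I.comap (m f b w) = ∏ i, (secF f (x i) (hx i)).ker := by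
  intro d
  induction d with
  | zero =>
    intro T g I hI
    haveI := smooth_snd f g
    refine ⟨T, 𝟙 T, g, Category.id_comp g, ⟨inferInstance, inferInstance, inferInstance⟩, Fin.elim0, fun i => i.elim0, ?_⟩
    rw [eq_top_of_deg_zero (pullback.snd f g) I hI, Scheme.IdealSheafData.comap_top, Fin.prod_univ_zero,
      Scheme.IdealSheafData.one_eq_top]
  | succ d ih =>
    intro T g I hI
    let ι := I.subschemeι
    let q : I.subscheme ⟶ T := ι ≫ pullback.snd f g
    let g₁ : I.subscheme ⟶ S := q ≫ g
    let x₁ : I.subscheme ⟶ X := ι ≫ pullback.fst f g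
    have w₁ : x₁ ≫ f = g₁ := by simp [x₁, g₁, q, Category.assoc, pullback.condition]
    haveI := smooth_snd f g₁
    let u₁ : HPt f (d + 1) T := ⟨g, I, hI⟩
    have hs₁ : (u₁.map q).I ≤ (secF f x₁ w₁).ker := by
      rw [← comap_eq_bot_iff]
      show (I.comap (m f q rfl)).comap _ = ⊥
      rw [← Scheme.IdealSheafData.comap_comp, show secF f x₁ w₁ ≫ m f q rfl = ι from
        pullback.hom_ext (by simp [x₁, ι]) (by simp [q, ι]), comap_eq_bot_iff,
        Scheme.IdealSheafData.ker_subschemeι]
    obtain ⟨D, hD, hDe⟩ := exists_div (pullback.snd f g₁) (secF f x₁ w₁).ker (u₁.map q).I hs₁ 1 (d + 1)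
      (prop_secF f x₁ w₁) (u₁.map q).prop
    rw [Nat.add_sub_cancel] at hD
    obtain ⟨T', b', g', w', ⟨hb₁, hb₂, hb₃⟩, x', hx', hD'⟩ := ih g₁ D hD
    obtain ⟨⟨hfin, hfl, hfp⟩, hdeg⟩ := (hI : Mor2.IsFinLocFreeOfDeg (d + 1) q)
    haveI := hfin
    haveI := hfl
    haveI := hfp
    haveI : Surjective q := (Scheme.Hom.one_le_finrank_iff_surjective q).1 fun y => by
      show 1 ≤ q.finrank y
      rw [hdeg]
      omega
    haveI := hb₁
    haveI := hb₂
    haveI := hb₃
    have w : (b' ≫ q) ≫ g = g' := by rw [Category.assoc]; exact w'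
    refine ⟨T', b' ≫ q, g', w, ⟨inferInstance, inferInstance, inferInstance⟩, Fin.cons (b' ≫ x₁) x',
      Fin.cases (by rw [Fin.cons_zero, Category.assoc, w₁, w']) (fun i => by rw [Fin.cons_succ]; exact hx' i), ?_⟩
    rw [← m_comp f q rfl b' w', Scheme.IdealSheafData.comap_comp, show I.comap (m f q rfl) = (u₁.map q).I from rfl,
      hDe, comap_mul, hD', comap_secF, Fin.prod_univ_succ]
    rfl

end HilbPts.SC

end
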