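import Groth.Agent.HilbPtsLib.TangentLocal
import Groth.Agent.HilbPtsLib.ChartAlg
import Mathlib.RingTheory.Ideal.Cotangent
import Mathlib.RingTheory.Localization.Algebra
import Mathlib.Algebra.TrivSqZeroExt.Basic
import Mathlib.LinearAlgebra.Dual.Lemmas

/-!
# Tangent spaces of the Hilbert scheme of points of a smooth surface
-/

set_option autoImplicit false
set_option linter.style.haveILetI false
set_option linter.unusedSectionVars false
set_option backward.isDefEq.respectTransparency false
set_option backward.isDefEq.respectTransparency.types false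

universe u

open TensorProduct GrassLib

noncomputable section

namespace HilbPts.Tangent

variable {k C : Type u} [Field k] [CommRing C] [Algebra k C]

/-- Regularity of a local ring in dimension two, in elementary form. -/
def TwoReg (R : Type u) [CommRing R] [IsLocalRing R] : Prop :=
  ∃ u v : R, IsRegular u ∧ (∀ a, v * a ∈ Ideal.span {u} → a ∈ Ideal.span {u}) ∧
    IsLocalRing.maximalIdeal R = Ideal.span {u, v}

set_option maxHeartbeats 1000000 in
/-- The tangent bound, globally. -/
theorem finrank_hom_le [IsAlgClosed k] [IsNoetherianRing C] (J : Ideal C) [Module.Finite k (C ⧸ J)]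
    (hreg : ∀ (P : Ideal C) [P.IsMaximal], J ≤ P → TwoReg (Localization.AtPrime P)) :
    Module.Finite k (J →ₗ[C] C ⧸ J) ∧ Module.finrank k (J →ₗ[C] C ⧸ J) ≤ 2 * Module.finrank k (C ⧸ J) := by
  classical
  haveI : IsArtinianRing (C ⧸ J) := IsArtinianRing.of_finite k _
  letI := Fintype.ofFinite (PrimeSpectrum (C ⧸ J))
  let P : PrimeSpectrum (C ⧸ J) → Ideal C := fun q => q.asIdeal.comap (Ideal.Quotient.mk J)
  have hP : ∀ q, (P q).IsMaximal := fun q => by
    haveI := IsArtinianRing.isMaximal_of_isPrime q.asIdeal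
    exact Ideal.comap_isMaximal_of_surjective _ Ideal.Quotient.mk_surjective
  have hJP : ∀ q, J ≤ P q := fun q x hx => by
    show Ideal.Quotient.mk J x ∈ q.asIdeal
    rw [Ideal.Quotient.eq_zero_iff_mem.2 hx]; exact zero_mem _
  let R : PrimeSpectrum (C ⧸ J) → Type u := fun q => Localization.AtPrime (P q)
  let I : ∀ q, Ideal (R q) := fun q => J.map (algebraMap C (R q))
  let φ : ∀ q, C →ₐ[k] R q ⧸ I q := fun q => (Ideal.Quotient.mkₐ k (I q)).comp (IsScalarTower.toAlgHom k C (R q))
  have hφJ : ∀ q, J ≤ RingHom.ker (φ q) := fun q x hx =>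
    Ideal.Quotient.eq_zero_iff_mem.2 (Ideal.mem_map_of_mem _ hx)
  let π : ∀ q, (C ⧸ J) →ₐ[k] R q ⧸ I q := fun q => Ideal.Quotient.liftₐ J (φ q) fun a ha => hφJ q ha
  have hπ : ∀ q, Function.Surjective (π q) := fun q z => by
    obtain ⟨z, rfl⟩ := Ideal.Quotient.mk_surjective z
    obtain ⟨⟨a, s⟩, rfl⟩ := IsLocalization.mk'_surjective (P q).primeCompl z
    let A := (π q).range
    haveI : Module.Finite k A := Module.Finite.of_surjective (π q).rangeRestrict.toLinearMap (π q).rangeRestrict_surjective
    let sA : A := ⟨φ q s, ⟨Ideal.Quotient.mk J s, rfl⟩⟩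
    have hs : IsUnit (φ q s) := (IsLocalization.map_units (R q) s).map (Ideal.Quotient.mk (I q))
    have hinj : Function.Injective (LinearMap.mulLeft k sA) := fun b c h => Subtype.ext (hs.mul_right_injective (congrArg Subtype.val h :))
    obtain ⟨⟨b, w, hw⟩, hb⟩ := LinearMap.injective_iff_surjective.1 hinj ⟨φ q a, ⟨Ideal.Quotient.mk J a, rfl⟩⟩
    refine ⟨w, hs.mul_right_injective ?_⟩
    show φ q s * π q w = φ q s * Ideal.Quotient.mk (I q) (IsLocalization.mk' (R q) a s)
    rw [show π q w = b from hw, show φ q s * b = φ q a from (congrArg Subtype.val hb :)]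
    show Ideal.Quotient.mk (I q) (algebraMap C (R q) a) = Ideal.Quotient.mk (I q) (algebraMap C (R q) s) * _
    rw [← map_mul, IsLocalization.mk'_spec']
  haveI : ∀ q, Module.Finite k (R q ⧸ I q) := fun q => Module.Finite.of_surjective (π q).toLinearMap (hπ q)
  -- the local factors add up to at most the colength
  have hsum : ∑ q, Module.finrank k (R q ⧸ I q) ≤ Module.finrank k (C ⧸ J) := by
    let L : PrimeSpectrum (C ⧸ J) → Ideal C := fun q => RingHom.ker (φ q)
    have hLP : ∀ q q', q' ≠ q → ¬ L q ≤ P q' := fun q q' hne hle => by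
      haveI := hP q'
      haveI := hP q
      have hne' : ¬ P q ≤ P q' := fun h => hne (PrimeSpectrum.ext (Ideal.comap_injective_of_surjective _
        Ideal.Quotient.mk_surjective ((hP q).eq_of_le (hP q').ne_top h))).symm
      obtain ⟨x, hx, hx'⟩ := SetLike.not_le_iff_exists.1 hne'
      haveI : IsArtinianRing (R q ⧸ I q) := IsArtinianRing.of_finite k _
      haveI : Nontrivial (R q ⧸ I q) := Ideal.Quotient.nontrivial_iff.2 (ne_top_of_le_ne_top
        (IsLocalRing.maximalIdeal.isMaximal (R q)).ne_top (Ideal.map_le_iff_le_comap.2 ((hJP q).trans_eq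
          (IsLocalization.AtPrime.under_maximalIdeal (R q) (P q)).symm)))
      haveI : IsLocalRing (R q ⧸ I q) := IsLocalRing.of_isUnit_or_isUnit_one_sub_self fun a => by
        obtain ⟨a, rfl⟩ := Ideal.Quotient.mk_surjective a
        refine (IsLocalRing.isUnit_or_isUnit_one_sub_self a).imp (fun h => h.map _) fun h => ?_
        rw [← map_one (Ideal.Quotient.mk (I q)), ← map_sub]
        exact h.map _
      obtain ⟨M, hM⟩ := IsArtinianRing.isNilpotent_jacobson_bot (R := R q ⧸ I q)
      refine hx' ((hP q').isPrime.mem_of_pow_mem M (hle ?_))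
      show φ q (x ^ M) = 0
      rw [map_pow, ← Ideal.mem_bot, ← Ideal.zero_eq_bot, ← hM]
      refine Ideal.pow_mem_pow ?_ M
      rw [IsLocalRing.jacobson_eq_maximalIdeal ⊥ bot_ne_top, IsLocalRing.mem_maximalIdeal, mem_nonunits_iff]
      intro hu
      obtain ⟨w, hw⟩ := isUnit_iff_exists_inv.1 hu
      obtain ⟨w, rfl⟩ := Ideal.Quotient.mk_surjective w
      change Ideal.Quotient.mk (I q) (algebraMap C (R q) x) * Ideal.Quotient.mk (I q) w = 1 at hw
      rw [← map_mul, ← map_one (Ideal.Quotient.mk (I q)), Ideal.Quotient.eq] at hw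
      have h1 : I q ≤ IsLocalRing.maximalIdeal (R q) := Ideal.map_le_iff_le_comap.2 ((hJP q).trans_eq
          (IsLocalization.AtPrime.under_maximalIdeal (R q) (P q)).symm)
      have h2 : algebraMap C (R q) x ∈ IsLocalRing.maximalIdeal (R q) :=
        (IsLocalization.AtPrime.to_map_mem_maximal_iff (R q) (P q) x).2 hx
      have := sub_mem (Ideal.mul_mem_right w _ h2) (h1 hw)
      rw [sub_sub_cancel] at this
      exact (IsLocalRing.maximalIdeal.isMaximal (R q)).ne_top ((Ideal.eq_top_iff_one _).2 this)
    have hc : Pairwise (fun q q' => IsCoprime (L q) (L q')) := fun q q' hne => by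
      refine Ideal.isCoprime_iff_sup_eq.2 ?_
      by_contra h
      obtain ⟨M, hM, hle⟩ := Ideal.exists_le_maximal _ h
      let z : PrimeSpectrum (C ⧸ J) := ⟨M.map (Ideal.Quotient.mk J), Ideal.map_isPrime_of_surjective
        Ideal.Quotient.mk_surjective (by rw [Ideal.mk_ker]; exact (hφJ q).trans (le_sup_left.trans hle))⟩
      have hz : P z = M := Ideal.comap_map_mk ((hφJ q).trans (le_sup_left.trans hle))
      rcases eq_or_ne z q with hzq | hzq
      · exact hLP q' q hne (by rw [← hzq, hz]; exact le_sup_right.trans hle)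
      · exact hLP q z hzq (by rw [hz]; exact le_sup_left.trans hle)
    let Φ : (C ⧸ J) →ₗ[k] ∀ q, R q ⧸ I q := LinearMap.pi fun q => (π q).toLinearMap
    have hΦ : Function.Surjective Φ := fun z => by
      choose w hw using fun q => (hπ q (z q))
      choose w' hw' using fun q => Ideal.Quotient.mk_surjective (w q)
      obtain ⟨c, hc'⟩ := Ideal.pi_quotient_surjective hc fun q => Ideal.Quotient.mk (L q) (w' q)
      refine ⟨Ideal.Quotient.mk J c, funext fun q => ?_⟩
      rw [← hw q, ← hw' q]
      show φ q c = φ q (w' q)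
      exact (RingHom.sub_mem_ker_iff (φ q)).1 (Ideal.Quotient.eq.1 (hc' q))
    have := LinearMap.finrank_le_finrank_of_surjective hΦ
    rwa [Module.finrank_pi_fintype] at this
  -- extension of homomorphisms to the localisations
  have hunit : ∀ q (s : (P q).primeCompl), IsUnit ((algebraMap C (Module.End C (R q ⧸ I q))) s) := fun q s => by
    rw [Module.End.isUnit_iff]
    have hs : IsUnit (Ideal.Quotient.mk (I q) (algebraMap C (R q) s)) := (IsLocalization.map_units (R q) s).map _
    obtain ⟨w, hw⟩ := hs
    have he : ∀ z : R q ⧸ I q, (algebraMap C (Module.End C (R q ⧸ I q))) s z = (w : R q ⧸ I q) * z := fun z => by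
      obtain ⟨z, rfl⟩ := Ideal.Quotient.mk_surjective z
      rw [hw, Module.algebraMap_end_apply, ← map_mul, ← Algebra.smul_def]
      rfl
    exact ⟨fun a b h => w.isUnit.mul_right_injective (by simpa [he] using h),
      fun z => ⟨↑w⁻¹ * z, by rw [he, ← mul_assoc, Units.mul_inv, one_mul]⟩⟩
  let E : ∀ q, (J →ₗ[C] C ⧸ J) → (I q →ₗ[C] R q ⧸ I q) := fun q ψ =>
    IsLocalizedModule.lift (P q).primeCompl (Algebra.idealMap (S := R q) J)
      ((Ideal.Quotient.liftₐ J ((Ideal.Quotient.mkₐ C (I q)).comp (Algebra.ofId C (R q)))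
        fun a ha => hφJ q ha).toLinearMap.comp ψ) (hunit q)
  have hE : ∀ q ψ (x : J), E q ψ (Algebra.idealMap (S := R q) J x) = π q (ψ x) := fun q ψ x => by
    have := LinearMap.congr_fun (IsLocalizedModule.lift_comp (P q).primeCompl (Algebra.idealMap (S := R q) J)
      ((Ideal.Quotient.liftₐ J ((Ideal.Quotient.mkₐ C (I q)).comp (Algebra.ofId C (R q)))
        fun a ha => hφJ q ha).toLinearMap.comp ψ) (hunit q)) x
    refine this.trans ?_
    obtain ⟨c, hc⟩ := Ideal.Quotient.mk_surjective (ψ x)
    simp only [LinearMap.comp_apply, AlgHom.toLinearMap_apply, ← hc]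
    rfl
  let F : ∀ q, (J →ₗ[C] C ⧸ J) →ₗ[k] (I q →ₗ[R q] R q ⧸ I q) := fun q =>
    { toFun := fun ψ => (E q ψ).extendScalarsOfIsLocalization (P q).primeCompl (R q)
      map_add' := fun a b => LinearMap.restrictScalars_injective C
        (IsLocalizedModule.ext (P q).primeCompl (Algebra.idealMap (S := R q) J) (hunit q) (LinearMap.ext fun x => by
          show E q (a + b) _ = E q a _ + E q b _
          rw [hE, hE, hE, LinearMap.add_apply, map_add]))
      map_smul' := fun c a => LinearMap.restrictScalars_injective C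
        (IsLocalizedModule.ext (P q).primeCompl (Algebra.idealMap (S := R q) J) (hunit q) (LinearMap.ext fun x => by
          show E q (c • a) _ = c • E q a _
          rw [hE, hE, LinearMap.smul_apply, map_smul])) }
  have hloc : ∀ q, Module.Finite k (I q →ₗ[R q] R q ⧸ I q) ∧
      Module.finrank k (I q →ₗ[R q] R q ⧸ I q) ≤ 2 * Module.finrank k (R q ⧸ I q) := fun q => by
    haveI := hP q
    obtain ⟨u, v, hu, hv, hm⟩ := hreg (P q) (hJP q)
    exact TangentLocal.finrank_hom_le (k := k) hu hv hm (I q)
  haveI := fun q => (hloc q).1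
  haveI : ∀ q, Module.Free k (I q →ₗ[R q] R q ⧸ I q) := fun q => Module.Free.of_divisionRing k _
  let eq' : ∀ q, (I q →ₗ[R q] R q ⧸ I q) ≃ₗ[k] (Fin (Module.finrank k (I q →ₗ[R q] R q ⧸ I q)) → k) := fun q =>
    (Module.finBasis k (I q →ₗ[R q] R q ⧸ I q)).equivFun
  let G : (J →ₗ[C] C ⧸ J) →ₗ[k] ∀ q, (Fin (Module.finrank k (I q →ₗ[R q] R q ⧸ I q)) → k) :=
    LinearMap.pi fun q => (eq' q).toLinearMap.comp (F q)
  have hG : Function.Injective G := (injective_iff_map_eq_zero G).2 fun ψ hψ => LinearMap.ext fun x => by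
    obtain ⟨c, hc⟩ := Ideal.Quotient.mk_surjective (ψ x)
    rw [LinearMap.zero_apply, ← hc, Ideal.Quotient.eq_zero_iff_mem]
    by_contra hcJ
    let A : Ideal C := (Submodule.span C {c}).annihilator ⊔ J
    let A' : Ideal C :=
      { carrier := {r | r * c ∈ J}
        zero_mem' := by simp
        add_mem' := fun ha hb => by simp only [Set.mem_setOf_eq, add_mul]; exact add_mem ha hb
        smul_mem' := fun s r hr => by simp only [Set.mem_setOf_eq, smul_eq_mul, mul_assoc]; exact J.mul_mem_left s hr }
    obtain ⟨M, hM, hle⟩ := Ideal.exists_le_maximal A' (fun h => hcJ (by simpa [A'] using h.ge (Submodule.mem_top : (1 : C) ∈ ⊤)))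
    have hJA : J ≤ M := fun j hj => hle (J.mul_mem_right c hj)
    let z : PrimeSpectrum (C ⧸ J) := ⟨M.map (Ideal.Quotient.mk J), Ideal.map_isPrime_of_surjective
      Ideal.Quotient.mk_surjective (by rwa [Ideal.mk_ker])⟩
    have hz : P z = M := Ideal.comap_map_mk hJA
    have h0 : π z (ψ x) = 0 := by
      rw [← hE]
      exact LinearMap.congr_fun ((eq' z).injective ((congrFun hψ z).trans (map_zero (eq' z)).symm) : F z ψ = 0) _
    rw [← hc] at h0
    obtain ⟨s, hs, hsc⟩ := (IsLocalization.algebraMap_mem_map_algebraMap_iff (P z).primeCompl (R z) J c).1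
      (Ideal.Quotient.eq_zero_iff_mem.1 h0)
    exact hs (hz.symm ▸ hle hsc : s ∈ P z)
  refine ⟨Module.Finite.of_injective G hG, ?_⟩
  refine (LinearMap.finrank_le_finrank_of_injective hG).trans ?_
  rw [Module.finrank_pi_fintype]
  refine (Finset.sum_le_sum fun q _ => (show _ ≤ 2 * Module.finrank k (R q ⧸ I q) by
    rw [Module.finrank_pi, Fintype.card_fin]; exact (hloc q).2)).trans ?_
  rw [← Finset.mul_sum]
  exact Nat.mul_le_mul_left 2 hsum

variable {B : Type u} [CommRing B] [Algebra k B] {d : ℕ} (x : Fin d → B)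

set_option maxHeartbeats 1000000 in
/-- The cotangent space of a chart at a rational point. -/
theorem finrank_cotangent_le (ψ : PtsRing k x →ₐ[k] k)
    [Module.Finite k ((univIdeal k x).map (tmap B ψ) →ₗ[k ⊗[k] B] (k ⊗[k] B) ⧸ (univIdeal k x).map (tmap B ψ))] :
    Module.Finite k (RingHom.ker ψ).Cotangent ∧ Module.finrank k (RingHom.ker ψ).Cotangent ≤
      Module.finrank k ((univIdeal k x).map (tmap B ψ) →ₗ[k ⊗[k] B] (k ⊗[k] B) ⧸ (univIdeal k x).map (tmap B ψ)) := by
  let M := RingHom.ker ψ
  let u0 : B →ₗ[k] (Fin d → k) := mapCoord ψ (ptsCoord k x)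
  let J := (univIdeal k x).map (tmap B ψ)
  have hn : Normal x u0 := normal_mapCoord _ (normal_ptsCoord x)
  have hJ : J = coordIdeal x u0 (mult_mapCoord ψ (mult_ptsCoord x)) := map_coordIdeal _ (normal_ptsCoord x) _
  have hb : Function.Bijective (comb k x J) := bijective_comb_pts ψ
  let ev : PtsRing k x → M := fun a => ⟨a - algebraMap k _ (ψ a), by rw [RingHom.mem_ker, map_sub, AlgHom.commutes]; simp⟩
  let D : Module.Dual k M.Cotangent → (PtsRing k x →ₗ[k] k) := fun l =>
    { toFun := fun a => l (M.toCotangent (ev a))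
      map_add' := fun a b => by
        rw [← map_add, ← map_add]; congr 2; exact Subtype.ext (by simp [ev]; ring)
      map_smul' := fun c a => by
        rw [RingHom.id_apply, ← map_smul l, ← algebraMap_smul (PtsRing k x) c (M.toCotangent (ev a)), ← map_smul M.toCotangent]
        congr 2; exact Subtype.ext (by simp [ev, Algebra.smul_def]; ring) }
  have hD : ∀ l a, D l a = l (M.toCotangent (ev a)) := fun _ _ => rfl
  have hsm : ∀ (r : PtsRing k x) (m : M), M.toCotangent (r • m) = ψ r • M.toCotangent m := fun r m => by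
    rw [← algebraMap_smul (PtsRing k x) (ψ r) (M.toCotangent m), ← map_smul]
    refine M.toCotangent_eq.2 ?_
    show r * m - algebraMap k _ (ψ r) * m ∈ M ^ 2
    rw [← sub_mul, pow_two]
    exact Ideal.mul_mem_mul (ev r).2 m.2
  have hleib : ∀ l a b, D l (a * b) = ψ a * D l b + ψ b * D l a := fun l a b => by
    show l (M.toCotangent (ev (a * b))) = ψ a • l (M.toCotangent (ev b)) + ψ b • l (M.toCotangent (ev a))
    rw [← map_smul l, ← map_smul l, ← map_add, ← hsm a, ← hsm b, ← map_add]
    congr 1
    refine M.toCotangent_eq.2 ?_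
    show (a * b - algebraMap k _ (ψ (a * b))) - (a * (b - algebraMap k _ (ψ b)) + b * (a - algebraMap k _ (ψ a))) ∈ M ^ 2
    have : (a * b - algebraMap k _ (ψ (a * b))) - (a * (b - algebraMap k _ (ψ b)) + b * (a - algebraMap k _ (ψ a))) =
        -((a - algebraMap k (PtsRing k x) (ψ a)) * (b - algebraMap k (PtsRing k x) (ψ b))) := by
      rw [map_mul, map_mul]; ring
    rw [this, pow_two]
    exact neg_mem (Ideal.mul_mem_mul (ev a).2 (ev b).2)
  have hD1 : ∀ l, D l 1 = 0 := fun l => by
    have := hleib l 1 1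
    simpa using this
  let δ : Module.Dual k M.Cotangent → (B →ₗ[k] (Fin d → k)) := fun l =>
    { toFun := fun b i => D l (ptsCoord k x b i)
      map_add' := fun a b => funext fun i => by simp
      map_smul' := fun c b => funext fun i => by simp }
  have hδx : ∀ l i, δ l (x i) = 0 := fun l i => funext fun j => by
    show D l (ptsCoord k x (x i) j) = 0
    rw [normal_ptsCoord x i]
    rcases eq_or_ne j i with rfl | h
    · rw [Pi.single_eq_same]; exact hD1 l
    · rw [Pi.single_eq_of_ne h, map_zero]
  have hδm : ∀ l b b' j, δ l (b * b') j = ∑ i, (δ l b i * u0 (x i * b') j + u0 b i * δ l (x i * b') j) :=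
    fun l b b' j => by
    show D l (ptsCoord k x (b * b') j) = _
    rw [mult_ptsCoord x b b' j, map_sum]
    refine Finset.sum_congr rfl fun i _ => ?_
    rw [hleib, add_comm, mul_comm]
    rfl
  have hkey : ∀ l (b' : B) (w : k ⊗[k] B) j, lift (δ l) (w * ((1 : k) ⊗ₜ b')) j =
      ∑ i, (lift (δ l) w i * u0 (x i * b') j + lift u0 w i * δ l (x i * b') j) := fun l b' w j => by
    induction w using TensorProduct.induction_on with
    | zero => simp
    | add a b ha hb => rw [add_mul, map_add, Pi.add_apply, ha, hb, ← Finset.sum_add_distrib]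
                       exact Finset.sum_congr rfl fun i _ => by simp [add_mul]; ring
    | tmul r b =>
      rw [Algebra.TensorProduct.tmul_mul_tmul, mul_one, lift_tmul, lift_tmul, lift_tmul, Pi.smul_apply, hδm, smul_eq_mul, Finset.mul_sum]
      exact Finset.sum_congr rfl fun i _ => by simp; ring
  have hcl : ∀ b : B, Ideal.Quotient.mk J ((1 : k) ⊗ₜ b) = comb k x J (u0 b) := fun b => by
    rw [comb_apply, Ideal.Quotient.eq, hJ, mem_coordIdeal, map_sub, lift_sum hn, lift_tmul, one_smul, sub_self]
  let T : Module.Dual k M.Cotangent →ₗ[k] (J →ₗ[k ⊗[k] B] (k ⊗[k] B) ⧸ J) :=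
    { toFun := fun l =>
        { toFun := fun z => comb k x J (lift (δ l) z)
          map_add' := fun a b => by rw [Submodule.coe_add, map_add, map_add]
          map_smul' := fun c z => by
            obtain ⟨b', rfl⟩ := ConnAlg.exists_eq_one_tmul c
            rw [RingHom.id_apply, Submodule.coe_smul, smul_eq_mul, mul_comm]
            have hz : lift u0 (z : k ⊗[k] B) = 0 := by
              rw [← mem_coordIdeal (mult_mapCoord ψ (mult_ptsCoord x)), ← hJ]; exact z.2
            have e : lift (δ l) ((z : k ⊗[k] B) * ((1 : k) ⊗ₜ b')) = ∑ i, lift (δ l) (z : k ⊗[k] B) i • u0 (x i * b') :=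
              funext fun j => by rw [hkey, hz]; simp
            rw [e, map_sum, comb_apply, map_sum, Finset.smul_sum]
            refine Finset.sum_congr rfl fun i _ => ?_
            show _ = Ideal.Quotient.mk J (((1 : k) ⊗ₜ[k] b') * (lift (δ l) (z : k ⊗[k] B) i ⊗ₜ[k] x i))
            rw [map_smul, ← hcl, Algebra.TensorProduct.tmul_mul_tmul, one_mul, mul_comm b',
              ← Ideal.Quotient.mkₐ_eq_mk k, ← map_smul, TensorProduct.smul_tmul', smul_eq_mul, mul_one] }
      map_add' := fun l l' => LinearMap.ext fun z => by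
        show comb k x J (lift (δ (l + l')) z) = comb k x J (lift (δ l) z) + comb k x J (lift (δ l') z)
        rw [← map_add]
        congr 1
        induction (z : k ⊗[k] B) using TensorProduct.induction_on with
        | zero => simp
        | add a b ha hb => simp only [map_add, ha, hb]; abel
        | tmul r b => funext j; simp [lift_tmul, δ, D, mul_add]
      map_smul' := fun c l => LinearMap.ext fun z => by
        show comb k x J (lift (δ (c • l)) z) = c • comb k x J (lift (δ l) z)
        rw [← map_smul]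
        congr 1
        induction (z : k ⊗[k] B) using TensorProduct.induction_on with
        | zero => simp
        | add a b ha hb => simp only [map_add, ha, hb, smul_add]
        | tmul r b => funext j; simp [lift_tmul, δ, D, mul_left_comm] }
  have hT : Function.Injective T := (injective_iff_map_eq_zero T).2 fun l hl => by
    have h0 : ∀ b, δ l b = 0 := fun b => by
      let z : J := ⟨(1 : k) ⊗ₜ b - ∑ i, u0 b i ⊗ₜ[k] x i, by
        rw [hJ, mem_coordIdeal, map_sub, lift_sum hn, lift_tmul, one_smul, sub_self]⟩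
      have h1 : lift (δ l) (z : k ⊗[k] B) = 0 := hb.1 ((LinearMap.congr_fun hl z).trans (map_zero _).symm)
      simpa [z, map_sub, map_sum, lift_tmul, hδx] using h1
    let e : PtsRing k x →ₐ[k] TrivSqZeroExt k k :=
      { toFun := fun a => TrivSqZeroExt.inl (ψ a) + TrivSqZeroExt.inr (D l a)
        map_one' := by ext <;> simp [hD1 l]
        map_mul' := fun a b => by ext <;> simp [hleib l a b, mul_comm (D l a)]
        map_zero' := by ext <;> simp
        map_add' := fun a b => by ext <;> simp
        commutes' := fun c => by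
          have : algebraMap k (PtsRing k x) c = c • 1 := Algebra.algebraMap_eq_smul_one c
          ext
          · simp
            rfl
          · simp [this, hD1 l, TrivSqZeroExt.algebraMap_eq_inl] }
    have he : e = (Algebra.ofId k _).comp ψ := by
      refine Ideal.Quotient.algHom_ext k (I := chartRel k x) (chartHom_ext ?_)
      refine LinearMap.ext fun b => funext fun j => ?_
      show TrivSqZeroExt.inl (ψ (ptsCoord k x b j)) + TrivSqZeroExt.inr (δ l b j) = algebraMap k _ (ψ (ptsCoord k x b j))
      rw [h0]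
      simp [TrivSqZeroExt.algebraMap_eq_inl]
    refine LinearMap.ext fun c => ?_
    obtain ⟨⟨a, ha⟩, rfl⟩ := M.toCotangent_surjective c
    have h2 := congrArg TrivSqZeroExt.snd (AlgHom.congr_fun he a)
    simp [e, hD, TrivSqZeroExt.algebraMap_eq_inl] at h2
    rw [LinearMap.zero_apply, ← h2]
    congr 2
    exact Subtype.ext (by simp [ev, show ψ a = 0 from ha])
  haveI : Module.Finite k (Module.Dual k M.Cotangent) := Module.Finite.of_injective T hT
  haveI : Module.Finite k M.Cotangent :=
    Module.Finite.of_injective (Module.Dual.eval k M.Cotangent) (Module.eval_apply_injective k)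
  refine ⟨‹_›, ?_⟩
  show Module.finrank k M.Cotangent ≤ _
  rw [← Subspace.dual_finrank_eq]
  exact LinearMap.finrank_le_finrank_of_injective hT

end HilbPts.Tangent

end
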