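import Groth.Agent.HilbPtsLib.ConnAlg
import Mathlib.RingTheory.Filtration
import Mathlib.LinearAlgebra.FreeModule.StrongRankCondition
import Mathlib.RingTheory.Ideal.Quotient.Operations

/-!
# The tangent space at an ideal of finite colength of a two-dimensional regular local ring

For an ideal `I` of colength `n` the space of homomorphisms `I → R/I` has dimension at most `2n`.
-/

set_option autoImplicit false
set_option linter.style.haveILetI false
set_option linter.unusedSectionVars false

universe u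

open IsLocalRing

noncomputable section

namespace HilbPts.TangentLocal

variable {k R : Type u} [Field k] [CommRing R] [Algebra k R] {u v : R}

theorem pow_cancel_span (hv : ∀ a, v * a ∈ Ideal.span {u} → a ∈ Ideal.span {u}) :
    ∀ (j : ℕ) (a : R), v ^ j * a ∈ Ideal.span {u} → a ∈ Ideal.span {u}
  | 0, a, h => by simpa using h
  | j + 1, a, h => pow_cancel_span hv j a (hv _ (by rwa [← mul_assoc, ← pow_succ']))

theorem pow_cancel_span_pow (hu : IsRegular u) (hv : ∀ a, v * a ∈ Ideal.span {u} → a ∈ Ideal.span {u}) :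
    ∀ (N j : ℕ) (a : R), v ^ j * a ∈ Ideal.span {u ^ N} → a ∈ Ideal.span {u ^ N}
  | 0, j, a, _ => by simp
  | N + 1, j, a, h => by
    obtain ⟨c, hc⟩ := Ideal.mem_span_singleton'.1 h
    obtain ⟨a', rfl⟩ := Ideal.mem_span_singleton'.1
      (pow_cancel_span hv j a (Ideal.mem_span_singleton'.2 ⟨c * u ^ N, by rw [← hc, pow_succ, mul_assoc]⟩))
    have h2 : v ^ j * a' ∈ Ideal.span {u ^ N} :=
      Ideal.mem_span_singleton'.2 ⟨c, hu.right (show c * u ^ N * u = v ^ j * a' * u by
        rw [mul_assoc, ← pow_succ, hc, mul_assoc])⟩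
    obtain ⟨b, rfl⟩ := Ideal.mem_span_singleton'.1 (pow_cancel_span_pow hu hv N j a' h2)
    exact Ideal.mem_span_singleton'.2 ⟨b, by rw [pow_succ, mul_assoc]⟩

/-- The socle of the quotient by powers of the parameters. -/
theorem socle (hu : IsRegular u) (hv : ∀ a, v * a ∈ Ideal.span {u} → a ∈ Ideal.span {u}) (N : ℕ) (c : R)
    (h1 : c * u ∈ Ideal.span {u ^ (N + 1), v ^ (N + 1)}) (h2 : c * v ∈ Ideal.span {u ^ (N + 1), v ^ (N + 1)}) :
    ∃ a, c - a * (u ^ N * v ^ N) ∈ Ideal.span {u ^ (N + 1), v ^ (N + 1)} := by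
  obtain ⟨p, q, hpq⟩ := Ideal.mem_span_pair.1 h1
  obtain ⟨q', rfl⟩ := Ideal.mem_span_singleton'.1 (pow_cancel_span hv (N + 1) q
    (Ideal.mem_span_singleton'.2 ⟨c - p * u ^ N, by linear_combination -hpq⟩))
  have hc : c = p * u ^ N + q' * v ^ (N + 1) := hu.right (show c * u = (p * u ^ N + q' * v ^ (N + 1)) * u by
    linear_combination -hpq)
  obtain ⟨s, t, hst⟩ := Ideal.mem_span_pair.1 h2
  obtain ⟨t', ht'⟩ := Ideal.mem_span_singleton'.1 (pow_cancel_span_pow hu hv N (N + 1) (t - q' * v)
    (Ideal.mem_span_singleton'.2 ⟨p * v - s * u, by rw [hc] at hst; linear_combination -hst⟩))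
  have hpv : p * v = s * u + t' * v ^ (N + 1) := (hu.pow N).right
    (show p * v * u ^ N = (s * u + t' * v ^ (N + 1)) * u ^ N by
      rw [hc] at hst
      linear_combination -hst - v ^ (N + 1) * ht')
  obtain ⟨e, he⟩ := Ideal.mem_span_singleton'.1 (hv (p - t' * v ^ N)
    (Ideal.mem_span_singleton'.2 ⟨s, by linear_combination -hpv⟩))
  refine ⟨t', Ideal.mem_span_pair.2 ⟨e, q', ?_⟩⟩
  rw [hc]
  linear_combination u ^ N * he

/-- The annihilator of an ideal modulo another one. -/
def ann (A₀ I : Ideal R) : Submodule k (R ⧸ A₀) where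
  carrier := {c | ∀ y ∈ I, c * Ideal.Quotient.mk A₀ y = 0}
  zero_mem' := fun y _ => zero_mul _
  add_mem' := fun ha hb y hy => by rw [add_mul, ha y hy, hb y hy, add_zero]
  smul_mem' := fun a c hc y hy => by rw [smul_mul_assoc, hc y hy, smul_zero]

variable [IsNoetherianRing R] [IsLocalRing R] [IsAlgClosed k]

/-- Duality bound for annihilators modulo powers of the parameters. -/
theorem finite_ann (hu : IsRegular u) (hv : ∀ a, v * a ∈ Ideal.span {u} → a ∈ Ideal.span {u})
    (hm : maximalIdeal R = Ideal.span {u, v}) (N : ℕ) :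
    ∀ (n : ℕ) (I : Ideal R), Ideal.span {u ^ (N + 1), v ^ (N + 1)} ≤ I → ∀ [Module.Finite k (R ⧸ I)],
      Module.finrank k (R ⧸ I) = n →
      Module.Finite k (ann (k := k) (Ideal.span {u ^ (N + 1), v ^ (N + 1)}) I) ∧
        Module.finrank k (ann (k := k) (Ideal.span {u ^ (N + 1), v ^ (N + 1)}) I) ≤ n := by
  intro n
  induction n using Nat.strong_induction_on with
  | _ n ih =>
  intro I hI _ hn
  let A₀ : Ideal R := Ideal.span {u ^ (N + 1), v ^ (N + 1)}
  rcases eq_or_ne I ⊤ with rfl | hne
  · have h0 : ann (k := k) A₀ (⊤ : Ideal R) = ⊥ := (Submodule.eq_bot_iff _).2 fun c hc => by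
      simpa using hc 1 trivial
    refine ⟨?_, ?_⟩
    · rw [h0]; infer_instance
    · rw [h0, finrank_bot]; exact Nat.zero_le _
  haveI : Nontrivial (R ⧸ I) := Ideal.Quotient.nontrivial_iff.2 hne
  obtain ⟨q, η, hq0, hη⟩ := ConnAlg.exists_socle (k := k) (R ⧸ I)
  obtain ⟨z, rfl⟩ := Ideal.Quotient.mk_surjective q
  have hmη : ∀ r ∈ maximalIdeal R, r * z ∈ I := fun r hr => by
    have h0 : η (Ideal.Quotient.mk I r) = 0 := by
      by_contra h
      have hk : r - algebraMap k R (η (Ideal.Quotient.mk I r)) ∈ maximalIdeal R := by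
        refine le_maximalIdeal (RingHom.ker_ne_top (η.comp (Ideal.Quotient.mkₐ k I))) ?_
        simp [RingHom.mem_ker]
      have := sub_mem hr hk
      rw [sub_sub_cancel] at this
      exact (mem_maximalIdeal _).1 this ((Ne.isUnit h).map _)
    rw [← Ideal.Quotient.eq_zero_iff_mem, map_mul, hη, h0, zero_smul]
  let I' := I ⊔ Ideal.span {z}
  have hII' : I ≤ I' := le_sup_left
  have hzI : z ∉ I := fun h => hq0 (Ideal.Quotient.eq_zero_iff_mem.2 h)
  let F : (R ⧸ I) →ₗ[k] R ⧸ I' := (Ideal.Quotient.factorₐ k hII').toLinearMap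
  have hF : Function.Surjective F := Ideal.Quotient.factor_surjective hII'
  haveI : Module.Finite k (R ⧸ I') := Module.Finite.of_surjective F hF
  have hlt : Module.finrank k (R ⧸ I') < n := by
    rw [← hn]
    refine lt_of_le_of_ne (LinearMap.finrank_le_finrank_of_surjective hF) fun he => hzI ?_
    have hinj := (LinearMap.injective_iff_surjective_of_finrank_eq_finrank he.symm).2 hF
    refine Ideal.Quotient.eq_zero_iff_mem.1 (hinj ?_)
    rw [map_zero]
    exact Ideal.Quotient.eq_zero_iff_mem.2 (Ideal.mem_sup_right (Ideal.mem_span_singleton_self z))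
  obtain ⟨hfin', hle'⟩ := ih _ hlt I' (hI.trans hII') rfl
  let T : ann (k := k) A₀ I →ₗ[k] R ⧸ A₀ := (LinearMap.mulRight k (Ideal.Quotient.mk A₀ z)).comp (Submodule.subtype _)
  let w : R ⧸ A₀ := Ideal.Quotient.mk A₀ (u ^ N * v ^ N)
  have hres : ∀ a : R, ∃ c : k, a - algebraMap k R c ∈ maximalIdeal R := fun a =>
    ⟨η (Ideal.Quotient.mk I a), le_maximalIdeal (RingHom.ker_ne_top (η.comp (Ideal.Quotient.mkₐ k I))) (by
      simp [RingHom.mem_ker])⟩
  have hrange : LinearMap.range T ≤ Submodule.span k {w} := by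
    rintro _ ⟨⟨c, hc⟩, rfl⟩
    obtain ⟨c, rfl⟩ := Ideal.Quotient.mk_surjective c
    have hmem : ∀ r ∈ maximalIdeal R, c * z * r ∈ A₀ := fun r hr => by
      have := hc (r * z) (hmη r hr)
      rwa [← map_mul, Ideal.Quotient.eq_zero_iff_mem, show c * (r * z) = c * z * r by ring] at this
    obtain ⟨a, ha⟩ := socle hu hv N (c * z) (hmem u (hm ▸ Ideal.subset_span (by simp)))
      (hmem v (hm ▸ Ideal.subset_span (by simp)))
    obtain ⟨c0, hc0⟩ := hres a
    obtain ⟨p, q, hpq⟩ := Ideal.mem_span_pair.1 (hm ▸ hc0)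
    have h1 : (a - algebraMap k R c0) * (u ^ N * v ^ N) ∈ A₀ :=
      Ideal.mem_span_pair.2 ⟨p * v ^ N, q * u ^ N, by linear_combination (u ^ N * v ^ N) * hpq⟩
    have h2 : c * z - algebraMap k R c0 * (u ^ N * v ^ N) ∈ A₀ := by
      convert add_mem ha h1 using 1; ring
    refine Submodule.mem_span_singleton.2 ⟨c0, ?_⟩
    show c0 • w = Ideal.Quotient.mk A₀ c * Ideal.Quotient.mk A₀ z
    rw [← map_mul, Algebra.smul_def, IsScalarTower.algebraMap_apply k R (R ⧸ A₀), Ideal.Quotient.algebraMap_eq,
      ← map_mul]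
    exact (Ideal.Quotient.eq.2 h2).symm
  have hker : ∀ c : LinearMap.ker T, ((c : ann (k := k) A₀ I) : R ⧸ A₀) ∈ ann (k := k) A₀ I' := fun c y hy => by
    obtain ⟨y₁, hy₁, y₂, hy₂, rfl⟩ := Submodule.mem_sup.1 hy
    obtain ⟨a, rfl⟩ := Ideal.mem_span_singleton'.1 hy₂
    have hz : ((c : ann (k := k) A₀ I) : R ⧸ A₀) * Ideal.Quotient.mk A₀ z = 0 := c.2
    rw [map_add, mul_add, c.1.2 y₁ hy₁, zero_add, map_mul, mul_left_comm, hz, mul_zero]
  let K : LinearMap.ker T →ₗ[k] ann (k := k) A₀ I' :=
    { toFun := fun c => ⟨_, hker c⟩, map_add' := fun _ _ => rfl, map_smul' := fun _ _ => rfl }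
  have hK : Function.Injective K := fun a b h => Subtype.ext (Subtype.ext (congrArg Subtype.val h :))
  haveI := hfin'
  haveI : Module.Finite k (LinearMap.ker T) := Module.Finite.of_injective K hK
  haveI : Module.Finite k (LinearMap.range T) :=
    Module.Finite.of_injective (Submodule.inclusion hrange) (Submodule.inclusion_injective hrange)
  haveI : Module.Finite k (ann (k := k) A₀ I ⧸ LinearMap.ker T) :=
    Module.Finite.equiv T.quotKerEquivRange.symm
  haveI hfin : Module.Finite k (ann (k := k) A₀ I) := Module.Finite.of_submodule_quotient (LinearMap.ker T)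
  refine ⟨hfin, ?_⟩
  have h1 := LinearMap.finrank_range_add_finrank_ker T
  show Module.finrank k (ann (k := k) A₀ I) ≤ n
  have h4 : Module.finrank k (ann (k := k) A₀ I') ≤ Module.finrank k (R ⧸ I') := hle'
  have h2 : Module.finrank k (LinearMap.range T) ≤ 1 :=
    (Submodule.finrank_mono hrange).trans ((finrank_span_le_card ({w} : Set (R ⧸ A₀))).trans (by simp))
  have h3 := LinearMap.finrank_le_finrank_of_injective hK
  omega

/-- Relation modules over a two-dimensional regular local ring are free. -/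
theorem exists_basis_ker (hu : IsRegular u) (hv : ∀ a, v * a ∈ Ideal.span {u} → a ∈ Ideal.span {u})
    (hm : maximalIdeal R = Ideal.span {u, v}) {s : ℕ} (π : (Fin s → R) →ₗ[R] R) :
    ∃ t : ℕ, Nonempty (Module.Basis (Fin t) R (LinearMap.ker π)) := by
  classical
  let K := LinearMap.ker π
  have hK : ∃ t : ℕ, ∃ b : Fin t → K, Submodule.span R (Set.range b) = ⊤ := Module.Finite.exists_fin
  let t := Nat.find hK
  obtain ⟨b, hb⟩ := Nat.find_spec hK
  have hmin : ∀ (c : Fin t → R) (w : K), ∑ i, c i • b i = u • w → ∀ i, c i ∈ maximalIdeal R := by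
    intro c w hw i
    by_contra hi
    obtain ⟨e, he⟩ : ∃ e : Fin t → R, ∑ j, e j • b j = w :=
      (Submodule.mem_span_range_iff_exists_fun R).1 (hb.ge trivial)
    have hunit : IsUnit (c i - u * e i) := by
      by_contra h
      apply hi
      have := add_mem ((mem_maximalIdeal _).2 h : c i - u * e i ∈ maximalIdeal R)
        ((maximalIdeal R).mul_mem_right (e i) (hm ▸ Ideal.subset_span (by simp) : u ∈ maximalIdeal R))
      rwa [sub_add_cancel] at this
    have hsum : ∑ j, (c j - u * e j) • b j = 0 := by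
      rw [Finset.sum_congr rfl fun j _ => (sub_smul (c j) (u * e j) (b j)), Finset.sum_sub_distrib, hw,
        Finset.sum_congr rfl fun j _ => mul_smul u (e j) (b j), ← Finset.smul_sum, he, sub_self]
    obtain ⟨t', ht'⟩ : ∃ t', t = t' + 1 := ⟨t - 1, by have := i.isLt; omega⟩
    refine Nat.find_min hK (show t' < Nat.find hK by show t' < t; omega)
      ⟨fun j => b (Fin.cast ht'.symm ((Fin.cast ht' i).succAbove j)), top_le_iff.1 (hb.ge.trans ?_)⟩
    refine Submodule.span_le.2 ?_
    rintro _ ⟨j, rfl⟩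
    have hj : ∀ j, j ≠ i → b j ∈ Submodule.span R
        (Set.range fun j => b (Fin.cast ht'.symm ((Fin.cast ht' i).succAbove j))) := fun j hj => by
      obtain ⟨l, hl⟩ := Fin.exists_succAbove_eq (x := Fin.cast ht' j) (y := Fin.cast ht' i)
        (fun h => hj (Fin.cast_injective _ h))
      exact Submodule.subset_span ⟨l, by simp [hl]⟩
    rcases eq_or_ne j i with rfl | hji
    · rw [SetLike.mem_coe, ← Submodule.smul_mem_iff_of_isUnit (R := R) _ hunit]
      rw [← Finset.add_sum_erase _ _ (Finset.mem_univ j)] at hsum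
      rw [eq_neg_of_add_eq_zero_left hsum]
      exact Submodule.neg_mem _ (Submodule.sum_mem _ fun l hl => Submodule.smul_mem _ _ (hj l (Finset.mem_erase.1 hl).1))
    · exact hj j hji
  have hdiv : ∀ (j : ℕ) (w w' : K), v ^ j • w = u • w' → ∃ w'' : K, w = u • w'' := fun j w w' h => by
    have hl : ∀ l, ∃ a, a * u = (w : Fin s → R) l := fun l => Ideal.mem_span_singleton'.1
      (pow_cancel_span hv j _ (Ideal.mem_span_singleton'.2 ⟨(w' : Fin s → R) l, by
        have := congrFun (congrArg Subtype.val h) l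
        simpa [mul_comm] using this.symm⟩))
    choose a ha using hl
    have hwa : (w : Fin s → R) = u • a := funext fun l => by simp [← ha l, mul_comm]
    refine ⟨⟨a, hu.left (show u * π a = u * 0 by
      rw [mul_zero, ← smul_eq_mul, ← map_smul, ← hwa]; exact w.2)⟩, Subtype.ext hwa⟩
  have hrel : ∀ c : Fin t → R, ∑ i, c i • b i = 0 → ∀ i, c i ∈ Ideal.span {u} := by
    intro c hc i
    have hj : ∀ (j : ℕ) l, c l ∈ Ideal.span {u} ⊔ Ideal.span {v ^ j} := by
      intro j
      induction j with
      | zero => intro l; simp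
      | succ j ihj =>
        have hl : ∀ l, ∃ a b', a * u + b' * v ^ j = c l := fun l => by
          obtain ⟨x, hx, y, hy, hxy⟩ := Submodule.mem_sup.1 (ihj l)
          obtain ⟨a, rfl⟩ := Ideal.mem_span_singleton'.1 hx
          obtain ⟨b', rfl⟩ := Ideal.mem_span_singleton'.1 hy
          exact ⟨a, b', hxy⟩
        choose a b' hab using hl
        have h1 : v ^ j • (∑ l, b' l • b l) = u • (-(∑ l, a l • b l)) := by
          rw [smul_neg, eq_neg_iff_add_eq_zero, Finset.smul_sum, Finset.smul_sum, ← Finset.sum_add_distrib, ← hc]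
          refine Finset.sum_congr rfl fun l _ => ?_
          rw [← hab l, add_smul, smul_smul, smul_smul, add_comm, mul_comm u, mul_comm (v ^ j)]
        obtain ⟨w, hw⟩ := hdiv j _ _ h1
        intro l
        obtain ⟨p, q, hpq⟩ := Ideal.mem_span_pair.1 (hm ▸ hmin b' w hw l)
        refine Submodule.mem_sup.2 ⟨_, Ideal.mem_span_singleton'.2 ⟨a l + p * v ^ j, rfl⟩, _,
          Ideal.mem_span_singleton'.2 ⟨q, rfl⟩, ?_⟩
        linear_combination hab l + v ^ j * hpq
    have hub : u ∈ maximalIdeal R := hm ▸ Ideal.subset_span (by simp)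
    haveI : Nontrivial (R ⧸ Ideal.span {u}) := Ideal.Quotient.nontrivial_iff.2
      (ne_top_of_le_ne_top (maximalIdeal.isMaximal R).ne_top ((Ideal.span_singleton_le_iff_mem _).2 hub))
    haveI : IsLocalRing (R ⧸ Ideal.span {u}) := IsLocalRing.of_isUnit_or_isUnit_one_sub_self fun a => by
      obtain ⟨a, rfl⟩ := Ideal.Quotient.mk_surjective a
      refine (IsLocalRing.isUnit_or_isUnit_one_sub_self a).imp (fun h => h.map _) fun h => ?_
      rw [← map_one (Ideal.Quotient.mk (Ideal.span {u})), ← map_sub]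
      exact h.map _
    have hbot : Ideal.Quotient.mk (Ideal.span {u}) (c i) ∈
        ⨅ j : ℕ, (Ideal.span {Ideal.Quotient.mk (Ideal.span {u}) v}) ^ j := by
      refine (Submodule.mem_iInf _).2 fun j => ?_
      obtain ⟨x, hx, y, hy, hxy⟩ := Submodule.mem_sup.1 (hj j i)
      obtain ⟨b', rfl⟩ := Ideal.mem_span_singleton'.1 hy
      rw [← hxy, map_add, Ideal.Quotient.eq_zero_iff_mem.2 hx, zero_add, Ideal.span_singleton_pow, map_mul, map_pow]
      exact Ideal.mem_span_singleton'.2 ⟨_, rfl⟩
    rw [Ideal.iInf_pow_eq_bot_of_isLocalRing] at hbot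
    · exact Ideal.Quotient.eq_zero_iff_mem.1 hbot
    · intro h
      rw [Ideal.span_singleton_eq_top] at h
      have hv' : v ∈ maximalIdeal R := hm ▸ Ideal.subset_span (by simp)
      obtain ⟨w, hw⟩ := isUnit_iff_exists_inv.1 h
      obtain ⟨w, rfl⟩ := Ideal.Quotient.mk_surjective w
      rw [← map_mul, ← map_one (Ideal.Quotient.mk (Ideal.span {u})), Ideal.Quotient.eq] at hw
      have := sub_mem ((maximalIdeal R).mul_mem_right w hv') ((Ideal.span_singleton_le_iff_mem _).2 hub hw)
      rw [sub_sub_cancel] at this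
      exact (maximalIdeal.isMaximal R).ne_top ((Ideal.eq_top_iff_one _).2 this)
  have hli : LinearIndependent R b := by
    rw [Fintype.linearIndependent_iff]
    intro c hc i
    have hj : ∀ (j : ℕ) (c : Fin t → R), ∑ i, c i • b i = 0 → ∀ i, c i ∈ Ideal.span {u ^ j} := by
      intro j
      induction j with
      | zero => intro c _ i; simp
      | succ j ihj =>
        intro c hc i
        choose a ha using fun l => Ideal.mem_span_singleton'.1 (hrel c hc l)
        have h0 : ∑ l, a l • b l = 0 := by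
          refine Subtype.ext (funext fun l => hu.left ?_)
          have := congrFun (congrArg Subtype.val hc) l
          simp only [← ha, Submodule.coe_sum, Finset.sum_apply, Submodule.coe_smul, Pi.smul_apply, smul_eq_mul,
            ZeroMemClass.coe_zero, Pi.zero_apply] at this ⊢
          rw [mul_zero, ← this, Finset.mul_sum]
          exact Finset.sum_congr rfl fun _ _ => by ring
        obtain ⟨e, he⟩ := Ideal.mem_span_singleton'.1 (ihj a h0 i)
        exact Ideal.mem_span_singleton'.2 ⟨e, by rw [← ha i, ← he, pow_succ, mul_assoc]⟩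
    have hu' : Ideal.span {u} ≠ ⊤ := ne_top_of_le_ne_top (maximalIdeal.isMaximal R).ne_top
      ((Ideal.span_singleton_le_iff_mem _).2 (hm ▸ Ideal.subset_span (by simp)))
    have := (Submodule.mem_iInf fun j : ℕ => (Ideal.span {u}) ^ j).2 fun j => by
      rw [Ideal.span_singleton_pow]; exact hj j c hc i
    rwa [Ideal.iInf_pow_eq_bot_of_isLocalRing _ hu', Ideal.mem_bot] at this
  exact ⟨t, ⟨Module.Basis.mk hli hb.ge⟩⟩

set_option maxHeartbeats 1000000 in
/-- The tangent bound for the Hilbert scheme of points of a two-dimensional regular local ring. -/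
theorem finrank_hom_le (hu : IsRegular u) (hv : ∀ a, v * a ∈ Ideal.span {u} → a ∈ Ideal.span {u})
    (hm : maximalIdeal R = Ideal.span {u, v}) (I : Ideal R) [Module.Finite k (R ⧸ I)] :
    Module.Finite k (I →ₗ[R] R ⧸ I) ∧ Module.finrank k (I →ₗ[R] R ⧸ I) ≤ 2 * Module.finrank k (R ⧸ I) := by
  classical
  obtain ⟨N, hN⟩ : ∃ N : ℕ, ∀ r ∈ maximalIdeal R, r ^ (N + 1) ∈ I := by
    haveI : IsArtinianRing (R ⧸ I) := IsArtinianRing.of_finite k _
    obtain ⟨M, hM⟩ := IsArtinianRing.isNilpotent_jacobson_bot (R := R ⧸ I)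
    refine ⟨M, fun r hr => I.mul_mem_left _ (?_ : r ^ M ∈ I) |> fun h => by rw [pow_succ']; exact h⟩
    rw [← Ideal.Quotient.eq_zero_iff_mem, map_pow, ← Ideal.mem_bot, ← Ideal.zero_eq_bot, ← hM]
    refine Ideal.pow_mem_pow ?_ M
    rw [Ideal.mem_jacobson_bot]
    intro y
    obtain ⟨y, rfl⟩ := Ideal.Quotient.mk_surjective y
    rw [← map_mul, ← map_one (Ideal.Quotient.mk I), ← map_add]
    refine IsUnit.map _ ?_
    by_contra h
    have := sub_mem ((mem_maximalIdeal _).2 h : r * y + 1 ∈ maximalIdeal R) ((maximalIdeal R).mul_mem_right y hr)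
    rw [add_sub_cancel_left] at this
    exact (maximalIdeal.isMaximal R).ne_top ((Ideal.eq_top_iff_one _).2 this)
  let f : R := u ^ (N + 1)
  let g : R := v ^ (N + 1)
  have hf : IsRegular f := hu.pow _
  have hfI : f ∈ I := hN u (hm ▸ Ideal.subset_span (by simp))
  have hgI : g ∈ I := hN v (hm ▸ Ideal.subset_span (by simp))
  let A₀ : Ideal R := Ideal.span {f, g}
  obtain ⟨G, hG⟩ := IsNoetherian.noetherian I
  obtain ⟨t, y, hy0, hy⟩ : ∃ (t : ℕ) (y : Fin (t + 1) → R), y 0 = f ∧ Submodule.span R (Set.range y) = I := by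
    refine ⟨G.card, Fin.cons f (fun j => (G.equivFin.symm j : R)), rfl, ?_⟩
    have hr : Set.range (fun j : Fin G.card => (G.equivFin.symm j : R)) = ↑G := by
      ext x
      exact ⟨by rintro ⟨j, rfl⟩; exact (G.equivFin.symm j).2, fun h => ⟨G.equivFin ⟨x, h⟩, by simp⟩⟩
    rw [Fin.range_cons, hr, Submodule.span_insert, hG, sup_eq_right, Submodule.span_singleton_le_iff_mem]
    exact hfI
  let π : (Fin (t + 1) → R) →ₗ[R] R := Fintype.linearCombination R y
  have hπ : LinearMap.range π = I := by rw [Fintype.range_linearCombination]; exact hy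
  have hπ0 : π (Pi.single 0 1) = f := by simp [π, hy0, Fintype.linearCombination_apply_single]
  obtain ⟨qg, hqg⟩ : g ∈ LinearMap.range π := hπ.ge hgI
  obtain ⟨t', ⟨bK⟩⟩ := exists_basis_ker hu hv hm π
  let K := LinearMap.ker π
  have htt : t ≤ t' := by
    let e : (Fin t → R) →ₗ[R] K :=
      { toFun := fun c => ⟨f • Fin.cons 0 c - (∑ j, c j * y j.succ) • Pi.single 0 1, by
          refine (map_sub π _ _).trans ?_
          rw [map_smul, map_smul, hπ0, sub_eq_zero, Fintype.linearCombination_apply, Fin.sum_univ_succ]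
          simp only [Fin.cons_zero, Fin.cons_succ, smul_eq_mul, zero_mul, zero_add]
          rw [mul_comm]⟩
        map_add' := fun a b => Subtype.ext (funext fun i => by
          refine Fin.cases ?_ (fun l => ?_) i <;>
            simp [Finset.sum_add_distrib, add_mul, mul_add] <;> ring)
        map_smul' := fun r a => Subtype.ext (funext fun i => by
          refine Fin.cases ?_ (fun l => ?_) i <;>
            simp [Finset.mul_sum, mul_assoc, mul_left_comm]) }
    have he : Function.Injective e := (injective_iff_map_eq_zero e).2 fun c hc => funext fun l => by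
      have := congrFun (congrArg Subtype.val hc) l.succ
      simp [e] at this
      exact hf.left (this.trans (mul_zero f).symm)
    exact le_of_fin_injective (R := R) (bK.equivFun.toLinearMap.comp e) (bK.equivFun.injective.comp he)
  let Q := R ⧸ I
  let eP : (Fin (t + 1) → Q) ≃ₗ[k] ((Fin (t + 1) → R) →ₗ[R] Q) := (Pi.basisFun R (Fin (t + 1))).constr k
  let eK : (Fin t' → Q) ≃ₗ[k] (K →ₗ[R] Q) := bK.constr k
  haveI : Module.Finite k ((Fin (t + 1) → R) →ₗ[R] Q) := Module.Finite.equiv eP
  haveI : Module.Finite k (K →ₗ[R] Q) := Module.Finite.equiv eK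
  have dP : Module.finrank k ((Fin (t + 1) → R) →ₗ[R] Q) = (t + 1) * Module.finrank k Q := by
    rw [← eP.finrank_eq, Module.finrank_pi_fintype]; simp
  have dK : Module.finrank k (K →ₗ[R] Q) = t' * Module.finrank k Q := by
    rw [← eK.finrank_eq, Module.finrank_pi_fintype]; simp
  let res : ((Fin (t + 1) → R) →ₗ[R] Q) →ₗ[k] (K →ₗ[R] Q) :=
    { toFun := fun φ => φ.comp K.subtype, map_add' := fun _ _ => rfl, map_smul' := fun _ _ => rfl }
  let κ : K := ⟨g • Pi.single 0 1 - f • qg, by
    rw [LinearMap.mem_ker, map_sub, map_smul, map_smul, hπ0, hqg, smul_eq_mul, smul_eq_mul, mul_comm, sub_self]⟩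
  let Θ : (K →ₗ[R] R) →ₗ[k] R ⧸ A₀ :=
    { toFun := fun ψ => Ideal.Quotient.mk A₀ (ψ κ)
      map_add' := fun a b => by simp
      map_smul' := fun c a => by
        simp only [LinearMap.smul_apply, RingHom.id_apply]
        rw [Algebra.smul_def c (a κ), map_mul, Algebra.smul_def c (Ideal.Quotient.mk A₀ (a κ))]
        rfl }
  have hΘ : LinearMap.range Θ ≤ ann (k := k) A₀ I := by
    rintro _ ⟨ψ, rfl⟩ z hz
    obtain ⟨q, rfl⟩ : z ∈ LinearMap.range π := hπ.ge hz
    let w1 : K := ⟨π q • Pi.single 0 1 - f • q, by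
      rw [LinearMap.mem_ker, map_sub, map_smul, map_smul, hπ0, smul_eq_mul, smul_eq_mul, mul_comm, sub_self]⟩
    let w2 : K := ⟨π q • qg - g • q, by
      rw [LinearMap.mem_ker, map_sub, map_smul, map_smul, hqg, smul_eq_mul, smul_eq_mul, mul_comm, sub_self]⟩
    have hw : π q • κ = g • w1 - f • w2 := Subtype.ext (funext fun l => by simp [κ, w1, w2]; ring)
    show Ideal.Quotient.mk A₀ (ψ κ) * Ideal.Quotient.mk A₀ (π q) = 0
    rw [← map_mul, mul_comm, ← smul_eq_mul, ← map_smul, hw, map_sub, map_smul, map_smul,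
      Ideal.Quotient.eq_zero_iff_mem]
    exact sub_mem (Ideal.mul_mem_right _ _ (Ideal.subset_span (by simp)))
      (Ideal.mul_mem_right _ _ (Ideal.subset_span (by simp)))
  let Φ : (K →ₗ[R] R) →ₗ[k] (K →ₗ[R] Q) ⧸ LinearMap.range res :=
    (LinearMap.range res).mkQ.comp
      ({ toFun := fun ψ => (Ideal.Quotient.mkₐ R I).toLinearMap.comp ψ
         map_add' := fun a b => LinearMap.ext fun x => by simp
         map_smul' := fun c a => LinearMap.ext fun x => map_smul (Ideal.Quotient.mkₐ k I) c (a x) } :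
        (K →ₗ[R] R) →ₗ[k] (K →ₗ[R] Q))
  have hΦ : Function.Surjective Φ := by
    refine (Submodule.mkQ_surjective _).comp fun φ => ?_
    choose b hb using fun i => Ideal.Quotient.mk_surjective (I := I) (φ (bK i))
    refine ⟨bK.constr k b, bK.ext fun i => ?_⟩
    show Ideal.Quotient.mk I (bK.constr k b (bK i)) = _
    rw [Module.Basis.constr_basis, hb]
  have hker : LinearMap.ker Θ ≤ LinearMap.ker Φ := fun ψ hψ => by
    obtain ⟨a, b, hab⟩ := Ideal.mem_span_pair.1 (Ideal.Quotient.eq_zero_iff_mem.1 (show Ideal.Quotient.mk A₀ (ψ κ) = 0 from hψ))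
    have hl : ∀ l : Fin (t + 1), ∃ c : R, c * f = b * π (Pi.single l 1) -
        ψ ⟨π (Pi.single l 1) • Pi.single 0 1 - f • Pi.single l 1, by
          rw [LinearMap.mem_ker, map_sub, map_smul, map_smul, hπ0, smul_eq_mul, smul_eq_mul, mul_comm, sub_self]⟩ := by
      intro l
      let q : Fin (t + 1) → R := Pi.single l 1
      let w1 : K := ⟨π q • Pi.single 0 1 - f • q, by
        rw [LinearMap.mem_ker, map_sub, map_smul, map_smul, hπ0, smul_eq_mul, smul_eq_mul, mul_comm, sub_self]⟩
      let w2 : K := ⟨π q • qg - g • q, by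
        rw [LinearMap.mem_ker, map_sub, map_smul, map_smul, hqg, smul_eq_mul, smul_eq_mul, mul_comm, sub_self]⟩
      have hw : g • w1 = π q • κ + f • w2 := Subtype.ext (funext fun l => by simp [κ, w1, w2]; ring)
      have h1 := congrArg ψ hw
      rw [map_add, map_smul, map_smul, map_smul, smul_eq_mul, smul_eq_mul, smul_eq_mul, ← hab] at h1
      exact Ideal.mem_span_singleton'.1 (pow_cancel_span_pow hu hv (N + 1) (N + 1) _
        (Ideal.mem_span_singleton'.2 ⟨-(π q * a + ψ w2), by
          show -(π q * a + ψ w2) * f = g * (b * π q - ψ w1)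
          linear_combination h1⟩))
    choose c hc using hl
    let θ : (Fin (t + 1) → R) →ₗ[R] R := Fintype.linearCombination R c
    have hθ : ∀ w : K, θ w = ψ w := fun w => by
      refine hf.right ?_
      show θ w * f = ψ w * f
      let L : (Fin (t + 1) → R) →ₗ[R] K :=
        { toFun := fun q => ⟨π q • Pi.single 0 1 - f • q, by
            rw [LinearMap.mem_ker, map_sub, map_smul, map_smul, hπ0, smul_eq_mul, smul_eq_mul, mul_comm, sub_self]⟩
          map_add' := fun p q => Subtype.ext (by simp [add_smul]; abel)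
          map_smul' := fun r q => Subtype.ext (by simp [mul_smul, smul_sub, smul_comm r f]) }
      have e : f • θ = b • π - ψ.comp L := LinearMap.pi_ext fun l r => by
        have : Pi.single l r = r • (Pi.single l 1 : Fin (t + 1) → R) := by rw [← Pi.single_smul, smul_eq_mul, mul_one]
        rw [this, map_smul, map_smul]
        congr 1
        simp only [LinearMap.smul_apply, LinearMap.sub_apply, LinearMap.comp_apply, smul_eq_mul, θ,
          Fintype.linearCombination_apply_single, one_mul]
        rw [mul_comm]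
        exact hc l
      have h2 := LinearMap.congr_fun e (w : Fin (t + 1) → R)
      have h3 : L (w : Fin (t + 1) → R) = -f • w := Subtype.ext (by
        simp [L, LinearMap.mem_ker.1 w.2])
      simp only [LinearMap.smul_apply, LinearMap.sub_apply, LinearMap.comp_apply, smul_eq_mul, h3, map_smul,
        LinearMap.mem_ker.1 w.2] at h2
      linear_combination h2
    refine (Submodule.Quotient.mk_eq_zero _).2 ⟨(Ideal.Quotient.mkₐ R I).toLinearMap.comp θ, LinearMap.ext fun w => ?_⟩
    exact congrArg (Ideal.Quotient.mk I) (hθ w)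
  obtain ⟨hAf, hAn⟩ := finite_ann (k := k) hu hv hm N (Module.finrank k Q) I
    (Ideal.span_le.2 (by rintro _ (rfl | rfl); exacts [hfI, hgI])) rfl
  haveI := hAf
  haveI : Module.Finite k (LinearMap.range Θ) :=
    Module.Finite.of_injective (Submodule.inclusion hΘ) (Submodule.inclusion_injective hΘ)
  haveI : Module.Finite k ((K →ₗ[R] R) ⧸ LinearMap.ker Θ) := Module.Finite.equiv Θ.quotKerEquivRange.symm
  have hcok : Module.finrank k ((K →ₗ[R] Q) ⧸ LinearMap.range res) ≤ Module.finrank k Q := by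
    refine (LinearMap.finrank_le_finrank_of_surjective (f := (LinearMap.ker Θ).liftQ Φ hker) ?_).trans ?_
    · intro x; obtain ⟨z, rfl⟩ := hΦ x; exact ⟨Submodule.Quotient.mk z, rfl⟩
    · rw [Θ.quotKerEquivRange.finrank_eq]
      exact (Submodule.finrank_mono hΘ).trans hAn
  let π' : (Fin (t + 1) → R) →ₗ[R] I := π.codRestrict I fun q => hπ.le ⟨q, rfl⟩
  let pre : (I →ₗ[R] Q) →ₗ[k] ((Fin (t + 1) → R) →ₗ[R] Q) :=
    { toFun := fun φ => φ.comp π', map_add' := fun _ _ => rfl, map_smul' := fun _ _ => rfl }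
  have hπ' : Function.Surjective π' := fun z => by
    obtain ⟨q, hq⟩ : (z : R) ∈ LinearMap.range π := hπ.ge z.2
    exact ⟨q, Subtype.ext hq⟩
  have hpre : Function.Injective pre := fun a b h => LinearMap.ext fun z => by
    obtain ⟨q, rfl⟩ := hπ' z
    exact LinearMap.congr_fun h q
  have hprek : LinearMap.range pre ≤ LinearMap.ker res := by
    rintro _ ⟨φ, rfl⟩
    refine LinearMap.ext fun w => ?_
    show φ (π' w) = 0
    rw [show π' (w : Fin (t + 1) → R) = 0 from Subtype.ext w.2, map_zero]
  refine ⟨Module.Finite.of_injective pre hpre, ?_⟩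
  have h1 := LinearMap.finrank_range_add_finrank_ker res
  have h2 := Submodule.finrank_quotient_add_finrank (LinearMap.range res)
  have h3 : Module.finrank k (I →ₗ[R] Q) ≤ Module.finrank k (LinearMap.ker res) := by
    rw [← LinearMap.finrank_range_of_inj hpre]
    exact Submodule.finrank_mono hprek
  have h4 : t * Module.finrank k Q ≤ t' * Module.finrank k Q := Nat.mul_le_mul_right _ htt
  rw [dP] at h1
  rw [dK] at h2
  rw [add_mul, one_mul] at h1
  show Module.finrank k (I →ₗ[R] Q) ≤ 2 * Module.finrank k Q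
  omega

end HilbPts.TangentLocal

end
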