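import Groth.Agent.HilbPtsLib.Basic
import Groth.Agent.HilbPtsLib.SpecId
import Mathlib.RingTheory.Finiteness.Projective
import Mathlib.RingTheory.Flat.EquationalCriterion
import Mathlib.RingTheory.Finiteness.ModuleFinitePresentation
import Mathlib.LinearAlgebra.TensorProduct.Basic

/-!
# Where a closed subscheme of a finite locally free scheme is everything
-/

set_option autoImplicit false
set_option linter.style.haveILetI false
set_option linter.unusedSectionVars false
set_option backward.isDefEq.respectTransparency false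
set_option backward.isDefEq.respectTransparency.types false

universe u

open CategoryTheory CategoryTheory.Limits AlgebraicGeometry TensorProduct

noncomputable section

namespace HilbPts

variable {Z T : Scheme.{u}} (π : Z ⟶ T)

/-- A closed subscheme contains the base change of `Z` along a map. -/
def Full (J : Z.IdealSheafData) {T' : Scheme.{u}} (h : T' ⟶ T) : Prop := J.comap (pullback.fst π h) = ⊥

variable {π}

theorem full_comp {J : Z.IdealSheafData} {T' T'' : Scheme.{u}} {h : T' ⟶ T} (H : Full π J h) (v : T'' ⟶ T') :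
    Full π J (v ≫ h) := by
  rw [Full, ← m_fst π v (rfl : v ≫ h = _), Scheme.IdealSheafData.comap_comp]
  rw [H, Scheme.IdealSheafData.comap_bot]

theorem full_of_cover {J : Z.IdealSheafData} {T' : Scheme.{u}} {h : T' ⟶ T} (𝒰 : Scheme.OpenCover.{u} T')
    (H : ∀ i, Full π J (𝒰.f i ≫ h)) : Full π J h := by
  refine eq_of_cover (coverM (f := π) 𝒰 h _ fun i => (rfl : 𝒰.f i ≫ h = _)) fun i => ?_
  show (J.comap (pullback.fst π h)).comap (m π (𝒰.f i) rfl) = (⊥ : Scheme.IdealSheafData _).comap (m π (𝒰.f i) rfl)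
  rw [Scheme.IdealSheafData.comap_bot, ← Scheme.IdealSheafData.comap_comp, m_fst]
  exact H i

theorem full_snd_iff {J : Z.IdealSheafData} {T₀ T' : Scheme.{u}} (ι : T₀ ⟶ T) (h : T' ⟶ T₀) :
    Full (pullback.snd π ι) (J.comap (pullback.fst π ι)) h ↔ Full π J (h ≫ ι) := by
  rw [Full, Full, ← Scheme.IdealSheafData.comap_comp, ← pullbackLeftPullbackSndIso_hom_fst π ι h,
    Scheme.IdealSheafData.comap_comp]
  constructor
  · intro H
    have := congrArg (·.comap (pullbackLeftPullbackSndIso π ι h).inv) H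
    simpa only [← Scheme.IdealSheafData.comap_comp, Iso.inv_hom_id_assoc, Iso.inv_hom_id, Category.id_comp, Scheme.IdealSheafData.comap_bot]
      using this
  · intro H
    rw [H, Scheme.IdealSheafData.comap_bot]

theorem sid_eq_bot_iff {C : Type u} [CommRing C] {J : Ideal C} : sid J = ⊥ ↔ J = ⊥ := by
  constructor
  · intro h
    rw [← le_bot_iff, ← sid_le_sid_iff, h]
    exact bot_le
  · rintro rfl
    obtain ⟨K, hK⟩ := exists_sid (⊥ : (Spec (.of C)).IdealSheafData)
    exact le_bot_iff.1 (hK ▸ sid_le_sid_iff.2 bot_le)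

theorem exists_locus_alg {R M : Type u} [CommRing R] [CommRing M] [Algebra R M] [Module.Finite R M]
    [Module.Projective R M] (J : Ideal M) :
    ∃ K : Ideal R, ∀ (R' : Type u) [CommRing R'] [Algebra R R'],
      J.map (Algebra.TensorProduct.includeLeftRingHom : M →+* M ⊗[R] R') = ⊥ ↔ K.map (algebraMap R R') = ⊥ := by
  refine ⟨Ideal.span (Set.range fun p : (M →ₗ[R] R) × J => p.1 p.2), fun R' _ _ => ?_⟩
  rw [Ideal.map_eq_bot_iff_le_ker, Ideal.map_eq_bot_iff_le_ker, Ideal.span_le]
  constructor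
  · rintro hJ _ ⟨⟨φ, j, hj⟩, rfl⟩
    have h0 : j ⊗ₜ[R] (1 : R') = 0 := hJ hj
    have := congrArg (TensorProduct.lid R R' ∘ₗ φ.rTensor R' : M ⊗[R] R' → R') h0
    rw [map_zero] at this
    simpa [Algebra.smul_def] using this
  · intro hK j hj
    obtain ⟨n, q, s, -, -, hqs⟩ := Module.Finite.exists_comp_eq_id_of_projective R M
    show j ⊗ₜ[R] (1 : R') = 0
    have hj' : q (s j) = j := LinearMap.congr_fun hqs j
    rw [← hj']
    have hi : ∀ i, algebraMap R R' (s j i) = 0 := fun i => hK ⟨⟨(LinearMap.proj i).comp s, j, hj⟩, rfl⟩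
    have e : s j = ∑ i, s j i • (Pi.single i 1 : Fin n → R) := by
      funext k; simp [Pi.single_apply]
    rw [e, map_sum, TensorProduct.sum_tmul]
    refine Finset.sum_eq_zero fun i _ => ?_
    rw [map_smul, TensorProduct.smul_tmul, Algebra.smul_def, hi, zero_mul, TensorProduct.tmul_zero]

theorem exists_locus_affine {R M : Type u} [CommRing R] [CommRing M] [Algebra R M] [Module.Finite R M]
    [Module.Projective R M] (J : (Spec (.of M)).IdealSheafData) :
    ∃ K : (Spec (.of R)).IdealSheafData, ∀ {T' : Scheme.{u}} (h : T' ⟶ Spec (.of R)),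
      Full (Spec.map (CommRingCat.ofHom (algebraMap R M))) J h ↔ K.comap h = ⊥ := by
  obtain ⟨J, rfl⟩ := exists_sid J
  obtain ⟨K, hK⟩ := exists_locus_alg (R := R) J
  have key : ∀ (R' : CommRingCat.{u}) (h : Spec R' ⟶ Spec (.of R)),
      Full (Spec.map (CommRingCat.ofHom (algebraMap R M))) (sid J) h ↔ (sid K).comap h = ⊥ := by
    intro R' h
    obtain ⟨ψ, rfl⟩ := Spec.map_surjective h
    letI : Algebra R R' := ψ.hom.toAlgebra
    have hψ : Spec.map ψ = Spec.map (CommRingCat.ofHom (algebraMap R R')) := rfl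
    rw [hψ, comap_sid (C := R) (C' := R'), sid_eq_bot_iff, ← hK R', ← sid_eq_bot_iff, ← comap_sid, Full]
    constructor
    · intro H
      have := congrArg (·.comap (pullbackSpecIso R M R').inv) H
      simp only [← Scheme.IdealSheafData.comap_comp, Scheme.IdealSheafData.comap_bot] at this
      rwa [pullbackSpecIso_inv_fst] at this
    · intro H
      rw [← pullbackSpecIso_hom_fst R M R', Scheme.IdealSheafData.comap_comp]
      rw [H, Scheme.IdealSheafData.comap_bot]
  refine ⟨sid K, fun {T'} h => ⟨fun H => ?_, fun H => ?_⟩⟩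
  · refine eq_of_cover T'.affineCover fun i => ?_
    rw [Scheme.IdealSheafData.comap_bot, ← Scheme.IdealSheafData.comap_comp]
    exact (key _ _).1 (full_comp H _)
  · refine full_of_cover T'.affineCover fun i => (key _ _).2 ?_
    rw [Scheme.IdealSheafData.comap_comp, H, Scheme.IdealSheafData.comap_bot]

theorem exists_locus_spec {R : CommRingCat.{u}} (π : Z ⟶ Spec R) (hπ : Mor2.IsFinLocFree π) (J : Z.IdealSheafData) :
    ∃ K : (Spec R).IdealSheafData, ∀ {T' : Scheme.{u}} (h : T' ⟶ Spec R), Full π J h ↔ K.comap h = ⊥ := by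
  haveI := hπ.1
  haveI := hπ.2.1
  haveI := hπ.2.2
  haveI : IsAffine Z := isAffine_of_isAffineHom π
  obtain ⟨φ, hφ⟩ := Spec.map_surjective (Z.isoSpec.inv ≫ π)
  letI : Algebra R Γ(Z, ⊤) := φ.hom.toAlgebra
  have e : Spec.map (CommRingCat.ofHom (algebraMap R Γ(Z, ⊤))) = Z.isoSpec.inv ≫ π := hφ
  haveI : Module.Finite R Γ(Z, ⊤) := RingHom.finite_algebraMap.1 ((IsFinite.SpecMap_iff _).1 (by rw [hφ]; infer_instance))
  haveI : Module.Flat R Γ(Z, ⊤) := RingHom.flat_algebraMap_iff.1 (Flat.SpecMap_iff.1 (by rw [hφ]; infer_instance))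
  haveI : Algebra.FinitePresentation R Γ(Z, ⊤) := RingHom.finitePresentation_algebraMap.1
    ((HasRingHomProperty.Spec_iff (P := @LocallyOfFinitePresentation)).1 (by rw [hφ]; infer_instance))
  haveI : Module.FinitePresentation R Γ(Z, ⊤) := Module.FinitePresentation.of_finite_of_finitePresentation R _
  haveI : Module.Projective R Γ(Z, ⊤) := Module.Flat.projective_of_finitePresentation
  obtain ⟨K, hK⟩ := exists_locus_affine (R := R) (J.comap Z.isoSpec.inv)
  refine ⟨K, fun {T'} h => Iff.trans ?_ (hK h)⟩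
  rw [Full, Full, ← Scheme.IdealSheafData.comap_comp]
  have w : Z.isoSpec.hom ≫ Spec.map (CommRingCat.ofHom (algebraMap R Γ(Z, ⊤))) = π := by
    rw [e, Iso.hom_inv_id_assoc]
  let a : pullback π h ⟶ pullback (Spec.map (CommRingCat.ofHom (algebraMap R Γ(Z, ⊤)))) h :=
    pullback.map _ _ _ _ Z.isoSpec.hom (𝟙 _) (𝟙 _) (by rw [Category.comp_id, w]) (by simp)
  have ha : a ≫ pullback.fst _ _ ≫ Z.isoSpec.inv = pullback.fst π h := by simp [a]
  rw [← ha, Scheme.IdealSheafData.comap_comp]
  constructor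
  · intro H
    have := congrArg (·.comap (inv a)) H
    simp only [← Scheme.IdealSheafData.comap_comp, Scheme.IdealSheafData.comap_bot, IsIso.inv_hom_id_assoc,
      IsIso.inv_hom_id, Category.id_comp] at this
    exact this
  · intro H
    rw [H, Scheme.IdealSheafData.comap_bot]

/-- The locus where a closed subscheme is all of a finite locally free scheme is closed. -/
theorem exists_locus (hπ : Mor2.IsFinLocFree π) (J : Z.IdealSheafData) :
    ∃ K : T.IdealSheafData, ∀ {T' : Scheme.{u}} (h : T' ⟶ T), Full π J h ↔ K.comap h = ⊥ := by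
  let 𝒰 := T.affineCover
  have H : ∀ i, ∃ K : (𝒰.X i).IdealSheafData, ∀ {T' : Scheme.{u}} (h : T' ⟶ 𝒰.X i), Full π J (h ≫ 𝒰.f i) ↔ K.comap h = ⊥ := fun i => by
    obtain ⟨K, hK⟩ := exists_locus_spec (pullback.snd π (𝒰.f i))
      ⟨MorphismProperty.pullback_snd (P := @IsFinite) _ _ hπ.1, MorphismProperty.pullback_snd (P := @Flat) _ _ hπ.2.1,
        MorphismProperty.pullback_snd (P := @LocallyOfFinitePresentation) _ _ hπ.2.2⟩ (J.comap (pullback.fst π (𝒰.f i)))
    exact ⟨K, fun {T'} h => (full_snd_iff _ h).symm.trans (hK h)⟩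
  choose K hK using H
  have hle : ∀ {W : Scheme.{u}} (A B : W.IdealSheafData),
      (∀ {T' : Scheme.{u}} (h : T' ⟶ W), A.comap h = ⊥ → B.comap h = ⊥) → B ≤ A := fun A B hAB => by
    have h1 : A.comap A.subschemeι = ⊥ := (comap_eq_bot_iff _ _).2 A.ker_subschemeι.ge
    exact ((comap_eq_bot_iff _ _).1 (hAB _ h1)).trans A.ker_subschemeι.le
  obtain ⟨I, hI⟩ := exists_glue 𝒰 K fun i j => by
    refine le_antisymm (hle _ _ fun h => ?_) (hle _ _ fun h => ?_)
    all_goals
      rw [← Scheme.IdealSheafData.comap_comp, ← Scheme.IdealSheafData.comap_comp, ← hK, ← hK, Category.assoc,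
        Category.assoc, pullback.condition]
      exact id
  refine ⟨I, fun {T'} h => ?_⟩
  constructor
  · intro H
    refine eq_of_cover (𝒰.pullback₁ h) fun i => ?_
    show (I.comap h).comap (pullback.fst h (𝒰.f i)) = (⊥ : Scheme.IdealSheafData _).comap _
    rw [Scheme.IdealSheafData.comap_bot, ← Scheme.IdealSheafData.comap_comp, pullback.condition,
      Scheme.IdealSheafData.comap_comp, hI, ← hK, ← pullback.condition]
    exact full_comp H _
  · intro H
    refine full_of_cover (𝒰.pullback₁ h) fun i => ?_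
    show Full π J (pullback.fst h (𝒰.f i) ≫ h)
    rw [pullback.condition, hK, ← hI, ← Scheme.IdealSheafData.comap_comp, ← pullback.condition,
      Scheme.IdealSheafData.comap_comp, H, Scheme.IdealSheafData.comap_bot]

end HilbPts

end
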